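import Cfsg.Agent.Lib.Perm.Small.PrimeCriterion

/-!
# Simple groups of order 10200960: the finite tests on the parameters
-/

set_option autoImplicit false
set_option maxRecDepth 100000

namespace CfsgLib.Char.MTwentyThreeOrder

open CfsgLib.Perm.PrimeBlock

/-- The full prime parts of the order. -/
def parts : List (ℕ × ℕ) := [(2, 128), (3, 9), (5, 5), (7, 7), (11, 11), (23, 23)]

/-- Whether the degree has the full part of a prime dividing `c`. -/
def fullPart (c d : ℕ) : Bool := parts.any fun x => (c % x.1 == 0) && (d % x.2 == 0)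

/-- The divisors of the order. -/
def divs : List ℕ :=
  [1, 2, 4, 8, 16, 32, 64, 128].flatMap fun a => [1, 3, 9].flatMap fun b => [1, 5].flatMap fun c =>
    [1, 7].flatMap fun d => [1, 11].flatMap fun f => [1, 23].map fun g => a * b * c * d * f * g

/-- The possible degrees of non-trivial characters. -/
def degrees : List ℕ := divs.filter fun d => decide (3 ≤ d) && decide (d * d < 10200960)

/-- The admissible signed degrees. -/
def cands' (p c : ℕ) (extra : ℕ → Bool) : List ℤ :=
  (degrees.flatMap fun (d : ℕ) =>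
      if okAbs 10200960 (10200960 / p) d && extra d && !fullPart c d then [(d : ℤ), -(d : ℤ)] else []).filter
    fun s => (s % (p : ℤ) == 1) && !(decide (1 < c) && kills p s)

/-- The sums of `k` terms of a list, as the bits of a number. -/
def sumBits (L : List ℤ) : ℕ → ℕ
  | 0 => 1
  | k + 1 => L.foldr (fun a r => (sumBits L k <<< (a + 4000).toNat) ||| r) 0

/-- Whether an integer is a sum of `k` terms of a list. -/
def isSum (L : List ℤ) (k : ℕ) (s : ℤ) : Bool := (sumBits L k).testBit (s + 4000 * (k : ℤ)).toNat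

theorem testBit_foldr_of_mem (S : ℕ) (f : ℤ → ℕ) {L : List ℤ} {a : ℤ} {j : ℕ} (ha : a ∈ L)
    (hj : S.testBit j = true) : (L.foldr (fun a r => (S <<< f a) ||| r) 0).testBit (f a + j) = true := by
  induction L with
  | nil => simp at ha
  | cons b L ih =>
    simp only [List.foldr_cons, Nat.testBit_lor, Bool.or_eq_true]
    rcases List.mem_cons.1 ha with rfl | h
    · left
      rw [Nat.testBit_shiftLeft]
      simp [hj]
    · exact Or.inr (ih h)

theorem isSum_of {L : List ℤ} (hL : ∀ a ∈ L, -4000 ≤ a) {ι : Type*} (f : ι → ℤ) :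
    ∀ s : Finset ι, (∀ i ∈ s, f i ∈ L) → isSum L s.card (∑ i ∈ s, f i) = true := by
  classical
  intro s
  induction s using Finset.induction_on with
  | empty => simp [isSum, sumBits]
  | insert a t hat ih =>
    intro h
    have h1 := ih fun i hi => h i (Finset.mem_insert_of_mem hi)
    have hlow : -(4000 * (t.card : ℤ)) ≤ ∑ i ∈ t, f i := by
      calc -(4000 * (t.card : ℤ)) = ∑ i ∈ t, (-4000 : ℤ) := by rw [Finset.sum_const, nsmul_eq_mul]; ring
        _ ≤ ∑ i ∈ t, f i := Finset.sum_le_sum fun i hi => hL _ (h i (Finset.mem_insert_of_mem hi))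
    have ha := h a (Finset.mem_insert_self _ _)
    have ha' := hL _ ha
    rw [Finset.card_insert_of_notMem hat, Finset.sum_insert hat]
    simp only [isSum, sumBits] at h1 ⊢
    rw [show (f a + ∑ i ∈ t, f i + 4000 * ((t.card + 1 : ℕ) : ℤ)).toNat =
      (f a + 4000).toNat + (∑ i ∈ t, f i + 4000 * (t.card : ℤ)).toNat by push_cast; omega]
    exact testBit_foldr_of_mem _ (fun a => (a + 4000).toNat) ha h1

/-- The test on a signed exceptional degree. -/
def excTest (p e c : ℕ) (extra : ℕ → Bool) (D : ℤ) : Bool :=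
  (D % (p : ℤ) == (e : ℤ) % (p : ℤ)) && okAbs 10200960 (10200960 / p) D.natAbs &&
    extra D.natAbs && !fullPart c D.natAbs &&
    !(decide (1 < c) && kills p (-(((p - 1) / e : ℕ) : ℤ) * D))

/-- Whether the parameters admit degrees. -/
def possible' (p e c : ℕ) (extra : ℕ → Bool) : Bool :=
  (degrees.flatMap fun (d : ℕ) => [(d : ℤ), -(d : ℤ)]).any fun D =>
    excTest p e c extra D && isSum (cands' p c extra) (e - 1) (D - 1)

/-- The residues of a degree for a self-centralizing Sylow 23-subgroup with automizer of order eleven. -/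
def res23 (d : ℕ) : Bool := decide (d % 23 ∈ [0, 1, 22, 11, 12])

/-- The residues of a degree for a self-centralizing Sylow 11-subgroup with automizer of order five. -/
def res11 (d : ℕ) : Bool := decide (d % 11 ∈ [0, 1, 10, 5, 6])

/-- The condition on degrees after the primes 23 and 11. -/
def extSmall (d : ℕ) : Bool := res23 d && res11 d && d != 11 && d != 12

/-- The degree is not 23. -/
def not23 (d : ℕ) : Bool := d != 23

theorem test_23 : ∀ n ∈ divs, ∀ e ∈ [2, 11, 22], n % 23 = 1 → 1 < n → 443520 % (n * e) = 0 →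
    (e, 443520 / (n * e)) ∈ [(11, 576), (22, 288), (11, 24), (22, 12), (11, 1)] ∨
      possible' 23 e (443520 / (n * e)) (fun _ => true) = false := by decide +kernel

theorem test_11_big : ∀ n ∈ divs, ∀ e ∈ [2, 5, 10], n % 11 = 1 → 1 < n → 927360 % (n * e) = 0 →
    (927360 / (n * e)) % 24 = 0 →
      927360 / (n * e) ∈ [144, 72] ∨ possible' 11 e (927360 / (n * e)) not23 = false := by decide +kernel

theorem test_11 : ∀ n ∈ divs, ∀ e ∈ [2, 5, 10], n % 11 = 1 → 1 < n → 927360 % (n * e) = 0 →
    (927360 / (n * e)) % 23 ≠ 0 →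
      (e, 927360 / (n * e)) ∈ [(2, 20160), (5, 8064), (2, 1680), (5, 672), (2, 448), (2, 360), (5, 144), (2, 140),
        (5, 56), (10, 28), (2, 96), (2, 63), (2, 30), (5, 12), (2, 8), (5, 1)] ∨
      possible' 11 e (927360 / (n * e)) res23 = false := by decide +kernel

theorem test_7_big : ∀ n ∈ divs, ∀ e ∈ [2, 3, 6], n % 7 = 1 → 1 < n → 1457280 % (n * e) = 0 →
    (1457280 / (n * e)) % 23 ≠ 0 → (1457280 / (n * e)) % 11 = 0 →
      (e, 1457280 / (n * e)) ∈ [(3, 5280), (3, 660), (3, 352), (3, 44)] ∨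
      possible' 7 e (1457280 / (n * e)) res23 = false := by decide +kernel

theorem test_5 : ∀ n ∈ divs, ∀ e ∈ [2, 4], n % 5 = 1 → 1 < n → 2040192 % (n * e) = 0 →
    (2040192 / (n * e)) % 23 ≠ 0 → (2040192 / (n * e)) % 11 ≠ 0 →
      (e, 2040192 / (n * e)) ∈ [(4, 8), (4, 3)] ∨
      possible' 5 e (2040192 / (n * e)) extSmall = false := by decide +kernel

theorem test_7 : ∀ n ∈ divs, ∀ e ∈ [2, 3, 6], n % 7 = 1 → 1 < n → 1457280 % (n * e) = 0 →
    (1457280 / (n * e)) % 23 ≠ 0 → (1457280 / (n * e)) % 11 ≠ 0 → (1457280 / (n * e)) % 5 ≠ 0 →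
      (e, 1457280 / (n * e)) ∈ [(2, 192), (2, 24), (2, 3), (3, 128), (3, 16), (3, 2), (6, 64), (6, 8), (6, 1)] ∨
      possible' 7 e (1457280 / (n * e)) extSmall = false := by decide +kernel

end CfsgLib.Char.MTwentyThreeOrder
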