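import Cfsg.Agent.Lib.Char.MTwentyThreeOrder.Phase.Sieve
import Cfsg.Agent.Lib.Char.MTwentyThreeOrder.Phase.ParamTests

/-!
# Simple groups of order 10200960: the finite tests on the blocks at eleven with larger centralizer
-/

set_option autoImplicit false
set_option maxRecDepth 100000

namespace CfsgLib.Char.MTwentyThreeOrder

open CfsgLib.Perm.PrimeBlock CfsgLib.Char.MTwelveOrder

/-- The conditions on a list of signed degrees. -/
def listOK (p e c : ℕ) (extra : ℕ → Bool) (l : List ℤ) : Bool :=
  ((1 + l.sum) % (p : ℤ) == (e : ℤ) % (p : ℤ)) && okAbs 10200960 (10200960 / p) (1 + l.sum).natAbs &&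
    extra (1 + l.sum).natAbs && !fullPart c (1 + l.sum).natAbs

/-- The values congruent to one modulo `p` and to the degree modulo four, below the degree. -/
def valsOne (p : ℕ) (s : ℤ) : List ℤ :=
  ((List.range (2 * s.natAbs)).map fun i : ℕ => (i : ℤ) - (s.natAbs : ℤ)).filter fun v =>
    decide (v.natAbs < s.natAbs) && ((v - s) % 4 == 0) && ((v - 1) % (p : ℤ) == 0)

/-- Whether an integer is not a square. -/
def notSq (x : ℤ) : Bool := decide (x < 0) || decide (Nat.sqrt x.toNat * Nat.sqrt x.toNat ≠ x.toNat)

/-- No value solves the class equation. -/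
def noTwo (c : ℕ) (s : ℤ) : Bool :=
  (valsOne 11 s).all fun v =>
    let T : ℤ := 1 + v
    let E : ℤ := 1 + s
    let Q : ℤ := 11 * 10200960 * (c : ℤ) * ((fracSum [(s, v)]).1 * E - T * T * (fracSum [(s, v)]).2)
    let R : ℤ := (fracSum [(s, v)]).2 * E
    Q % R != 0 || notSq (Q / R)

theorem two_lists : ∀ c ∈ [360, 96, 30, 8], ∀ s ∈ cands' 11 c res23, listOK 11 2 c res23 [s] = true →
    noTwo c s = true := by decide +kernel

/-- The exceptional values congruent to five modulo eleven. -/
def excVals : List ℤ := [-116, -72, -28, 16, 60, 104, 148]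

/-- The values congruent to one modulo eleven and to the degree modulo four. -/
def vals11 (s : ℤ) : List ℤ :=
  let b : ℤ := -(s.natAbs : ℤ) + (12 + 33 * (s % 4) + (s.natAbs : ℤ)) % 44
  ((List.range (s.natAbs / 22 + 2)).map fun i : ℕ => b + 44 * (i : ℤ)).filter fun v => decide (v.natAbs < s.natAbs)

/-- The signed degree lists in an order suited to the sieve, with common multiples. -/
def fiveOrders : List (List ℤ × ℤ) :=
  [([23, 23, 23, -230], 3680), ([276, -483, 23, 23], 309120), ([23, 276, -230, -230], 11040),
    ([23, 276, 276, -736], 11040), ([23, 1288, -736, -736], 25760), ([1288, -483, -483, -483], 77280),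
    ([-230, -483, 276, 276], 309120), ([-230, -483, 1288, -736], 77280)]

/-- The squares of the degrees in the block do not exceed the order. -/
def squaresOK (l : List ℤ) : Bool :=
  decide (1 + (l.map fun s => s * s).sum + 2 * ((1 + l.sum) * (1 + l.sum)) ≤ 10200960)

/-- Whether the list is a rearrangement of a tested one. -/
def inOrders (l : List ℤ) : Bool :=
  (1 + l.sum == -160) && fiveOrders.any fun q => decide (List.Perm q.1 l)

/-- The lists of signed degrees at eleven. -/
def fiveCands : List ℤ := [23, -483, -230, 276, 1288, -2760, -736]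

theorem five_cands : ∀ c ∈ [144, 12], cands' 11 c res23 = fiveCands := by decide +kernel

theorem five_lists : ∀ l ∈ combos fiveCands 4,
    squaresOK l = true → (1 + l.sum) % 11 = 5 → okAbs 10200960 927360 (1 + l.sum).natAbs = true →
      res23 (1 + l.sum).natAbs = true → inOrders l = true := by decide +kernel

theorem five_sieve : ∀ q ∈ fiveOrders, (q.1.all fun s => q.2 % s == 0) = true ∧ q.2 % 160 = 0 ∧
    (excVals.all fun T => noSol (sieveData q.2 vals11 q.1) (q.2 - q.2 / -160 * (T * T)) (T - 1)) = true := by
  decide +kernel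

/-- No assignment of values at seven solves the homogeneous equation. -/
def noSeven (l : List ℤ) : Bool :=
  (assignsF (fun s => valsFor (s * s).natAbs s) l).all fun a => !zeroE a

theorem seven_big_lists : ∀ c ∈ [5280, 660, 352, 44], ∀ l ∈ combos (cands' 7 c res23) 2,
    listOK 7 3 c res23 l = true → noSeven l = true := by decide +kernel

end CfsgLib.Char.MTwentyThreeOrder
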