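import Cfsg.Agent.Lib.Char.MTwentyTwoOrder.Degrees
import Cfsg.Agent.Lib.Char.MTwentyTwoOrder.Regular
import Cfsg.Agent.Lib.Char.MTwentyThreeOrder.Phase.ElevenTests
import Cfsg.Agent.Lib.BSW.CharTools
import Cfsg.Agent.Lib.Char.MTwentyTwoOrder.Local.Four

/-!
# Simple groups of order 10200960: general lemmas on the data of a Sylow subgroup of prime order
-/

set_option autoImplicit false
set_option linter.all false

open Cfsg Subgroup CfsgLib.Perm.PrimeBlock CfsgLib.Block CfsgLib.Char.MEleven.Order CfsgLib.Char.MTwelveOrder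
open CfsgLib.Char.MTwentyTwoOrder (PData exists_pdata not_full sylow_split cent_dvd_factorial exists_fixed)

namespace CfsgLib.Char.MTwentyThreeOrder

universe u

theorem dvd_small : (∀ x < 129, 128 % x = 0 → x ∈ [1, 2, 4, 8, 16, 32, 64, 128]) ∧
    (∀ x < 10, 9 % x = 0 → x ∈ [1, 3, 9]) := by decide +kernel

/-- A divisor of the order is in the list of divisors. -/
theorem mem_divs {n : ℕ} (h : n ∣ 10200960) : n ∈ divs := by
  rw [show (10200960 : ℕ) = 128 * 9 * 5 * 7 * 11 * 23 by norm_num] at h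
  obtain ⟨r₁, g, hr₁, hg, rfl⟩ := exists_dvd_and_dvd_of_dvd_mul h
  obtain ⟨r₂, f, hr₂, hf, rfl⟩ := exists_dvd_and_dvd_of_dvd_mul hr₁
  obtain ⟨r₃, d, hr₃, hd, rfl⟩ := exists_dvd_and_dvd_of_dvd_mul hr₂
  obtain ⟨r₄, c, hr₄, hc, rfl⟩ := exists_dvd_and_dvd_of_dvd_mul hr₃
  obtain ⟨a, b, ha, hb, rfl⟩ := exists_dvd_and_dvd_of_dvd_mul hr₄
  have two : ∀ {q x : ℕ}, q.Prime → x ∣ q → x ∈ [1, q] := fun hq hx => by
    simpa using (Nat.dvd_prime hq).1 hx
  simp only [divs, List.mem_flatMap, List.mem_map]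
  exact ⟨a, dvd_small.1 a (Nat.lt_succ_of_le (Nat.le_of_dvd (by norm_num) ha)) (Nat.mod_eq_zero_of_dvd ha),
    b, dvd_small.2 b (Nat.lt_succ_of_le (Nat.le_of_dvd (by norm_num) hb)) (Nat.mod_eq_zero_of_dvd hb),
    c, two (by norm_num) hc, d, two (by norm_num) hd, f, two (by norm_num) hf, g, two (by norm_num) hg, rfl⟩

theorem degrees_le : ∀ d ∈ degrees, d ≤ 4000 := by decide +kernel

theorem cands'_ge (p c : ℕ) (extra : ℕ → Bool) : ∀ a ∈ cands' p c extra, (-4000 : ℤ) ≤ a := by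
  intro a ha
  simp only [cands', List.mem_filter, List.mem_flatMap] at ha
  obtain ⟨⟨d, hd, hmem⟩, -⟩ := ha
  have := degrees_le d hd
  split_ifs at hmem with hcond
  · simp only [List.mem_cons, List.not_mem_nil, or_false] at hmem
    rcases hmem with rfl | rfl <;> omega
  · simp at hmem

theorem parts_spec : ∀ x ∈ parts, x.1.Prime ∧
    ∃ a, x.2 = x.1 ^ a ∧ x.2 ∣ 10200960 ∧ ¬ x.1 ^ (a + 1) ∣ 10200960 := by
  intro x hx
  simp only [parts, List.mem_cons, List.not_mem_nil, or_false] at hx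
  rcases hx with rfl | rfl | rfl | rfl | rfl | rfl
  · exact ⟨Nat.prime_two, 7, by norm_num, by norm_num, by norm_num⟩
  · exact ⟨Nat.prime_three, 2, by norm_num, by norm_num, by norm_num⟩
  · exact ⟨by norm_num, 1, by norm_num, by norm_num, by norm_num⟩
  · exact ⟨by norm_num, 1, by norm_num, by norm_num, by norm_num⟩
  · exact ⟨by norm_num, 1, by norm_num, by norm_num, by norm_num⟩
  · exact ⟨by norm_num, 1, by norm_num, by norm_num, by norm_num⟩

variable {G : Type u} [Group G] [Fintype G] [IsSimpleGroup G]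

theorem noncomm (h : Nat.card G = 10200960) : ¬ IsMulCommutative G := fun hc => by
  haveI := hc
  letI : CommGroup G :=
    { (inferInstance : Group G) with mul_comm := fun a b => IsMulCommutative.is_comm.comm a b }
  have hp : (Nat.card G).Prime := IsSimpleGroup.prime_card (α := G)
  rw [h] at hp
  norm_num at hp

theorem exists_order (h : Nat.card G = 10200960) (q : ℕ) [Fact q.Prime] (hq : q ∣ 10200960) :
    ∃ x : G, orderOf x = q := exists_prime_orderOf_dvd_card' q (h ▸ hq)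

/-- A degree of a non-trivial character is in the list. -/
theorem mem_degrees (h : Nat.card G = 10200960) {χ : IrrCharacter G} (hne : χ ≠ oneChar G) :
    dg χ ∈ degrees := by
  have h3 : 3 ≤ dg χ := degree_ge_three (noncomm h) χ (fun e => hne (Subtype.ext e))
    (by rw [val_one])
  have hsq := sq_degree_lt χ hne
  have hdv : dg χ ∣ 10200960 := h ▸ CfsgLib.Char.degree_dvd_card χ (val_one χ)
  simp only [degrees, List.mem_filter, Bool.and_eq_true, decide_eq_true_eq]
  exact ⟨mem_divs hdv, h3, h ▸ hsq⟩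

section Block

variable {p e c : ℕ} [hp : Fact p.Prime] (D : PData G p e c)

theorem fullPart_X (h : Nat.card G = 10200960) (hpc : ¬ p ∣ c) {χ : IrrCharacter G} (hχ : χ ∈ D.S.X) :
    fullPart c (dg χ) = false := by
  refine Bool.eq_false_iff.2 fun hf => ?_
  simp only [fullPart, List.any_eq_true, Bool.and_eq_true, beq_iff_eq] at hf
  obtain ⟨x, hx, h1, h2⟩ := hf
  obtain ⟨hq, a, ha, hd, hd'⟩ := parts_spec x hx
  haveI : Fact x.1.Prime := ⟨hq⟩
  have hxc := Nat.dvd_of_mod_eq_zero h1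
  exact D.not_full_X hxc (fun he => hpc (he ▸ hxc)) (by rw [h, ← ha]; exact hd) (by rw [h]; exact hd') hχ
    (by rw [← ha]; exact Nat.dvd_of_mod_eq_zero h2)

theorem fullPart_D (h : Nat.card G = 10200960) (hpc : ¬ p ∣ c) : fullPart c D.S.D = false := by
  refine Bool.eq_false_iff.2 fun hf => ?_
  simp only [fullPart, List.any_eq_true, Bool.and_eq_true, beq_iff_eq] at hf
  obtain ⟨x, hx, h1, h2⟩ := hf
  obtain ⟨hq, a, ha, hd, hd'⟩ := parts_spec x hx
  haveI : Fact x.1.Prime := ⟨hq⟩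
  have hxc := Nat.dvd_of_mod_eq_zero h1
  exact D.not_full_D hxc (fun he => hpc (he ▸ hxc)) (by rw [h, ← ha]; exact hd) (by rw [h]; exact hd')
    (by rw [← ha]; exact Nat.dvd_of_mod_eq_zero h2)

/-- A candidate for the signed degree of a block character. -/
theorem mem_cands' (h : Nat.card G = 10200960) {extra : ℕ → Bool} (hpd : p ∣ 10200960) (hpc : ¬ p ∣ c)
    (hx : ∀ χ : IrrCharacter G, χ ≠ oneChar G → extra (dg χ) = true) {χ : IrrCharacter G} (hχ : χ ∈ D.S.X) :
    sd D.S χ ∈ cands' p c extra := by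
  have hg : Nat.card G = 10200960 / p * p := by rw [h, Nat.div_mul_cancel hpd]
  have h1 := mem_cands_sd (noncomm h) D.S D.card_P hg D.cent_P hpc
    (B := 3194) (by rw [h]; norm_num) hχ
  have hne : χ ≠ oneChar G := fun e => D.S.one_notMem_X (e ▸ hχ)
  have habs := natAbs_sd D.S hχ
  rw [h] at h1
  simp only [cands, List.mem_filter, Bool.and_eq_true] at h1
  obtain ⟨-, ⟨hok, hmod⟩, hk⟩ := h1
  rw [habs] at hok
  simp only [cands', List.mem_filter, List.mem_flatMap, Bool.and_eq_true]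
  refine ⟨⟨_, mem_degrees h hne, ?_⟩, hmod, hk⟩
  rw [hok, hx χ hne, fullPart_X D h hpc hχ]
  simp only [Bool.true_and, Bool.not_false, if_true, List.mem_cons, List.not_mem_nil, or_false]
  rcases D.S.sign_X χ hχ with hs | hs <;> simp [sd, hs, dg]

theorem exc_ok (h : Nat.card G = 10200960) {extra : ℕ → Bool} (hpd : p ∣ 10200960) (hep : e ∣ p - 1) (he : 2 ≤ e)
    (hpc : ¬ p ∣ c) (hx : ∀ χ : IrrCharacter G, χ ≠ oneChar G → extra (dg χ) = true) :
    (((D.S.ε * (D.S.D : ℤ)) % (p : ℤ) == (e : ℤ) % (p : ℤ)) &&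
      okAbs 10200960 (10200960 / p) (D.S.ε * (D.S.D : ℤ)).natAbs &&
      extra (D.S.ε * (D.S.D : ℤ)).natAbs && !fullPart c (D.S.ε * (D.S.D : ℤ)).natAbs) = true := by
  obtain ⟨θ, hθ⟩ := nonempty_Y D.S hep (by omega)
  have hg : Nat.card G = 10200960 / p * p := by rw [h, Nat.div_mul_cancel hpd]
  obtain ⟨hok, hmod⟩ : okAbs 10200960 (10200960 / p) (D.S.ε * (D.S.D : ℤ)).natAbs = true ∧
      (D.S.ε * (D.S.D : ℤ)) % (p : ℤ) = (e : ℤ) % (p : ℤ) := by
    have := D.S.okAbs_Y (noncomm h) hg hep he hθ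
    rwa [h] at this
  have habs : (D.S.ε * (D.S.D : ℤ)).natAbs = D.S.D := by rcases D.S.sign with hs | hs <;> simp [hs]
  simp only [Bool.and_eq_true, beq_iff_eq, Bool.not_eq_true']
  refine ⟨⟨⟨hmod, hok⟩, ?_⟩, by rw [habs]; exact fullPart_D D h hpc⟩
  have := hx θ (fun e => D.S.one_notMem_Y (e ▸ hθ))
  rwa [habs, ← show dg θ = D.S.D from D.S.degree_Y θ hθ]

/-- An ordering of the block with admissible signed degrees. -/
theorem exists_lists (h : Nat.card G = 10200960) {extra : ℕ → Bool} (hpd : p ∣ 10200960) (hep : e ∣ p - 1)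
    (he : 2 ≤ e) (hpc : ¬ p ∣ c) (hx : ∀ χ : IrrCharacter G, χ ≠ oneChar G → extra (dg χ) = true) :
    ∃ X' : List (IrrCharacter G), List.Perm X' D.S.X.toList ∧
      X'.map (sd D.S) ∈ combos (cands' p c extra) (e - 1) ∧ listOK p e c extra (X'.map (sd D.S)) = true := by
  obtain ⟨θ, hθ⟩ := nonempty_Y D.S hep (by omega)
  obtain ⟨X', hX', hm⟩ := exists_ordered D.S _ fun χ hχ => mem_cands' D h hpd hpc hx hχ
  refine ⟨X', hX', hm, ?_⟩
  rw [listOK, (hX'.map _).sum_eq, Finset.sum_map_toList, ← rel_one D.S hθ]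
  exact exc_ok D h hpd hep he hpc hx

theorem possible'_eq (D : PData G p e c) (h : Nat.card G = 10200960) {extra : ℕ → Bool} (hpd : p ∣ 10200960)
    (hep : e ∣ p - 1) (he : 2 ≤ e) (hpc : ¬ p ∣ c)
    (hx : ∀ χ : IrrCharacter G, χ ≠ oneChar G → extra (dg χ) = true) : possible' p e c extra = true := by
  classical
  obtain ⟨θ, hθ⟩ := nonempty_Y D.S hep (by omega)
  have hok := exc_ok D h hpd hep he hpc hx
  have hne : θ ≠ oneChar G := fun e => D.S.one_notMem_Y (e ▸ hθ)
  have hD : D.S.D ∈ degrees := (show dg θ = D.S.D from D.S.degree_Y θ hθ) ▸ mem_degrees h hne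
  refine List.any_eq_true.2 ⟨D.S.ε * (D.S.D : ℤ), List.mem_flatMap.2 ⟨_, hD, by
    rcases D.S.sign with hs | hs <;> simp [hs]⟩, ?_⟩
  simp only [excTest, Bool.and_eq_true, beq_iff_eq, Bool.not_eq_true'] at hok ⊢
  refine ⟨⟨hok, ?_⟩, ?_⟩
  · rw [Bool.and_eq_false_iff]
    by_cases hc1 : 1 < c
    · exact Or.inr (D.no_kill (noncomm h) hep he hpc hc1)
    · exact Or.inl (decide_eq_false hc1)
  · rw [rel_one D.S hθ, add_sub_cancel_left, show e - 1 = D.S.X.card by have := D.S.card_X; omega]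
    exact isSum_of (cands'_ge p c extra) _ _ fun χ hχ => mem_cands' D h hpd hpc hx hχ

omit [IsSimpleGroup G] in
include D in
theorem card_e (hc : 0 < c) : (centralizer ((D.P : Subgroup G) : Set G)).relIndex
    (normalizer ((D.P : Subgroup G) : Set G)) = e := by
  have h2 := Subgroup.card_mul_index ((centralizer ((D.P : Subgroup G) : Set G)).subgroupOf
    (normalizer ((D.P : Subgroup G) : Set G)))
  rw [Nat.card_congr (subgroupOfEquivOfLe (centralizer_le_normalizer _)).toEquiv, D.cent_P, D.norm_P,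
    mul_comm e] at h2
  exact Nat.eq_of_mul_eq_mul_left (Nat.mul_pos hp.out.pos hc) h2

omit [IsSimpleGroup G] in
include D in
/-- With an odd automizer no element inverts the Sylow subgroup. -/
theorem no_inverters_odd (hc : 0 < c) (he : ¬ 2 ∣ e) (hodd : p ≠ 2) {x : G} (hx : x ∈ (D.P : Subgroup G))
    (hx1 : x ≠ 1) {u : G} : inverters u x = ∅ := by
  classical
  refine Finset.eq_empty_of_forall_notMem fun a ha => ?_
  obtain ⟨-, hinv⟩ := mem_inverters.1 ha
  have hxo : orderOf x = p := orderOf_mem D.card_P hx hx1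
  have hz : zpowers x = (D.P : Subgroup G) := eq_of_le_of_card_ge (zpowers_le.2 hx) (by
    rw [Nat.card_zpowers, hxo, D.card_P])
  have haN : a ∈ normalizer ((D.P : Subgroup G) : Set G) := by
    refine mem_normalizer_fintype fun w hw => ?_
    have hw' : w ∈ zpowers x := hz.symm ▸ hw
    obtain ⟨k, rfl⟩ := mem_zpowers_iff.1 hw'
    rw [← conj_zpow, hinv]
    exact zpow_mem ((D.P : Subgroup G).inv_mem hx) k
  haveI : ((centralizer ((D.P : Subgroup G) : Set G)).subgroupOf
      (normalizer ((D.P : Subgroup G) : Set G))).Normal := by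
    rw [← normalizerMonoidHom_ker]
    exact MonoidHom.normal_ker _
  have hpow := Subgroup.pow_index_mem ((centralizer ((D.P : Subgroup G) : Set G)).subgroupOf
    (normalizer ((D.P : Subgroup G) : Set G))) ⟨a, haN⟩
  rw [← Subgroup.relIndex, card_e D hc, mem_subgroupOf, SubgroupClass.coe_pow] at hpow
  have hcm : a ^ e * x * (a ^ e)⁻¹ = x := by
    have h1 : x * a ^ e = a ^ e * x := mem_centralizer_iff.1 hpow x hx
    rw [← h1, mul_inv_cancel_right]
  have hpm : ∀ k : ℕ, a ^ k * x * (a ^ k)⁻¹ = if 2 ∣ k then x else x⁻¹ := by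
    intro k
    induction k with
    | zero => simp
    | succ k ih =>
      rw [pow_succ', show a * a ^ k * x * (a * a ^ k)⁻¹ = a * (a ^ k * x * (a ^ k)⁻¹) * a⁻¹ by group, ih]
      by_cases hk : 2 ∣ k
      · rw [if_pos hk, hinv, if_neg (by omega)]
      · rw [if_neg hk, ← conj_inv, hinv, inv_inv, if_pos (by omega)]
  rw [hpm, if_neg he] at hcm
  have h2 : x ^ 2 = 1 := by
    rw [pow_two]; nth_rw 1 [← hcm]; exact inv_mul_cancel x
  have := orderOf_dvd_of_pow_eq_one h2
  rw [hxo] at this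
  exact hodd ((Nat.prime_dvd_prime_iff_eq hp.out Nat.prime_two).1 this)

include D in
/-- With an odd automizer the equation is homogeneous. -/
theorem zero_col_odd (hG : ¬ IsMulCommutative G) (hep : e ∣ p - 1) (he : 1 ≤ e) (hodd : p ≠ 2) (hc : 0 < c)
    (heo : ¬ 2 ∣ e) {u : G} (hu : orderOf u = 2) {X' : List (IrrCharacter G)}
    (hX' : List.Perm X' D.S.X.toList) :
    zeroE (X'.map fun χ => (sd D.S χ, sv D.S u χ)) = true := by
  classical
  obtain ⟨x, hx, hxo⟩ := D.exists_elt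
  have hx1 : x ≠ 1 := fun h => hp.out.one_lt.ne' (by rw [← hxo, h, orderOf_one])
  have hk := exists_sq hodd D.P D.card_P D.cent_P hx hx1 hu
  rw [no_inverters_odd D hc heo hodd hx hx1, Finset.card_empty, mul_zero] at hk
  have hk0 := (Nat.mul_eq_zero.1 hk).resolve_left hp.out.pos.ne'
  obtain ⟨hlt, h4⟩ := D.exc_val hG hep he hodd hu hX'
  have h := D.sq_eq hG hep he hodd hx hx1 hu hX'
  simp only [hk0, Nat.cast_zero, zero_mul] at h
  have hne : ((Nat.card G * c : ℕ) : ℤ) ≠ 0 := by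
    exact_mod_cast (Nat.mul_pos Nat.card_pos hc).ne'
  simp only [zeroE, Bool.and_eq_true, decide_eq_true_eq, beq_iff_eq]
  exact ⟨⟨hlt, h4⟩, (mul_eq_zero.1 h).resolve_left hne⟩

/-- A signed value at an involution of the centralizer is congruent to one. -/
theorem sv_congr (hG : ¬ IsMulCommutative G) (hodd : p ≠ 2) {z : G} (hz : orderOf z = 2)
    (hzC : z ∈ centralizer ((D.P : Subgroup G) : Set G)) {χ : IrrCharacter G} (hχ : χ ∈ D.S.X) :
    (p : ℤ) ∣ sv D.S z χ - 1 := by
  obtain ⟨x, hx, hxo⟩ := D.exists_elt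
  have hx1 : x ≠ 1 := fun h => hp.out.one_lt.ne' (by rw [← hxo, h, orderOf_one])
  have hzr : ¬ p ∣ orderOf z := by
    rw [hz]; exact fun h => hodd ((Nat.prime_dvd_prime_iff_eq hp.out Nat.prime_two).1 h)
  have hxz : Commute x z := mem_centralizer_iff.1 hzC x hx
  have hpw : (x * z) ^ p = z := by
    obtain ⟨k, hk⟩ : ∃ k, p = 2 * k + 1 := by
      obtain ⟨k, hk⟩ := hp.out.odd_of_ne_two hodd; exact ⟨k, hk⟩
    rw [hxz.mul_pow, show x ^ p = 1 by rw [← hxo, pow_orderOf_eq_one], one_mul, hk, pow_succ, pow_mul,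
      show z ^ 2 = 1 by rw [← hz, pow_orderOf_eq_one], one_pow, one_mul]
  have h1 := CfsgLib.BSW.value_pow_prime χ hp.out (g := x * z) (a := D.S.εX χ) (b := iv χ z)
    (D.S.value_X χ hχ x hx hx1 z hzC hzr) (by rw [hpw]; exact val_invol hG χ hz)
  rcases D.S.sign_X χ hχ with hs | hs <;> simp only [sv, hs] at h1 ⊢
  · have := dvd_neg.2 h1; simpa using this
  · simpa [sub_eq_add_neg, add_comm] using h1

theorem exists_cent_invol (hc2 : 2 ∣ c) :
    ∃ z ∈ centralizer ((D.P : Subgroup G) : Set G), orderOf z = 2 := by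
  haveI : Fact (Nat.Prime 2) := ⟨Nat.prime_two⟩
  obtain ⟨z, hz⟩ := exists_prime_orderOf_dvd_card'
    (G := centralizer ((D.P : Subgroup G) : Set G)) 2 (by rw [D.cent_P]; exact hc2.mul_left p)
  exact ⟨z, z.2, by rw [Subgroup.orderOf_coe, hz]⟩

include D in
/-- Commuting elements of two prime orders occur in both centralizers. -/
theorem cross {q e' c' : ℕ} [Fact q.Prime] (D' : PData G q e' c') (hpq : p ≠ q) (hqc : q ∣ c) : p ∣ c' := by
  have hqp : q.Prime := Fact.out
  obtain ⟨x, hx, hxo⟩ := D.exists_elt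
  obtain ⟨y, hy⟩ := exists_prime_orderOf_dvd_card'
    (G := centralizer ((D.P : Subgroup G) : Set G)) q (by rw [D.cent_P]; exact hqc.mul_left p)
  have hyo : orderOf (y : G) = q := by rw [Subgroup.orderOf_coe, hy]
  have h1 := Subgroup.orderOf_dvd_natCard (centralizer ({(y : G)} : Set G))
    (mem_centralizer_singleton_iff.2 (mem_centralizer_iff.1 y.2 x hx))
  rw [D'.cent_of_order hyo, hxo] at h1
  exact ((Nat.Prime.dvd_mul hp.out).1 h1).resolve_left fun h =>
    hpq ((Nat.prime_dvd_prime_iff_eq hp.out hqp).1 h)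

end Block

omit [IsSimpleGroup G] in
/-- An element of prime order centralizes a normalized subgroup whose order has a distinguished residue. -/
theorem prime_centralizes {p : ℕ} [Fact p.Prime] {y : G} (hy : orderOf y = p) {X : Subgroup G}
    (hX : y ∈ normalizer (X : Set G))
    (hres : ∀ d, d ∣ Nat.card X → d % p = Nat.card X % p → d = Nat.card X) :
    X ≤ centralizer ({y} : Set G) := by
  have h1 := CfsgLib.Char.MTwentyTwoOrder.card_modEq_fixed X hy hX
  have h2 : X ⊓ centralizer ({y} : Set G) = X := eq_of_le_of_card_ge inf_le_left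
    (hres _ (card_dvd_of_le inf_le_left) h1.symm).ge
  exact h2 ▸ inf_le_right

end CfsgLib.Char.MTwentyThreeOrder
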