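import Cfsg.Agent.Lib.Char.MTwentyTwoOrder.Eight
import Cfsg.Agent.Lib.Char.MTwentyTwoOrder.Seven
import Cfsg.Agent.S1005

/-!
# Simple groups of order 10200960: the centralizer of a Sylow subgroup of order seven
-/

set_option autoImplicit false
set_option linter.all false

open Cfsg Subgroup
open CfsgLib.Char.MTwentyTwoOrder (PData sylow_split orbit_others simple_168 cent_le_of_self)
open scoped Pointwise

namespace CfsgLib.Char.MTwentyThreeOrder

universe u

/-- An automorphism of a group of order sixteen does not invert exactly fourteen elements. -/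
theorem inverted_ne {H : Type u} [Group H] [Finite H] (hH : Nat.card H = 16) (φ : H →* H) :
    Nat.card {u : H // φ u = u⁻¹} ≠ 14 := by
  classical
  haveI := Fintype.ofFinite H
  intro h14
  set I : Finset H := Finset.univ.filter fun u => φ u = u⁻¹ with hI
  have hIc : I.card = 14 := by rw [hI, ← Fintype.card_subtype, ← Nat.card_eq_fintype_card, h14]
  have hH' : Fintype.card H = 16 := by rw [← Nat.card_eq_fintype_card, hH]
  have memI : ∀ u, u ∈ I ↔ φ u = u⁻¹ := fun u => by simp [hI]
  have big : ∀ S : Subgroup H, 8 < Nat.card S → S = ⊤ := fun S hS => by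
    refine eq_top_of_card_eq S ?_
    obtain ⟨k, hk⟩ := hH ▸ card_subgroup_dvd_card S
    rw [hH]
    rcases k with _ | _ | k
    · omega
    · omega
    · have := Nat.le_mul_of_pos_right (Nat.card S * 2) (show 0 < 1 by norm_num)
      nlinarith
  -- every inverted element is central
  have hcent : ∀ a ∈ I, ∀ b : H, a * b = b * a := by
    intro a ha
    set J := I ∩ I.image (fun w => a⁻¹ * w) with hJ
    have hJc : 12 ≤ J.card := by
      have h1 := Finset.card_union_add_card_inter I (I.image fun w => a⁻¹ * w)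
      rw [Finset.card_image_of_injective _ (mul_right_injective a⁻¹), hIc, ← hJ] at h1
      have h2 := Finset.card_le_univ (I ∪ I.image fun w => a⁻¹ * w)
      omega
    have hsub : ∀ b ∈ J, b ∈ centralizer ({a} : Set H) := by
      intro b hb
      obtain ⟨hb1, hb2⟩ := Finset.mem_inter.1 hb
      obtain ⟨w, hw, rfl⟩ := Finset.mem_image.1 hb2
      rw [mem_centralizer_singleton_iff]
      have e1 := (memI _).1 hb1
      have e2 := (memI _).1 hw
      have e3 := (memI _).1 ha
      have key : a⁻¹ * (a⁻¹ * w)⁻¹ = (a⁻¹ * w)⁻¹ * a⁻¹ := by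
        calc a⁻¹ * (a⁻¹ * w)⁻¹ = φ a * φ (a⁻¹ * w) := by rw [e1, e3]
          _ = φ (a * (a⁻¹ * w)) := (map_mul φ _ _).symm
          _ = w⁻¹ := by rw [mul_inv_cancel_left, e2]
          _ = (a⁻¹ * w)⁻¹ * a⁻¹ := by group
      have := congrArg Inv.inv key
      simpa [mul_assoc] using this
    have htop : centralizer ({a} : Set H) = ⊤ := big _ (by
      have : J.card ≤ Nat.card (centralizer ({a} : Set H)) := by
        rw [Nat.card_eq_fintype_card, Fintype.card_subtype]
        exact Finset.card_le_card fun b hb => Finset.mem_filter.2 ⟨Finset.mem_univ _, hsub b hb⟩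
      omega)
    intro b
    exact (mem_centralizer_singleton_iff.1 (htop ▸ mem_top b : b ∈ centralizer ({a} : Set H))).symm
  have hab : Subgroup.center H = ⊤ := big _ (by
    have : I.card ≤ Nat.card (Subgroup.center H) := by
      rw [Nat.card_eq_fintype_card, Fintype.card_subtype]
      exact Finset.card_le_card fun a ha =>
        Finset.mem_filter.2 ⟨Finset.mem_univ _, mem_center_iff.2 fun b => (hcent a ha b).symm⟩
    omega)
  have hcomm : ∀ x y : H, x * y = y * x := fun x y =>
    mem_center_iff.1 (hab ▸ mem_top y : y ∈ Subgroup.center H) x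
  -- so the inverted elements form a subgroup
  set S : Subgroup H :=
    { carrier := {u | φ u = u⁻¹}
      one_mem' := by simp
      mul_mem' := fun {x y} hx hy => by
        simp only [Set.mem_setOf_eq] at hx hy ⊢
        rw [map_mul, hx, hy, mul_inv_rev, hcomm]
      inv_mem' := fun {x} hx => by
        simp only [Set.mem_setOf_eq] at hx ⊢
        rw [map_inv, hx] } with hS
  have hd : Nat.card S ∣ 16 := hH ▸ card_subgroup_dvd_card S
  have hSc : Nat.card S = 14 := by
    rw [← h14]
    exact Nat.card_congr (Equiv.subtypeEquivRight fun u => Iff.rfl)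
  rw [hSc] at hd
  norm_num at hd

/-- In a group of order 168 with self-centralizing Sylow subgroup of order seven the involutions form one class
of 7 or of 21 elements. -/
theorem invol_168 {Q : Type u} [Group Q] [Finite Q] [Fact (Nat.Prime 7)] (hcard : Nat.card Q = 168) (P : Sylow 7 Q)
    (hP : Nat.card (P : Subgroup Q) = 7) (hC : centralizer ((P : Subgroup Q) : Set Q) ≤ P)
    (hN : Nat.card (normalizer ((P : Subgroup Q) : Set Q)) = 21) :
    (Nat.card {q : Q // orderOf q = 2} = 7 ∨ Nat.card {q : Q // orderOf q = 2} = 21) ∧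
      ∀ s t : Q, orderOf s = 2 → orderOf t = 2 → IsConj s t := by
  classical
  haveI : Fact (Nat.Prime 2) := ⟨Nat.prime_two⟩
  by_cases h8 : ∀ E : Subgroup Q, E.Normal → Nat.card E ≠ 8
  · haveI := simple_168 hcard P hP hC hN h8
    obtain ⟨-, h21, hconj⟩ := Cfsg.Agent.S1005.result hcard
    exact ⟨Or.inr h21, hconj⟩
  push Not at h8
  obtain ⟨E, hE, hE8⟩ := h8
  haveI := hE
  haveI := Fintype.ofFinite Q
  have hidx : E.index = 21 := by
    have := card_mul_index E
    rw [hE8, hcard] at this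
    omega
  have hinE : ∀ q : Q, orderOf q = 2 → q ∈ E := by
    intro q hq
    rw [← QuotientGroup.eq_one_iff (N := E), ← orderOf_eq_one_iff]
    have h1 : orderOf (q : Q ⧸ E) ∣ 2 := hq ▸ orderOf_map_dvd (QuotientGroup.mk' E) q
    have h2 : orderOf (q : Q ⧸ E) ∣ 21 := hidx ▸ orderOf_dvd_natCard (q : Q ⧸ E)
    exact Nat.dvd_one.1 (by simpa using Nat.dvd_gcd h1 h2)
  set A := (Finset.univ : Finset Q).filter fun q => q ∈ E ∧ q ≠ 1 with hA
  have hAc : A.card = 7 := by
    have h1 : ((Finset.univ : Finset Q).filter fun q => q ∈ E).card = 8 := by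
      rw [← Fintype.card_subtype, ← Nat.card_eq_fintype_card, ← hE8]
    rw [show A = ((Finset.univ : Finset Q).filter fun q => q ∈ E).erase 1 by ext q; simp [hA, and_comm],
      Finset.card_erase_of_mem (by simp [E.one_mem]), h1]
  have hall : ∀ q : Q, orderOf q = 2 → ∀ r ∈ A, IsConj q r := by
    intro q hq r hr
    set O := ((Finset.univ : Finset Q).filter fun x => x ∈ (P : Subgroup Q)).image fun x => x * q * x⁻¹ with hO
    have hqE := hinE q hq
    have hq1 : q ≠ 1 := fun h => by rw [h, orderOf_one] at hq; norm_num at hq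
    have hOA : O ⊆ A := by
      intro y hy
      obtain ⟨x, -, rfl⟩ := Finset.mem_image.1 hy
      exact Finset.mem_filter.2 ⟨Finset.mem_univ _, hE.conj_mem q hqE x, fun e => hq1 (by simpa using e)⟩
    have hOc : O.card = 7 := by
      rw [hO, Finset.card_image_of_injOn, ← Fintype.card_subtype, ← Nat.card_eq_fintype_card]
      · exact hP
      intro x hx y hy e
      simp only [Finset.coe_filter, Finset.mem_univ, true_and, Set.mem_setOf_eq] at hx hy e
      by_contra hne
      have hw : y⁻¹ * x ∈ (P : Subgroup Q) := mul_mem (inv_mem hy) hx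
      have hw1 : y⁻¹ * x ≠ 1 := fun e' => hne (inv_mul_eq_one.1 e').symm
      have hcm : q * (y⁻¹ * x) = y⁻¹ * x * q := by
        calc q * (y⁻¹ * x) = y⁻¹ * (y * q * y⁻¹) * x := by group
          _ = y⁻¹ * (x * q * x⁻¹) * x := by rw [e]
          _ = y⁻¹ * x * q := by group
      have hqP := cent_le_of_self hP hC _ hw hw1 (mem_centralizer_singleton_iff.2 hcm)
      have := Subgroup.orderOf_dvd_natCard _ hqP
      rw [hq, hP] at this
      norm_num at this
    have : r ∈ O := by rw [Finset.eq_of_subset_of_card_le hOA (by rw [hOc, hAc])]; exact hr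
    obtain ⟨x, -, rfl⟩ := Finset.mem_image.1 this
    exact isConj_iff.2 ⟨x, rfl⟩
  have hmemA : ∀ q : Q, orderOf q = 2 → q ∈ A := fun q hq => Finset.mem_filter.2
    ⟨Finset.mem_univ _, hinE q hq, fun h => by rw [h, orderOf_one] at hq; norm_num at hq⟩
  refine ⟨Or.inl ?_, fun s t hs ht => hall s hs t (hmemA t ht)⟩
  rw [Nat.card_eq_fintype_card, Fintype.card_subtype, ← hAc]
  refine congrArg Finset.card (Finset.ext fun q => ⟨fun h => hmemA q (Finset.mem_filter.1 h).2, fun hq => ?_⟩)
  obtain ⟨q0, hq0⟩ := exists_prime_orderOf_dvd_card' (G := Q) 2 (by rw [hcard]; norm_num)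
  obtain ⟨x, rfl⟩ := isConj_iff.1 (hall q0 hq0 q hq)
  refine Finset.mem_filter.2 ⟨Finset.mem_univ _, ?_⟩
  rw [show x * q0 * x⁻¹ = MulAut.conj x q0 from rfl, MulEquiv.orderOf_eq, hq0]

variable {G : Type u} [Group G]

/-- An element conjugating a Sylow subgroup into an overgroup of its normalizer belongs to the latter. -/
theorem mem_of_conj_le [Finite G] {p : ℕ} [Fact p.Prime] (P : Sylow p G) {X : Subgroup G}
    (hN : normalizer ((P : Subgroup G) : Set G) ≤ X) {g : G} (hg : ∀ x ∈ (P : Subgroup G), g * x * g⁻¹ ∈ X) :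
    g ∈ X := by
  have hPX : (P : Subgroup G) ≤ X := le_normalizer.trans hN
  have hle : ((g • P : Sylow p G) : Subgroup G) ≤ X := by
    intro w hw
    rw [Sylow.coe_subgroup_smul] at hw
    obtain ⟨x, hx, rfl⟩ := hw
    exact hg x hx
  obtain ⟨h, hh⟩ := MulAction.exists_smul_eq X ((g • P : Sylow p G).subtype hle) (P.subtype hPX)
  have hle' : (((h : G) • (g • P) : Sylow p G) : Subgroup G) ≤ X := by
    intro w hw
    rw [Sylow.coe_subgroup_smul] at hw
    obtain ⟨x, hx, rfl⟩ := hw
    exact X.mul_mem (X.mul_mem h.2 (hle hx)) (X.inv_mem h.2)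
  have h2 : (h : G) • (g • P) = P := by
    refine Sylow.subtype_injective (hP := hle') (hQ := hPX) ?_
    rw [← hh, Sylow.smul_subtype]
    rfl
  rw [← mul_smul, Sylow.smul_eq_iff_mem_normalizer] at h2
  exact (X.mul_mem_cancel_left h.2).1 (hN h2)

variable [Fintype G] [IsSimpleGroup G] [Fact (Nat.Prime 7)]

/-- An involution centralizing a Sylow subgroup of order seven whose centralizer contains its normalizer. -/
theorem exists_central {c : ℕ} (hc : c ∈ [128, 16]) (D : PData G 7 3 c)
    (hC : ∀ t : G, orderOf t = 2 → Nat.card (centralizer ({t} : Set G)) = 2688) :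
    ∃ z : G, orderOf z = 2 ∧ z ∈ centralizer ((D.P : Subgroup G) : Set G) ∧
      normalizer ((D.P : Subgroup G) : Set G) ≤ centralizer ({z} : Set G) := by
  classical
  haveI : Fact (Nat.Prime 2) := ⟨Nat.prime_two⟩
  obtain ⟨K, hK, hKc, hNK⟩ := D.exists_K
  obtain ⟨a, ha⟩ : ∃ a, c = 2 ^ (a + 1) := by
    simp only [List.mem_cons, List.not_mem_nil, or_false] at hc
    rcases hc with rfl | rfl
    · exact ⟨6, by norm_num⟩
    · exact ⟨3, by norm_num⟩
  have hK2 : IsPGroup 2 K := IsPGroup.of_card (n := a + 1) (by rw [hKc, ha])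
  haveI : Nontrivial K := Finite.one_lt_card_iff_nontrivial.1 (by
    rw [hKc, ha]; exact Nat.one_lt_two_pow (by omega))
  haveI := hK2.center_nontrivial
  obtain ⟨z, hz⟩ := exists_prime_orderOf_dvd_card' (G := Subgroup.center K) 2 (by
    obtain ⟨k, hk0, hk⟩ := IsPGroup.nontrivial_iff_card (hK2.to_subgroup (Subgroup.center K)) |>.1 inferInstance
    rw [hk]; exact dvd_pow_self 2 (by omega))
  set w : G := ((z : K) : G) with hw
  have hwo : orderOf w = 2 := by rw [hw, Subgroup.orderOf_coe, Subgroup.orderOf_coe, hz]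
  have hwK : w ∈ K := (z : K).2
  have hwC := ((hK w).1 hwK).1
  set X := centralizer ({w} : Set G) with hX
  set CP := centralizer ((D.P : Subgroup G) : Set G) with hCP
  have hPX : (D.P : Subgroup G) ≤ X := fun x hx =>
    mem_centralizer_singleton_iff.2 (mem_centralizer_iff.1 hwC x hx)
  have hPc : (D.P : Subgroup G) ≤ CP := fun x hx => mem_centralizer_iff.2 fun y hy => by
    haveI : IsCyclic (D.P : Subgroup G) := isCyclic_of_prime_card D.card_P
    letI : CommGroup (D.P : Subgroup G) := IsCyclic.commGroup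
    exact congrArg Subtype.val (mul_comm (⟨y, hy⟩ : (D.P : Subgroup G)) ⟨x, hx⟩)
  have hKX : K ≤ X := fun k hk => mem_centralizer_singleton_iff.2
    (congrArg Subtype.val (mem_center_iff.1 z.2 ⟨k, hk⟩))
  have hKC : K ≤ CP := fun k hk => ((hK k).1 hk).1
  have hCPX : CP ≤ X := by
    have h1 : 7 ∣ Nat.card ↥(X ⊓ CP) := D.card_P ▸ card_dvd_of_le (le_inf hPX hPc)
    have h2 : c ∣ Nat.card ↥(X ⊓ CP) := hKc ▸ card_dvd_of_le (le_inf hKX hKC)
    have h3 : 7 * c ∣ Nat.card ↥(X ⊓ CP) := (Nat.Coprime.mul_dvd_of_dvd_of_dvd (by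
      simp only [List.mem_cons, List.not_mem_nil, or_false] at hc
      rcases hc with rfl | rfl <;> norm_num) h1 h2)
    have h4 : X ⊓ CP = CP := eq_of_le_of_card_ge inf_le_right (by
      rw [hCP, D.cent_P]; exact Nat.le_of_dvd Nat.card_pos h3)
    exact h4 ▸ inf_le_left
  refine ⟨w, hwo, hwC, ?_⟩
  obtain ⟨j, hj, hcard⟩ := sylow_split D.P hPX
  rw [hC w hwo] at hcard
  have hd1 : 7 * c ∣ Nat.card ↥(X ⊓ normalizer ((D.P : Subgroup G) : Set G)) :=
    D.cent_P ▸ card_dvd_of_le (le_inf hCPX (centralizer_le_normalizer _))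
  have hd2 : Nat.card ↥(X ⊓ normalizer ((D.P : Subgroup G) : Set G)) ∣ 3 * (7 * c) :=
    D.norm_P ▸ card_dvd_of_le inf_le_right
  obtain ⟨i, hi⟩ := hd1
  rw [hi, mul_comm 3] at hd2
  have hi3 := (Nat.mul_dvd_mul_iff_left (Nat.mul_pos (by norm_num) (Nat.pos_of_ne_zero fun h0 => (pow_pos (by norm_num : 0 < 2) (a + 1)).ne' (ha ▸ h0)))).1 hd2
  rw [hi] at hcard
  have hi' : i = 3 := by
    simp only [List.mem_cons, List.not_mem_nil, or_false] at hc
    rcases (Nat.dvd_prime Nat.prime_three).1 hi3 with rfl | rfl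
    · rcases hc with rfl | rfl <;> omega
    · rfl
  refine inf_eq_right.1 (eq_of_le_of_card_ge inf_le_right ?_)
  rw [hi, D.norm_P, hi']
  exact le_of_eq (by ring)

/-- The order of the centralizer at seven. -/
theorem seven_c_two (hconj : ∀ t s : G, orderOf t = 2 → orderOf s = 2 → IsConj t s)
    (hC : ∀ t : G, orderOf t = 2 → Nat.card (centralizer ({t} : Set G)) = 2688)
    (h99 : ∀ t : G, orderOf t = 2 → Nat.card {s : G // orderOf s = 2 ∧ s * t = t * s} = 99)
    {c : ℕ} (hc : c ∈ [128, 16, 2]) (D : PData G 7 3 c) : c = 2 := by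
  classical
  haveI : Fact (Nat.Prime 2) := ⟨Nat.prime_two⟩
  by_contra hne
  have hc' : c ∈ [128, 16] := by
    simp only [List.mem_cons, List.not_mem_nil, or_false] at hc ⊢
    omega
  obtain ⟨z, hz, hzC, hNX⟩ := exists_central hc' D hC
  set X := centralizer ({z} : Set G) with hXdef
  set N := normalizer ((D.P : Subgroup G) : Set G) with hNdef
  obtain ⟨K, hK, hKc, hNK⟩ := D.exists_K
  have hXc : Nat.card X = 2688 := hC z hz
  have hKN : K ≤ N := fun k hk => centralizer_le_normalizer _ ((hK k).1 hk).1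
  have huniq : ∀ s : G, orderOf s = 2 → s ∈ centralizer ((D.P : Subgroup G) : Set G) → s = z := by
    intro s hs hsC
    obtain ⟨g, hg⟩ := isConj_iff.1 (hconj z s hz hs)
    have hgi : g⁻¹ ∈ X := mem_of_conj_le D.P hNX fun x hx => by
      refine mem_centralizer_singleton_iff.2 ?_
      have h1 : x * s = s * x := mem_centralizer_iff.1 hsC x hx
      rw [← hg] at h1
      calc g⁻¹ * x * g⁻¹⁻¹ * z = g⁻¹ * (x * (g * z * g⁻¹)) * g := by group
        _ = g⁻¹ * (g * z * g⁻¹ * x) * g := by rw [h1]
        _ = z * (g⁻¹ * x * g⁻¹⁻¹) := by group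
    have h2 := mem_centralizer_singleton_iff.1 (inv_mem hgi)
    rw [inv_inv] at h2
    rw [← hg, h2, mul_inv_cancel_right]
  have hKeq : ∀ k ∈ K, orderOf k = 2 → k = z := fun k hk h2 => huniq k h2 ((hK k).1 hk).1
  have hidx : (K.subgroupOf N).index = 21 := by
    have := card_mul_index (K.subgroupOf N)
    rw [Nat.card_congr (subgroupOfEquivOfLe hKN).toEquiv, hKc, hNdef, D.norm_P] at this
    refine Nat.eq_of_mul_eq_mul_left (Nat.pos_of_ne_zero fun h0 => ?_) (this.trans (by ring))
    simp [h0] at hc'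
  haveI : (K.subgroupOf N).Normal := (normal_subgroupOf_iff_le_normalizer hKN).2 hNK
  have htwo : ∀ y ∈ N, (∃ k, orderOf y = 2 ^ k) → y ∈ K := by
    intro y hy hyo
    obtain ⟨k, hk⟩ := hyo
    have h1 : orderOf ((⟨y, hy⟩ : N) : N ⧸ K.subgroupOf N) ∣ 2 ^ k := by
      refine (orderOf_map_dvd (QuotientGroup.mk' (K.subgroupOf N)) (⟨y, hy⟩ : N)).trans ?_
      rw [Subgroup.orderOf_mk, hk]
    have h2 : orderOf ((⟨y, hy⟩ : N) : N ⧸ K.subgroupOf N) ∣ 21 :=
      hidx ▸ orderOf_dvd_natCard ((⟨y, hy⟩ : N) : N ⧸ K.subgroupOf N)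
    have h3 := Nat.eq_one_of_dvd_coprimes (Nat.Coprime.pow_left k (by norm_num : Nat.Coprime 2 21)) h1 h2
    exact mem_subgroupOf.1 ((QuotientGroup.eq_one_iff _).1 (orderOf_eq_one_iff.1 h3))
  have h99X : Nat.card {x : X // orderOf x = 2} = 99 := by
    rw [← h99 z hz]
    refine Nat.card_congr
      { toFun := fun x => ⟨x.1.1, by rw [Subgroup.orderOf_coe, x.2], mem_centralizer_singleton_iff.1 x.1.2⟩
        invFun := fun s => ⟨⟨s.1, mem_centralizer_singleton_iff.2 s.2.2⟩, by rw [Subgroup.orderOf_mk]; exact s.2.1⟩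
        left_inv := fun x => rfl
        right_inv := fun s => rfl }
  rcases (by simpa using hc' : c = 128 ∨ c = 16) with rfl | rfl
  · have hXN : N = X := eq_of_le_of_card_ge hNX (by rw [hNdef, D.norm_P, hXc])
    have hsub : Subsingleton {x : X // orderOf x = 2} := ⟨fun a b => by
      have e : ∀ x : {x : X // orderOf x = 2}, (x.1 : G) = z := fun x => hKeq _
        (htwo _ (hXN.symm ▸ x.1.2) ⟨1, by rw [Subgroup.orderOf_coe, x.2, pow_one]⟩)
        (by rw [Subgroup.orderOf_coe, x.2])
      exact Subtype.ext (Subtype.ext ((e a).trans (e b).symm))⟩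
    have := Finite.card_le_one_iff_subsingleton.2 hsub
    omega
  -- the order sixteen
  have hPX : (D.P : Subgroup G) ≤ X := le_normalizer.trans hNX
  set P' : Sylow 7 X := D.P.subtype hPX with hP'
  have hP'c : Nat.card (P' : Subgroup X) = 7 := by
    rw [hP', Sylow.coe_subtype, Nat.card_congr (subgroupOfEquivOfLe hPX).toEquiv, D.card_P]
  have hN'eq : normalizer ((P' : Subgroup X) : Set X) = N.subgroupOf X := by
    rw [hP', Sylow.coe_subtype, hNdef, ← subgroupOf_normalizer_eq hPX]
  have hN'c : Nat.card (normalizer ((P' : Subgroup X) : Set X)) = 336 := by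
    rw [hN'eq, Nat.card_congr (subgroupOfEquivOfLe hNX).toEquiv, hNdef, D.norm_P]
  have h8 : Nat.card (Sylow 7 X) = 8 := by
    have h1 := card_mul_index (normalizer ((P' : Subgroup X) : Set X))
    rw [hN'c, hXc] at h1
    have h2 : Nat.card (Sylow 7 X) = (normalizer ((P' : Subgroup X) : Set X)).index :=
      Sylow.card_eq_index_normalizer P'
    omega
  have hKX : K ≤ X := hKN.trans hNX
  -- the regular part fixes every Sylow subgroup
  have hfix : ∀ k : X, (k : G) ∈ K → ∀ R : Sylow 7 X, k • R = R := by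
    intro k hk R
    have hkP : k • P' = P' := Sylow.smul_eq_iff_mem_normalizer.2 (by
      show k ∈ normalizer ((P' : Subgroup X) : Set X)
      rw [hN'eq]; exact mem_subgroupOf.2 (hKN hk))
    by_cases hR : R = P'
    · rw [hR, hkP]
    have hkR : k • R ≠ P' := fun e => hR (MulAction.injective k (e.trans hkP.symm))
    obtain ⟨x, hx, hxR⟩ := orbit_others P' hP'c h8 hR hkR
    have hcomm : k * x = x * k := Subtype.ext (mem_centralizer_iff.1 ((hK _).1 hk).1 (x : G) (by
      rw [hP', Sylow.coe_subtype, mem_subgroupOf] at hx; exact hx)).symm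
    have hpow : ∀ m : ℕ, (k ^ m) • R = (x ^ m) • R := by
      intro m
      induction m with
      | zero => simp
      | succ m ih =>
        rw [pow_succ', mul_smul, ih, ← mul_smul, (Commute.pow_right hcomm m).eq, mul_smul, ← hxR, ← mul_smul,
          ← pow_succ]
    have h16 : k ^ 16 = 1 := Subtype.ext (by
      rw [SubgroupClass.coe_pow, OneMemClass.coe_one, ← orderOf_dvd_iff_pow_eq_one]
      exact hKc ▸ Subgroup.orderOf_dvd_natCard K hk)
    have hx7 : x ^ 7 = 1 := orderOf_dvd_iff_pow_eq_one.1 (hP'c ▸ Subgroup.orderOf_dvd_natCard _ hx)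
    have e16 := hpow 16
    rw [h16, one_smul, show (16 : ℕ) = 7 + 7 + 2 from rfl, pow_add, pow_add, hx7, one_mul, one_mul] at e16
    have hx8 : (x ^ 2) ^ 4 • R = R := by
      simp only [pow_succ, pow_zero, one_mul, mul_smul] at *
      simp only [← e16]
    rw [← pow_mul, show 2 * 4 = 7 + 1 from rfl, pow_add, hx7, one_mul, pow_one] at hx8
    rw [← hxR, hx8]
  set K' := K.subgroupOf X with hK'
  haveI : K'.Normal := ⟨fun k hk g => by
    have hk' := mem_subgroupOf.1 hk
    have h1 : g * k * g⁻¹ ∈ normalizer ((P' : Subgroup X) : Set X) := Sylow.smul_eq_iff_mem_normalizer.1 (by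
      rw [mul_smul, mul_smul, hfix k hk', smul_inv_smul])
    rw [hN'eq, mem_subgroupOf] at h1
    refine mem_subgroupOf.2 (htwo _ h1 ?_)
    obtain ⟨i, -, hi⟩ := (Nat.dvd_prime_pow Nat.prime_two).1
      (show orderOf (k : G) ∣ 2 ^ 4 from (hKc ▸ Subgroup.orderOf_dvd_natCard K hk' : orderOf (k : G) ∣ 16))
    exact ⟨i, by rw [Subgroup.orderOf_coe, show g * k * g⁻¹ = MulAut.conj g k from rfl, MulEquiv.orderOf_eq,
      ← Subgroup.orderOf_coe, hi]⟩⟩
  have hK'c : Nat.card K' = 16 := by rw [hK', Nat.card_congr (subgroupOfEquivOfLe hKX).toEquiv, hKc]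
  set π := QuotientGroup.mk' K' with hπ
  have hsurj : Function.Surjective π := QuotientGroup.mk'_surjective K'
  have hker : π.ker = K' := QuotientGroup.ker_mk' K'
  have hQ : Nat.card (X ⧸ K') = 168 := by
    have := card_mul_index K'
    rw [hK'c, hXc] at this
    show K'.index = 168
    omega
  set Pb : Sylow 7 (X ⧸ K') := P'.mapSurjective hsurj with hPb
  have hPbc : Nat.card (Pb : Subgroup (X ⧸ K')) = 7 := by
    rw [Pb.card_eq_multiplicity, hQ, show (168 : ℕ) = 7 ^ 1 * 24 by norm_num,
      Nat.factorization_mul (by norm_num) (by norm_num), Nat.Prime.factorization_pow (by norm_num)]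
    simp [Nat.factorization_eq_zero_of_not_dvd (show ¬ 7 ∣ 24 by norm_num)]
  have hPbmap : (Pb : Subgroup (X ⧸ K')) = (P' : Subgroup X).map π := P'.coe_mapSurjective hsurj
  have hPbN : normalizer ((Pb : Subgroup (X ⧸ K')) : Set (X ⧸ K')) =
      (normalizer ((P' : Subgroup X) : Set X)).map π := by
    apply le_antisymm
    · intro q hq
      obtain ⟨g, rfl⟩ := hsurj q
      refine mem_map_of_mem π (Sylow.smul_eq_iff_mem_normalizer.1 ?_)
      by_contra hgP
      set R := g • P' with hR
      have hmapR : ∀ r ∈ (R : Subgroup X), π r ∈ (Pb : Subgroup (X ⧸ K')) := by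
        intro r hr
        rw [hR, Sylow.coe_subgroup_smul] at hr
        obtain ⟨x, hx, rfl⟩ := hr
        have := (mem_normalizer_iff.1 hq (π x)).1 (hPbmap ▸ mem_map_of_mem π hx)
        simpa [MulAut.conj_apply] using this
      obtain ⟨r, hr, hr1⟩ : ∃ r ∈ (R : Subgroup X), r ≠ 1 := by
        by_contra hno
        push Not at hno
        have : (R : Subgroup X) = ⊥ := eq_bot_iff.2 fun r hr => mem_bot.2 (hno r hr)
        have h7 := R.card_eq_multiplicity
        rw [this, card_bot, ← P'.card_eq_multiplicity, hP'c] at h7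
        norm_num at h7
      have hrN : r ∈ normalizer ((P' : Subgroup X) : Set X) := by
        obtain ⟨x, hx, hxr⟩ := hPbmap ▸ hmapR r hr
        have hk : x⁻¹ * r ∈ K' := (QuotientGroup.eq).1 hxr
        have hkN : x⁻¹ * r ∈ normalizer ((P' : Subgroup X) : Set X) := by
          rw [hN'eq]; exact mem_subgroupOf.2 (hKN (mem_subgroupOf.1 hk))
        have := mul_mem (le_normalizer hx) hkN
        rwa [mul_inv_cancel_left] at this
      have hrR : r ∈ (P' : Subgroup X) := by
        have hr7 : orderOf r ∣ 7 := by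
          have := Subgroup.orderOf_dvd_natCard _ hr
          rwa [R.card_eq_multiplicity, ← P'.card_eq_multiplicity, hP'c] at this
        have hIP : IsPGroup 7 (zpowers r) := IsPGroup.of_card (n := 1) (by
          rw [Nat.card_zpowers, pow_one]
          exact ((Nat.dvd_prime (by norm_num)).1 hr7).resolve_left fun h1 => hr1 (orderOf_eq_one_iff.1 h1))
        exact ((le_inf le_rfl (zpowers_le.2 hrN)).trans
          ((IsPGroup.inf_normalizer_sylow hIP P').le.trans inf_le_right)) (mem_zpowers r)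
      refine hgP (Sylow.ext ?_)
      have hz1 : zpowers r = (R : Subgroup X) ∧ zpowers r = (P' : Subgroup X) := by
        have hR7 : Nat.card (R : Subgroup X) = 7 := by rw [R.card_eq_multiplicity, ← P'.card_eq_multiplicity, hP'c]
        have hro : orderOf r = 7 := ((Nat.dvd_prime (by norm_num)).1
          (hP'c ▸ Subgroup.orderOf_dvd_natCard _ hrR)).resolve_left fun h1 => hr1 (orderOf_eq_one_iff.1 h1)
        exact ⟨eq_of_le_of_card_ge (zpowers_le.2 hr) (by rw [Nat.card_zpowers, hro, hR7]),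
          eq_of_le_of_card_ge (zpowers_le.2 hrR) (by rw [Nat.card_zpowers, hro, hP'c])⟩
      exact hz1.1.symm.trans hz1.2
    · rw [hPbmap]; exact le_normalizer_map π
  have hPbNc : Nat.card (normalizer ((Pb : Subgroup (X ⧸ K')) : Set (X ⧸ K'))) = 21 := by
    rw [hPbN]
    have hle : K' ≤ normalizer ((P' : Subgroup X) : Set X) := by
      rw [hN'eq]; exact fun k hk => mem_subgroupOf.2 (hKN (mem_subgroupOf.1 hk))
    have h1 := card_mul_index ((normalizer ((P' : Subgroup X) : Set X)).map π)
    rw [index_map_eq _ hsurj (hker.trans_le hle), hQ] at h1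
    have h2 := card_mul_index (normalizer ((P' : Subgroup X) : Set X))
    rw [hN'c, hXc] at h2
    rw [show (normalizer ((P' : Subgroup X) : Set X)).index = 8 by omega] at h1
    omega
  have hPbC : centralizer ((Pb : Subgroup (X ⧸ K')) : Set (X ⧸ K')) ≤ Pb := by
    intro q hq
    obtain ⟨g, hg, rfl⟩ : q ∈ (normalizer ((P' : Subgroup X) : Set X)).map π :=
      hPbN ▸ centralizer_le_normalizer _ hq
    -- the representative centralizes the Sylow subgroup
    have hgC : (g : G) ∈ centralizer ((D.P : Subgroup G) : Set G) := by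
      refine mem_centralizer_iff.2 fun x hx => ?_
      have hxP : (⟨x, hPX hx⟩ : X) ∈ (P' : Subgroup X) := by rw [hP', Sylow.coe_subtype]; exact mem_subgroupOf.2 hx
      have h1 := mem_centralizer_iff.1 hq (π ⟨x, hPX hx⟩) (hPbmap ▸ mem_map_of_mem π hxP)
      rw [← map_mul, ← map_mul] at h1
      have hk := (QuotientGroup.eq).1 h1
      set w : X := (⟨x, hPX hx⟩ * g)⁻¹ * (g * ⟨x, hPX hx⟩) with hwdef
      have hwP : w ∈ (P' : Subgroup X) := by
        have := mul_mem ((mem_normalizer_iff.1 (inv_mem hg) _).1 (inv_mem hxP)) hxP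
        rw [show g⁻¹ * (⟨x, hPX hx⟩ : X)⁻¹ * g⁻¹⁻¹ * ⟨x, hPX hx⟩ = w by rw [hwdef]; group] at this
        exact this
      have hw1 : w = 1 := by
        have d1 := Subgroup.orderOf_dvd_natCard _ hwP
        have d2 := Subgroup.orderOf_dvd_natCard _ hk
        rw [hP'c] at d1
        rw [hK'c] at d2
        exact orderOf_eq_one_iff.1 (Nat.eq_one_of_dvd_coprimes (by norm_num : Nat.Coprime 7 16) d1 d2)
      have := congrArg (fun y : X => (y : G)) (inv_mul_eq_one.1 hw1)
      exact this
    -- so its power prime to seven lies in the regular part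
    rw [hPbmap]
    obtain ⟨y, hy, hxy⟩ : ∃ y : X, y ∈ (P' : Subgroup X) ∧ (y⁻¹ * g : X) ∈ K' := by
      have hcov : centralizer ((D.P : Subgroup G) : Set G) ≤ (D.P : Subgroup G) ⊔ K := by
        have hle : (D.P : Subgroup G) ⊔ K ≤ centralizer ((D.P : Subgroup G) : Set G) := sup_le
          (fun a ha => mem_centralizer_iff.2 fun b hb => by
            haveI : IsCyclic (D.P : Subgroup G) := isCyclic_of_prime_card D.card_P
            letI : CommGroup (D.P : Subgroup G) := IsCyclic.commGroup
            exact congrArg Subtype.val (mul_comm (⟨b, hb⟩ : (D.P : Subgroup G)) ⟨a, ha⟩))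
          fun k hk => ((hK k).1 hk).1
        refine (eq_of_le_of_card_ge hle ?_).ge
        rw [D.cent_P]
        exact Nat.le_of_dvd Nat.card_pos (Nat.Coprime.mul_dvd_of_dvd_of_dvd (by norm_num)
          (by have := card_dvd_of_le (le_sup_left : (D.P : Subgroup G) ≤ (D.P : Subgroup G) ⊔ K); rwa [D.card_P] at this)
          (by have := card_dvd_of_le (le_sup_right : K ≤ (D.P : Subgroup G) ⊔ K); rwa [hKc] at this))
      have hPN : (D.P : Subgroup G) ≤ normalizer (K : Set G) := le_normalizer.trans hNK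
      obtain ⟨a, ha, b, hb, hab⟩ : ∃ a ∈ (D.P : Subgroup G), ∃ b ∈ K, a * b = (g : G) := by
        have h1 : (g : G) ∈ ((((D.P : Subgroup G) ⊔ K : Subgroup G)) : Set G) := hcov hgC
        rw [coe_mul_of_left_le_normalizer_right _ _ hPN] at h1
        obtain ⟨a, ha, b, hb, hab⟩ := Set.mem_mul.1 h1
        exact ⟨a, ha, b, hb, hab⟩
      refine ⟨⟨a, hPX ha⟩, by rw [hP', Sylow.coe_subtype]; exact mem_subgroupOf.2 ha, mem_subgroupOf.2 ?_⟩
      simpa [← hab] using hb
    exact ⟨y, hy, (QuotientGroup.eq).2 hxy⟩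
  obtain ⟨hnum, hclass⟩ := invol_168 hQ Pb hPbc hPbC hPbNc
  -- the involutions outside the regular part
  have hzX : z ∈ X := mem_centralizer_singleton_iff.2 rfl
  set I := (Finset.univ : Finset X).filter (fun x : X => orderOf x = 2 ∧ (x : G) ≠ z) with hI
  have hIc : I.card = 98 := by
    rw [show I = ((Finset.univ : Finset X).filter fun x => orderOf x = 2).erase ⟨z, hzX⟩ by
      ext x; simp [hI, Subtype.ext_iff, and_comm], Finset.card_erase_of_mem (by
        simp only [Finset.mem_filter, Finset.mem_univ, true_and]; rw [Subgroup.orderOf_mk, hz]),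
      ← Fintype.card_subtype, ← Nat.card_eq_fintype_card, h99X]
  have hnK : ∀ x ∈ I, x ∉ K' := fun x hx hxK => (Finset.mem_filter.1 hx).2.2
    (hKeq _ (mem_subgroupOf.1 hxK) (by rw [Subgroup.orderOf_coe]; exact (Finset.mem_filter.1 hx).2.1))
  haveI := Fintype.ofFinite (X ⧸ K')
  set J := (Finset.univ : Finset (X ⧸ K')).filter fun q => orderOf q = 2 with hJ
  have himg : ∀ x ∈ I, π x ∈ J := by
    intro x hx
    refine Finset.mem_filter.2 ⟨Finset.mem_univ _, ?_⟩
    have h1 : orderOf (π x) ∣ 2 := (Finset.mem_filter.1 hx).2.1 ▸ orderOf_map_dvd π x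
    refine ((Nat.dvd_prime Nat.prime_two).1 h1).resolve_left fun h0 => hnK x hx ?_
    rw [← hker]; exact orderOf_eq_one_iff.1 h0
  have hfib : ∀ q ∈ J, ∀ q' ∈ J, (I.filter fun x => π x = q).card = (I.filter fun x => π x = q').card := by
    intro q hq q' hq'
    obtain ⟨gb, rfl⟩ := isConj_iff.1 (hclass q q' (Finset.mem_filter.1 hq).2 (Finset.mem_filter.1 hq').2)
    obtain ⟨g, rfl⟩ := hsurj gb
    refine Finset.card_bij' (fun x _ => g * x * g⁻¹) (fun x _ => g⁻¹ * x * g) ?_ ?_
      (fun x _ => by group) (fun x _ => by group)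
    · intro x hx
      obtain ⟨hx, hxq⟩ := Finset.mem_filter.1 hx
      obtain ⟨-, ho, hne'⟩ := Finset.mem_filter.1 hx
      refine Finset.mem_filter.2 ⟨Finset.mem_filter.2 ⟨Finset.mem_univ _, ?_, fun e => hne' ?_⟩, by
        rw [map_mul, map_mul, map_inv, hxq]⟩
      · rw [show g * x * g⁻¹ = MulAut.conj g x from rfl, MulEquiv.orderOf_eq, ho]
      · have hgz : (g : G) * z = z * g := mem_centralizer_singleton_iff.1 g.2
        calc (x : G) = (g : G)⁻¹ * ((g * x * g⁻¹ : X) : G) * g := by push_cast; group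
          _ = (g : G)⁻¹ * z * g := by rw [e]
          _ = z := by rw [mul_assoc, ← hgz, inv_mul_cancel_left]
    · intro x hx
      obtain ⟨hx, hxq⟩ := Finset.mem_filter.1 hx
      obtain ⟨-, ho, hne'⟩ := Finset.mem_filter.1 hx
      refine Finset.mem_filter.2 ⟨Finset.mem_filter.2 ⟨Finset.mem_univ _, ?_, fun e => hne' ?_⟩, by
        rw [map_mul, map_mul, map_inv, hxq]; group⟩
      · rw [show g⁻¹ * x * g = MulAut.conj g⁻¹ x by simp [MulAut.conj_apply], MulEquiv.orderOf_eq, ho]
      · have hgz : (g : G) * z = z * g := mem_centralizer_singleton_iff.1 g.2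
        calc (x : G) = (g : G) * ((g⁻¹ * x * g : X) : G) * (g : G)⁻¹ := by push_cast; group
          _ = (g : G) * z * (g : G)⁻¹ := by rw [e]
          _ = z := by rw [hgz, mul_inv_cancel_right]
  obtain ⟨q0, hq0⟩ := exists_prime_orderOf_dvd_card' (G := X ⧸ K') 2 (by rw [hQ]; norm_num)
  have hq0J : q0 ∈ J := Finset.mem_filter.2 ⟨Finset.mem_univ _, hq0⟩
  have hsum := Finset.card_eq_sum_card_fiberwise (f := fun x => π x) (s := I) (t := J) himg
  rw [hIc, Finset.sum_congr rfl fun q hq => hfib q hq q0 hq0J, Finset.sum_const, smul_eq_mul,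
    hJ, ← Fintype.card_subtype, ← Nat.card_eq_fintype_card] at hsum
  set m := (I.filter fun x => π x = q0).card with hm
  have hm14 : m = 14 := by rcases hnum with hN7 | hN7 <;> rw [hN7] at hsum <;> omega
  obtain ⟨x0, hx0⟩ : (I.filter fun x => π x = q0).Nonempty := Finset.card_pos.1 (by omega)
  obtain ⟨hx0I, hx0q⟩ := Finset.mem_filter.1 hx0
  have hx0inv : x0⁻¹ = x0 := by
    have := pow_orderOf_eq_one x0
    rw [(Finset.mem_filter.1 hx0I).2.1, pow_two] at this
    exact inv_eq_of_mul_eq_one_right this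
  refine inverted_ne hK'c (MulAut.conjNormal x0 : MulAut K').toMonoidHom ?_
  rw [← hm14, hm, ← Fintype.card_coe, ← Nat.card_eq_fintype_card]
  have key : ∀ u : K', (MulAut.conjNormal x0 : MulAut K') u = u⁻¹ ↔ (x0 * u) * (x0 * u) = 1 := by
    intro u
    rw [Subtype.ext_iff, MulAut.conjNormal_apply, InvMemClass.coe_inv, hx0inv]
    constructor
    · intro e
      rw [← mul_assoc, e, inv_mul_cancel]
    · intro e
      exact eq_inv_of_mul_eq_one_left (by rw [← e]; group)
  refine Nat.card_congr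
    { toFun := fun u => ⟨x0 * (u.1 : X), ?_⟩
      invFun := fun x => ⟨⟨x0⁻¹ * (x.1 : X), ?_⟩, ?_⟩
      left_inv := fun u => Subtype.ext (Subtype.ext (inv_mul_cancel_left _ _))
      right_inv := fun x => Subtype.ext (mul_inv_cancel_left _ _) }
  · have hnot : x0 * (u.1 : X) ∉ K' := fun h => hnK x0 hx0I ((K'.mul_mem_cancel_right u.1.2).1 h)
    refine Finset.mem_filter.2 ⟨Finset.mem_filter.2 ⟨Finset.mem_univ _, ?_, fun e => hnot ?_⟩, ?_⟩
    · exact orderOf_eq_prime (by rw [pow_two]; exact (key u.1).1 u.2) fun e => hnot (e ▸ K'.one_mem)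
    · refine mem_subgroupOf.2 (e ▸ (hK z).2 ⟨hzC, ?_⟩)
      rw [hz]; norm_num
    · rw [map_mul, hx0q, show π (u.1 : X) = 1 by rw [← MonoidHom.mem_ker, hker]; exact u.1.2, mul_one]
  · refine (QuotientGroup.eq_one_iff _).1 ?_
    show π (x0⁻¹ * (x.1 : X)) = 1
    rw [map_mul, map_inv, hx0q, (Finset.mem_filter.1 x.2).2, inv_mul_cancel]
  · refine (key _).2 ?_
    show x0 * (x0⁻¹ * (x.1 : X)) * (x0 * (x0⁻¹ * (x.1 : X))) = 1
    rw [mul_inv_cancel_left, ← pow_two]
    have := pow_orderOf_eq_one (x.1 : X)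
    rwa [(Finset.mem_filter.1 (Finset.mem_filter.1 x.2).1).2.1] at this

end CfsgLib.Char.MTwentyThreeOrder
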