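import Cfsg.Agent.Lib.Char.MTwentyThreeOrder.Phase.Table
import Cfsg.Agent.Lib.Char.MTwentyThreeOrder.Phase.SevenCent
import Cfsg.Agent.Lib.Char.MTwentyTwoOrder.FromTable
import Cfsg.Agent.Lib.Char.MTwentyThreeOrder.Facts
import Cfsg.Agent.Lib.Char.MTwelveOrder.Classes

/-!
# Simple groups of order 10200960: the facts for the local endgame
-/

set_option autoImplicit false
set_option linter.all false
set_option maxRecDepth 8000

open Cfsg CfsgLib.Perm.PrimeBlock CfsgLib.Block Finset CfsgLib.Char.MEleven.Order CfsgLib.Char.MTwelveOrder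
open CfsgLib.Char.MTwentyTwoOrder (PData)

namespace CfsgLib.Char.MTwentyThreeOrder

universe u

theorem cube_sum : (degList.map fun d : ℕ => valT d * valT d * valT d * (10200960 / (d : ℤ))).sum = 98 * (2688 * 2688) ∧
    ∀ d ∈ degList, 10200960 % d = 0 := by decide +kernel

variable {G : Type u} [Group G] [Fintype G] [IsSimpleGroup G]

/-- The facts from the characters. -/
theorem exists_facts (h : Nat.card G = 10200960) : Facts G := by
  classical
  haveI : Fact (Nat.Prime 23) := ⟨by norm_num⟩
  haveI : Fact (Nat.Prime 11) := ⟨by norm_num⟩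
  haveI : Fact (Nat.Prime 5) := ⟨by norm_num⟩
  haveI : Fact (Nat.Prime 7) := ⟨by norm_num⟩
  haveI := Fintype.ofFinite (IrrCharacter G)
  have hG := noncomm h
  obtain ⟨c, D7, hc, hdeg, hcol⟩ := exists_table h
  have hval : ∀ {u : G}, orderOf u = 2 → ∀ χ : IrrCharacter G, (χ : G → ℂ) u = (iv χ u : ℂ) :=
    fun {u} hu χ => val_invol hG χ hu
  have hconj : ∀ t s : G, orderOf t = 2 → orderOf s = 2 → IsConj t s := by
    intro t s ht hs
    by_contra hn
    have e := sum_iv_mul hn (hval ht) (hval hs)
    rw [Finset.sum_congr rfl fun χ _ => show iv χ t * iv χ s = valT (dg χ) * valT (dg χ) by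
      rw [(hcol t ht).1 χ, (hcol s hs).1 χ], hdeg fun d : ℕ => valT d * valT d, valT_sums.2] at e
    norm_num at e
  have hC : ∀ t : G, orderOf t = 2 → Nat.card (Subgroup.centralizer ({t} : Set G)) = 2688 :=
    fun t ht => (hcol t ht).2
  have h98 : ∀ t : G, orderOf t = 2 → CfsgLib.Char.classConst t t t = 98 := by
    intro t ht
    have e := class_mul t t t
    rw [hC t ht, h] at e
    have hterm : ∀ χ : IrrCharacter G, (10200960 : ℂ) * ((χ : G → ℂ) t * (χ : G → ℂ) t *
        (starRingEnd ℂ) ((χ : G → ℂ) t) / (dg χ : ℂ)) =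
          ((valT (dg χ) * valT (dg χ) * valT (dg χ) * (10200960 / (dg χ : ℤ)) : ℤ) : ℂ) := by
      intro χ
      obtain ⟨k, hk⟩ : dg χ ∣ 10200960 := h ▸ CfsgLib.Char.degree_dvd_card χ (val_one χ)
      have hd : (dg χ : ℂ) ≠ 0 := Nat.cast_ne_zero.2 (dg_pos χ).ne'
      have hkC : (10200960 : ℂ) = (dg χ : ℂ) * (k : ℂ) := by exact_mod_cast congrArg (Nat.cast (R := ℂ)) hk
      have hkZ : (10200960 : ℤ) / (dg χ : ℤ) = (k : ℤ) := by
        rw [show (10200960 : ℤ) = (dg χ : ℤ) * (k : ℤ) by exact_mod_cast congrArg (Nat.cast (R := ℤ)) hk,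
          Int.mul_ediv_cancel_left _ (by exact_mod_cast (dg_pos χ).ne')]
      rw [hval ht, (hcol t ht).1 χ, hkZ, map_intCast, hkC]
      push_cast
      field_simp
    push_cast at e
    rw [Finset.mul_sum, Finset.sum_congr rfl fun χ _ => hterm χ, ← Int.cast_sum,
      hdeg fun d : ℕ => valT d * valT d * valT d * (10200960 / (d : ℤ)), cube_sum.1] at e
    have e' : ((CfsgLib.Char.classConst t t t * (2688 * 2688) : ℕ) : ℂ) = ((98 * (2688 * 2688) : ℕ) : ℂ) := by
      push_cast at e ⊢
      linear_combination e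
    exact Nat.eq_of_mul_eq_mul_right (by norm_num : 0 < 2688 * 2688) (Nat.cast_injective e')
  have h99 : ∀ t : G, orderOf t = 2 → Nat.card {s : G // orderOf s = 2 ∧ s * t = t * s} = 99 := by
    intro t ht
    have htt : t * t = 1 := by rw [← pow_two, ← ht, pow_orderOf_eq_one]
    have e := h98 t ht
    rw [classConst_eq ht, Nat.card_eq_fintype_card, Fintype.card_subtype] at e
    rw [Nat.card_eq_fintype_card, Fintype.card_subtype]
    set A := Finset.univ.filter fun x : G => IsConj t x ∧ IsConj t (x * t) with hA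
    have hord : ∀ {x : G}, IsConj t x → orderOf x = 2 := fun {x} hx => by
      obtain ⟨g, rfl⟩ := isConj_iff.1 hx
      rw [show g * t * g⁻¹ = MulAut.conj g t from rfl, MulEquiv.orderOf_eq, ht]
    have hset : (Finset.univ.filter fun s : G => orderOf s = 2 ∧ s * t = t * s) = insert t A := by
      ext s
      simp only [Finset.mem_filter, Finset.mem_univ, true_and, Finset.mem_insert, hA]
      constructor
      · rintro ⟨hs, hst⟩
        refine (em (s = t)).imp id fun hne => ⟨hconj t s ht hs, hconj t _ ht ?_⟩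
        haveI : Fact (Nat.Prime 2) := ⟨Nat.prime_two⟩
        refine orderOf_eq_prime ?_ fun e1 => hne ?_
        · rw [(show Commute s t from hst).mul_pow, pow_two, pow_two, htt, ← pow_two, ← hs, pow_orderOf_eq_one,
            one_mul]
        · calc s = s * t * t := by rw [mul_assoc, htt, mul_one]
            _ = t := by rw [e1, one_mul]
      · rintro (rfl | ⟨hs, hst⟩)
        · exact ⟨ht, rfl⟩
        · refine ⟨hord hs, ?_⟩
          have h1 := pow_orderOf_eq_one (s * t)
          rw [hord hst, pow_two] at h1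
          have hss : s * s = 1 := by rw [← pow_two, ← hord hs, pow_orderOf_eq_one]
          calc s * t = (s * t)⁻¹ := (inv_eq_of_mul_eq_one_left h1).symm
            _ = t * s := by rw [mul_inv_rev, inv_eq_of_mul_eq_one_left htt, inv_eq_of_mul_eq_one_left hss]
    rw [hset, Finset.card_insert_of_notMem, e]
    simp only [hA, Finset.mem_filter, Finset.mem_univ, true_and, not_and]
    intro _ hc
    have := hord hc
    rw [htt, orderOf_one] at this
    norm_num at this
  obtain rfl := seven_c_two hconj hC h99 hc D7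
  exact
    { card_eq := h
      invol_conj := hconj
      cent_invol := hC
      invol_in_cent := h99
      cent_seven := fun a ha => by rw [D7.cent_of_order ha]
      norm_seven := fun P hP => by rw [D7.norm_of_card hP] }

end CfsgLib.Char.MTwentyThreeOrder
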