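import Cfsg.Agent.Lib.Char.MTwentyThreeOrder.Phase.ListTests

/-!
# Simple groups of order 10200960: the finite tests on the values at an involution
-/

set_option autoImplicit false
set_option maxRecDepth 100000

namespace CfsgLib.Char.MTwentyThreeOrder

open CfsgLib.Perm.PrimeBlock CfsgLib.Char.MTwelveOrder

theorem five_w : ∀ w ∈ valsB 63 231, w = 7 ∨ notSq (163 * w * w - 42 * w + 42483) = true := by decide +kernel

/-- The options at eleven, the values at 230 and 1035 first. -/
def elevenData (B : ℕ) : List (ℤ × List ℤ) :=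
  [(-230, valsB B (-230)), (1035, valsB B 1035), (45, valsB B 45), (45, valsB B 45)]

theorem eleven_T : ∀ T ∈ valsB 63 896, T = 0 ∨ T = 56 ∨ T = -56 ∨ sieveRun 927360 896 (elevenData 89) T = true := by
  decide +kernel

theorem eleven_T56 : ∀ T ∈ [(56 : ℤ), -56], sieveRun 927360 896 (elevenData 42) T = true := by decide +kernel

theorem eleven_b : ∀ a ∈ valsB 51 (-230), a = -22 ∨
    sieveRun 927360 896 [(-230, [a]), (1035, [27]), (45, valsB 51 45), (45, valsB 51 45)] 0 = true := by
  decide +kernel

theorem eleven_z : ∀ b ∈ valsB 51 1035, b % 7 = 6 → b = 27 ∨ ∀ a ∈ valsB 51 (-230),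
    sieveRun 927360 896 [(-230, [a]), (1035, [b]), (45, valsB 51 45), (45, valsB 51 45)] 0 = true := by
  decide +kernel

theorem eleven_small : sieveRun 927360 896 (elevenData 19) 0 = true := by decide +kernel

theorem eleven_minus : ∀ q ∈ [((-230 : ℤ), (1035 : ℤ)), (-483, 1288)], ∀ a ∈ valsB 89 q.1, ∀ b ∈ valsB 89 q.2,
    zeroE [(45, -11), (45, -11), (q.1, a), (q.2, b)] = false := by decide +kernel

theorem seven_b : ∀ b ∈ valsB 51 1035, b = 27 ∨ zeroE [(-1035, -b), (2024, 8)] = false := by decide +kernel

/-- The known values at 23. -/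
def knownVals : List (ℤ × List ℤ) :=
  [(-45, [3]), (-45, [3]), (-896, [0]), (-896, [0]), (231, [7])]

/-- The options at 23 with two values at degree 990 known. -/
def dataThree (fr : List ℤ) : List (ℤ × List ℤ) :=
  knownVals ++ [(990, [-18]), (990, [-18])] ++ fr.map fun s => (s, valsB 26 s)

/-- The options at 23 with a value at degree 22 known. -/
def dataSix (fr : List ℤ) : List (ℤ × List ℤ) :=
  knownVals ++ [(-22, [6])] ++ fr.map fun s => (s, valsB 36 s)

theorem table_none : ∀ q ∈ [([-22, -22, -22], (264 : ℤ)), ([-528, 231, 231], 264), ([231, -528, -528], -495)],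
    ∀ T ∈ valsB 18 q.2, sieveRun 443520 q.2 (dataThree q.1) T = true := by decide +kernel

theorem table_one : ∀ T ∈ valsB 18 770, ∀ a ∈ valsB 26 (-22), (T = -14 ∧ a = -6) ∨ (T = 6 ∧ a = -10) ∨
    sieveRun 443520 770 (knownVals ++ [(990, [-18]), (990, [-18]), (-22, [a]), (231, valsB 26 231),
      (231, valsB 26 231)]) T = true := by decide +kernel

theorem table_six_a : ∀ T ∈ valsB 25 (-495), sieveRun 443520 (-495) (dataSix [990, 231, -22, -22]) T = true := by
  decide +kernel

theorem table_six_b : ∀ T ∈ valsB 25 264, sieveRun 443520 264 (dataSix [990, 990, -22, -22]) T = true := by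
  decide +kernel

end CfsgLib.Char.MTwentyThreeOrder
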