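import Cfsg.Agent.Lib.Char.MTwentyThreeOrder.Phase.Common
import Cfsg.Agent.Lib.Char.MTwentyThreeOrder.Phase.ColumnTests

/-!
# Simple groups of order 10200960: the column of an involution on the blocks at five and eleven
-/

set_option autoImplicit false
set_option linter.all false

open Cfsg CfsgLib.Perm.PrimeBlock CfsgLib.Block Finset CfsgLib.Char.MEleven.Order CfsgLib.Char.MTwelveOrder
open CfsgLib.Char.MTwentyTwoOrder (PData blockDegs sum_of_map)

namespace CfsgLib.Char.MTwentyThreeOrder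

universe u

theorem sq_of_notSq {x : ℤ} {M : ℕ} (h : x = (M : ℤ) * M) : notSq x = false := by rw [h]; exact not_sq M

theorem five_key {w : ℤ} {N C : ℕ}
    (hQ : 3600 * (163 * w * w - 42 * w + 42483) = ((N * C : ℕ) : ℤ) * ((N * C : ℕ) : ℤ))
    (h5 : 5 ∣ N) (hN : N ≤ 15) (hC : C ∣ 8064) (hw : w ∈ valsB 63 231) : w = 7 ∧ C ∣ 2688 := by
  have h60 : 60 ∣ N * C := by
    have hd : ((60 * 60 : ℕ) : ℤ) ∣ (((N * C) * (N * C) : ℕ) : ℤ) := by
      push_cast at hQ ⊢
      exact ⟨163 * w * w - 42 * w + 42483, by linarith⟩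
    rw [Int.natCast_dvd_natCast, ← pow_two, ← pow_two] at hd
    exact (Nat.pow_dvd_pow_iff two_ne_zero).1 hd
  obtain ⟨M, hM⟩ := h60
  have hq : 163 * w * w - 42 * w + 42483 = (M : ℤ) * M := by
    rw [hM] at hQ
    push_cast at hQ
    linarith
  rcases five_w w hw with rfl | hf
  · refine ⟨rfl, ?_⟩
    have hMM : M * M = 224 * 224 := by
      have : ((M * M : ℕ) : ℤ) = ((224 * 224 : ℕ) : ℤ) := by push_cast; linarith
      exact_mod_cast this
    obtain rfl : M = 224 := Nat.mul_self_inj.1 hMM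
    obtain ⟨r, rfl⟩ := h5
    have hrC : r * C = 2688 := by linarith
    exact Dvd.intro_left r hrC
  · rw [sq_of_notSq hq] at hf
    exact absurd hf (by simp)

variable {G : Type u} [Group G] [Fintype G] [IsSimpleGroup G]
variable [Fact (Nat.Prime 23)] [Fact (Nat.Prime 11)] [Fact (Nat.Prime 5)]

/-- The block at eleven in the order suited to the sieve. -/
theorem exists_four (D11 : PData G 11 5 1) {X11 : List (IrrCharacter G)} (hX11 : List.Perm X11 D11.S.X.toList)
    (hl : X11.map (sd D11.S) = elevenA) :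
    ∃ a b c d : IrrCharacter G, List.Perm [a, b, c, d] D11.S.X.toList ∧ sd D11.S a = -230 ∧ sd D11.S b = 1035 ∧
      sd D11.S c = 45 ∧ sd D11.S d = 45 := by
  obtain ⟨A, hA, hAm⟩ := exists_order_X D11 hX11 (l := [-230, 1035, 45, 45]) (by rw [hl]; decide)
  rcases A with _ | ⟨a, _ | ⟨b, _ | ⟨c, _ | ⟨d, _ | ⟨e, A⟩⟩⟩⟩⟩ <;> simp at hAm
  exact ⟨a, b, c, d, hA, hAm.1, hAm.2.1, hAm.2.2.1, hAm.2.2.2⟩

/-- A character of degree prime to eleven is one of the four or exceptional. -/
theorem four_cases (D11 : PData G 11 5 1) {a b c d : IrrCharacter G} (hA : List.Perm [a, b, c, d] D11.S.X.toList)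
    {χ : IrrCharacter G} (h1 : χ ≠ oneChar G) (hd : ¬ 11 ∣ dg χ) :
    χ = a ∨ χ = b ∨ χ = c ∨ χ = d ∨ χ ∈ D11.S.Y := by
  rcases D11.mem_blk.1 (D11.mem_blk_of rfl h1 hd) with hX | hY
  · have := (mem_blk_iff_perm D11 hA).2 hX
    simp only [List.mem_cons, List.not_mem_nil, or_false] at this
    tauto
  · tauto

theorem eleven_exc (h : Nat.card G = 10200960) (D11 : PData G 11 5 1) {a b c d : IrrCharacter G}
    (hA : List.Perm [a, b, c, d] D11.S.X.toList) (ha : sd D11.S a = -230) (hb : sd D11.S b = 1035)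
    (hc : sd D11.S c = 45) (hd : sd D11.S d = 45) {u : G} (hu : orderOf u = 2) {θ : IrrCharacter G}
    (hθ : θ ∈ D11.S.Y) :
    dg θ = 896 ∧ iv θ u = 1 + (sv D11.S u a + sv D11.S u b + sv D11.S u c + sv D11.S u d) := by
  obtain ⟨e1, e2⟩ := exc_eq D11 (noncomm h) (by norm_num) hu hA hθ
  simp only [List.map_cons, List.map_nil, List.sum_cons, List.sum_nil, ha, hb, hc, hd] at e1 e2
  norm_num at e1
  have hpos := dg_pos θ
  rcases D11.S.sign with hs | hs <;> rw [hs] at e1 e2
  · exact ⟨by omega, by linarith⟩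
  · omega

/-- The values of degree 896 vanish. -/
theorem val_896 (h : Nat.card G = 10200960) (D23 : PData G 23 11 1) (D11 : PData G 11 5 1) (D5 : PData G 5 4 3)
    {X11 : List (IrrCharacter G)} (hX11 : List.Perm X11 D11.S.X.toList) (hl : X11.map (sd D11.S) = elevenA)
    {u : G} (hu : orderOf u = 2) (χ : IrrCharacter G) (hχ : dg χ = 896) : iv χ u = 0 := by
  classical
  have hG := noncomm h
  obtain ⟨a, b, c, d, hA, ha, hb, hc, hd⟩ := exists_four D11 hX11 hl
  have hne : χ ≠ oneChar G := fun he => by rw [he, dg_one] at hχ; norm_num at hχ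
  have hY : χ ∈ D11.S.Y := by
    rcases four_cases D11 hA hne (by rw [hχ]; norm_num) with rfl | rfl | rfl | rfl | hY
    · have := (of_sd D11 (D11.mem_X hA (by simp)) u ha).1; rw [hχ] at this; norm_num at this
    · have := (of_sd D11 (D11.mem_X hA (by simp)) u hb).1; rw [hχ] at this; norm_num at this
    · have := (of_sd D11 (D11.mem_X hA (by simp)) u hc).1; rw [hχ] at this; norm_num at this
    · have := (of_sd D11 (D11.mem_X hA (by simp)) u hd).1; rw [hχ] at this; norm_num at this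
    · exact hY
  obtain ⟨-, hT⟩ := eleven_exc h D11 hA ha hb hc hd hu hY
  set T := iv χ u with hTdef
  have hC := Nat.le_of_dvd (by norm_num) (cent_dvd_8064 h D23 D11 D5 hu)
  have hTall : ∀ θ ∈ D11.S.Y, iv θ u = T := fun θ hθ => by rw [hT, (eleven_exc h D11 hA ha hb hc hd hu hθ).2]
  have hsq : ∀ φ ∈ D11.S.X, 1 + 2 * (T * T) + iv φ u * iv φ u ≤ 8064 := by
    intro φ hφ
    have h1 := sum_iv_sq_le (insert (oneChar G) (insert φ D11.S.Y)) (g := u) (fun ψ _ => val_invol hG ψ hu)
    have hφY : φ ∉ D11.S.Y := fun hh => Finset.disjoint_left.1 D11.S.disjoint hφ hh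
    rw [Finset.sum_insert (by
      simp only [Finset.mem_insert, not_or]
      exact ⟨fun hh => D11.S.one_notMem_X (hh ▸ hφ), D11.S.one_notMem_Y⟩), Finset.sum_insert hφY, iv_oneChar,
      Finset.sum_congr rfl (fun θ hθ => by rw [hTall θ hθ]), Finset.sum_const, D11.S.card_Y] at h1
    simp only [smul_eq_mul, show ((11 - 1) / 5 : ℕ) = 2 from rfl, nsmul_eq_mul] at h1
    push_cast at h1
    have hC' : (Nat.card (Subgroup.centralizer ({u} : Set G)) : ℤ) ≤ 8064 := by exact_mod_cast hC
    linarith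
  have haX : a ∈ D11.S.X := D11.mem_X hA (by simp)
  have hT63 : T.natAbs ≤ 63 := by
    have h1 := hsq a haX
    by_contra hh
    push Not at hh
    have : (64 : ℤ) * 64 ≤ (T.natAbs : ℤ) * T.natAbs := by exact_mod_cast Nat.mul_le_mul hh hh
    rw [Int.natAbs_mul_self'] at this
    nlinarith [mul_self_nonneg (iv a u)]
  obtain ⟨hlt, h4⟩ := iv_bound hG χ hne hu
  rw [hχ, ← hTdef] at hlt h4
  have key : ∀ B, (∀ φ ∈ D11.S.X, (sv D11.S u φ).natAbs ≤ B) → sieveRun 927360 896 (elevenData B) T = false := by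
    intro B hB
    have hz := zero_col_odd D11 hG (by norm_num) (by norm_num) (by norm_num) (by norm_num) (by norm_num) hu hA
    have := sieveRun_false (sd D11.S) (sv D11.S u) (fun φ => valsB B (sd D11.S φ)) [a, b, c, d] (M := 927360) (T := T)
      (E := 896) (by norm_num) (fun φ hφ => ⟨sd_ne D11.S (D11.mem_X hA hφ), by
        simp only [List.mem_cons, List.not_mem_nil, or_false] at hφ
        rcases hφ with rfl | rfl | rfl | rfl <;> simp [ha, hb, hc, hd],
        mem_valsB_sv D11 hG hu (D11.mem_X hA hφ) (hB φ (D11.mem_X hA hφ))⟩) (by simp [ha, hb, hc, hd])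
      (by norm_num) (by norm_num) (by simp [hT]; ring) hz
    simpa [elevenData, ha, hb, hc, hd] using this
  rcases eleven_T T (mem_valsB (by simpa using hlt) (by push_cast at h4; omega) hT63) with h0 | h56 | h56 | hno
  · exact h0
  rotate_left 2
  · rw [key 89 fun φ hφ => sv_natAbs_le D11 hG hu hφ hC (by norm_num)] at hno
    exact absurd hno (by simp)
  all_goals
    exfalso
    have hB : ∀ φ ∈ D11.S.X, (sv D11.S u φ).natAbs ≤ 42 := by
      intro φ hφ
      have h1 := hsq φ hφ
      rw [h56] at h1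
      by_contra hh
      push Not at hh
      have h2 : (43 : ℤ) * 43 ≤ ((sv D11.S u φ).natAbs : ℤ) * (sv D11.S u φ).natAbs := by
        exact_mod_cast Nat.mul_le_mul hh hh
      rw [Int.natAbs_mul_self'] at h2
      have h3 : sv D11.S u φ * sv D11.S u φ = iv φ u * iv φ u := by
        simp only [sv]; rcases D11.S.sign_X φ hφ with hs | hs <;> rw [hs] <;> ring
      nlinarith
    have := key 42 hB
    rw [eleven_T56 T (by simp [h56])] at this
    exact absurd this (by simp)

/-- The values at the characters of degree 231 and 2024 in the block at five. -/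
theorem five_vals (h : Nat.card G = 10200960) (D23 : PData G 23 11 1) (D11 : PData G 11 5 1) (D5 : PData G 5 4 3)
    {X5 : List (IrrCharacter G)} (hX5 : List.Perm X5 D5.S.X.toList) (hl5 : X5.map (sd D5.S) ∈ fiveOrdersL)
    {X11 : List (IrrCharacter G)} (hX11 : List.Perm X11 D11.S.X.toList) (hl : X11.map (sd D11.S) = elevenA) :
    ∃ χ ψ : IrrCharacter G, dg χ = 231 ∧ dg ψ = 2024 ∧ ∀ u : G, orderOf u = 2 →
      iv χ u = 7 ∧ iv ψ u = 8 ∧ Nat.card (Subgroup.centralizer ({u} : Set G)) ∣ 2688 := by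
  classical
  have hG := noncomm h
  obtain ⟨θ, hθ⟩ := nonempty_Y D5.S (by norm_num : 4 ∣ 5 - 1) (by norm_num)
  rcases X5 with _ | ⟨a, _ | ⟨b, _ | ⟨c, _ | ⟨d, X5⟩⟩⟩⟩ <;>
    simp [fiveOrdersL] at hl5
  have haX := D5.mem_X hX5 (χ := a) (by simp)
  have hbX := D5.mem_X hX5 (χ := b) (by simp)
  have hcX := D5.mem_X hX5 (χ := c) (by simp)
  obtain ⟨x, hx, hxo⟩ := D5.exists_elt
  have hx1 : x ≠ 1 := fun h' => by rw [h', orderOf_one] at hxo; norm_num at hxo
  have fin : ∀ {u : G}, orderOf u = 2 → ∀ (χ ψ : IrrCharacter G), dg χ = 231 → dg ψ = 2024 → iv ψ u = 1 + iv χ u →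
      (∀ k : ℕ, 5 * k = (inverters u x).card * (inverters u x).card →
        5 * (3600 * (163 * iv χ u * iv χ u - 42 * iv χ u + 42483)) =
          5 * (5 * (k : ℤ)) * (Nat.card (Subgroup.centralizer ({u} : Set G)) : ℤ) *
            (Nat.card (Subgroup.centralizer ({u} : Set G)) : ℤ)) →
      iv χ u = 7 ∧ iv ψ u = 8 ∧ Nat.card (Subgroup.centralizer ({u} : Set G)) ∣ 2688 := by
    intro u hu χ ψ hχ hψ hq hQ
    set C := Nat.card (Subgroup.centralizer ({u} : Set G))
    have hk := exists_sq (by norm_num) D5.P D5.card_P D5.cent_P hx hx1 hu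
    set N := (inverters u x).card
    have h5 : 5 ∣ N := ((Nat.Prime.dvd_mul (by norm_num : Nat.Prime 5)).1 ⟨_, hk.symm⟩).elim id id
    have h1 := hQ _ hk
    rw [show (5 : ℤ) * ((∑ y ∈ regCent 5 (D5.P : Subgroup G), CfsgLib.Char.classConst u u (x * y) : ℕ) : ℤ) =
      ((N * N : ℕ) : ℤ) by rw [← hk]; push_cast; ring] at h1
    have hne : χ ≠ oneChar G := fun he => by rw [he, dg_one] at hχ; norm_num at hχ
    have hne' : ψ ≠ oneChar G := fun he => by rw [he, dg_one] at hψ; norm_num at hψ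
    have hcd := cent_dvd_8064 h D23 D11 D5 hu
    have hsum := sum_iv_sq_le ({oneChar G, χ, ψ} : Finset (IrrCharacter G)) (g := u) (fun φ _ => val_invol hG φ hu)
    rw [Finset.sum_insert (by simp [hne.symm, hne'.symm]), Finset.sum_pair (fun he => by rw [he, hψ] at hχ; norm_num at hχ),
      iv_oneChar, hq] at hsum
    have hC : (C : ℤ) ≤ 8064 := by exact_mod_cast Nat.le_of_dvd (by norm_num) hcd
    have hw : iv χ u ∈ valsB 63 231 := by
      obtain ⟨hlt, h4⟩ := iv_bound hG χ hne hu
      rw [hχ] at hlt h4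
      refine mem_valsB (by simpa using hlt) (by push_cast at h4; omega) ?_
      have hb1 : iv χ u ≤ 63 := by nlinarith
      have hb2 : -63 ≤ iv χ u := by nlinarith
      omega
    obtain ⟨h7, hd⟩ := five_key (w := iv χ u) (N := N) (C := C) (by push_cast at h1 ⊢; linarith) h5
      ((D5.inverters_le hxo u).trans (by norm_num)) hcd hw
    exact ⟨h7, by rw [hq, h7]; norm_num, hd⟩
  have hsq : ∀ {u : G}, orderOf u = 2 → _ := fun {u} hu =>
    D5.sq_eq hG (by norm_num) (by norm_num) (by norm_num) hx hx1 hu hX5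
  have hex : ∀ {u : G}, orderOf u = 2 → _ := fun {u} hu => exc_eq D5 hG (by norm_num) hu hX5 hθ
  have h896 : ∀ {u : G}, orderOf u = 2 → ∀ χ : IrrCharacter G, dg χ = 896 → iv χ u = 0 :=
    fun {u} hu => val_896 h D23 D11 D5 hX11 hl hu
  obtain ⟨t, ht⟩ : ∃ t : G, orderOf t = 2 := by
    haveI : Fact (Nat.Prime 2) := ⟨Nat.prime_two⟩
    exact exists_order h 2 (by norm_num)
  obtain ⟨hE, -⟩ := hex ht
  rcases hl5 with ⟨ea, eb, ec⟩ | ⟨ea, eb, ec⟩ | ⟨ea, eb, ec⟩ <;>
    simp only [List.map_cons, List.map_nil, List.sum_cons, List.sum_nil, ea, eb, ec] at hE <;> norm_num at hE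
  · have hθd : dg θ = 2024 := by rcases D5.S.sign with hs | hs <;> rw [hs] at hE <;> omega
    refine ⟨a, θ, (of_sd D5 haX t ea).1, hθd, fun u hu => ?_⟩
    have va := (of_sd D5 haX u ea).2.1 (by norm_num)
    have vb : sv D5.S u b = 0 := by
      rw [(of_sd D5 hbX u eb).2.1 (by norm_num), h896 hu b (of_sd D5 hbX u eb).1]
    have vc : sv D5.S u c = 0 := by
      rw [(of_sd D5 hcX u ec).2.1 (by norm_num), h896 hu c (of_sd D5 hcX u ec).1]
    obtain ⟨hE', hV⟩ := hex hu
    simp only [List.map_cons, List.map_nil, List.sum_cons, List.sum_nil, ea, eb, ec, va, vb, vc] at hE' hV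
    rw [hθd] at hE'
    have hs : D5.S.ε = 1 := by rcases D5.S.sign with hs | hs <;> rw [hs] at hE' <;> first | exact hs | omega
    rw [hs, one_mul] at hV
    refine fin hu a θ (of_sd D5 haX t ea).1 hθd (by linarith) fun k hk => ?_
    have := hsq hu
    simp only [List.map_cons, List.map_nil, List.sum_cons, List.sum_nil, ea, eb, ec, va, vb, vc, fracSum, h] at this
    have hk' := exists_sq (by norm_num) D5.P D5.card_P D5.cent_P hx hx1 hu
    rw [show k = ∑ y ∈ regCent 5 (D5.P : Subgroup G), CfsgLib.Char.classConst u u (x * y) by omega]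
    push_cast at this ⊢
    ring_nf at this ⊢
    linarith
  · have hθd : dg θ = 896 := by rcases D5.S.sign with hs | hs <;> rw [hs] at hE <;> omega
    refine ⟨a, c, (of_sd D5 haX t ea).1, (of_sd D5 hcX t ec).1, fun u hu => ?_⟩
    have va := (of_sd D5 haX u ea).2.1 (by norm_num)
    have vb : sv D5.S u b = 0 := by
      rw [(of_sd D5 hbX u eb).2.1 (by norm_num), h896 hu b (of_sd D5 hbX u eb).1]
    have vc := (of_sd D5 hcX u ec).2.2 (by norm_num)
    obtain ⟨-, hV⟩ := hex hu
    simp only [List.map_cons, List.map_nil, List.sum_cons, List.sum_nil, ea, eb, ec, va, vb, vc] at hV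
    rw [h896 hu θ hθd, mul_zero] at hV
    have hq : iv c u = 1 + iv a u := by linarith
    refine fin hu a c (of_sd D5 haX t ea).1 (of_sd D5 hcX t ec).1 hq fun k hk => ?_
    have := hsq hu
    simp only [List.map_cons, List.map_nil, List.sum_cons, List.sum_nil, ea, eb, ec, va, vb, vc, fracSum, h, hq] at this
    have hk' := exists_sq (by norm_num) D5.P D5.card_P D5.cent_P hx hx1 hu
    rw [show k = ∑ y ∈ regCent 5 (D5.P : Subgroup G), CfsgLib.Char.classConst u u (x * y) by omega]
    push_cast at this ⊢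
    ring_nf at this ⊢
    linarith
  · have hθd : dg θ = 231 := by rcases D5.S.sign with hs | hs <;> rw [hs] at hE <;> omega
    refine ⟨θ, c, hθd, (of_sd D5 hcX t ec).1, fun u hu => ?_⟩
    have va : sv D5.S u a = 0 := by
      rw [(of_sd D5 haX u ea).2.1 (by norm_num), h896 hu a (of_sd D5 haX u ea).1]
    have vb : sv D5.S u b = 0 := by
      rw [(of_sd D5 hbX u eb).2.1 (by norm_num), h896 hu b (of_sd D5 hbX u eb).1]
    have vc := (of_sd D5 hcX u ec).2.2 (by norm_num)
    obtain ⟨hE', hV⟩ := hex hu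
    simp only [List.map_cons, List.map_nil, List.sum_cons, List.sum_nil, ea, eb, ec, va, vb, vc] at hE' hV
    rw [hθd] at hE'
    have hs : D5.S.ε = -1 := by rcases D5.S.sign with hs | hs <;> rw [hs] at hE' <;> first | exact hs | omega
    rw [hs] at hV
    have hq : iv c u = 1 + iv θ u := by linarith
    refine fin hu θ c hθd (of_sd D5 hcX t ec).1 hq fun k hk => ?_
    have := hsq hu
    simp only [List.map_cons, List.map_nil, List.sum_cons, List.sum_nil, ea, eb, ec, va, vb, vc, fracSum, h, hq] at this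
    have hk' := exists_sq (by norm_num) D5.P D5.card_P D5.cent_P hx hx1 hu
    rw [show k = ∑ y ∈ regCent 5 (D5.P : Subgroup G), CfsgLib.Char.classConst u u (x * y) by omega]
    push_cast at this ⊢
    ring_nf at this ⊢
    linarith

variable (D11 : PData G 11 5 1)

/-- The value of degree 1035 congruent to six modulo seven is 27. -/
theorem eleven_values (h : Nat.card G = 10200960) (D23 : PData G 23 11 1) (D5 : PData G 5 4 3)
    {X11 : List (IrrCharacter G)} (hX11 : List.Perm X11 D11.S.X.toList) (hl : X11.map (sd D11.S) = elevenA)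
    {u : G} (hu : orderOf u = 2) (hC : Nat.card (Subgroup.centralizer ({u} : Set G)) ∣ 2688)
    (hb : ∀ χ : IrrCharacter G, dg χ = 1035 → iv χ u % 7 = 6 ∨ iv χ u = 27) :
    (∀ χ : IrrCharacter G, dg χ = 1035 → iv χ u = 27) ∧ (∀ χ : IrrCharacter G, dg χ = 230 → iv χ u = 22) ∧
      (∀ χ : IrrCharacter G, dg χ = 45 → iv χ u = -3) := by
  classical
  have hG := noncomm h
  obtain ⟨a, b, c, d, hA, ha, hbb, hc, hd⟩ := exists_four D11 hX11 hl
  have haX := D11.mem_X hA (χ := a) (by simp)
  have hbX := D11.mem_X hA (χ := b) (by simp)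
  have hcX := D11.mem_X hA (χ := c) (by simp)
  have hdX := D11.mem_X hA (χ := d) (by simp)
  obtain ⟨hda, -, hva⟩ := of_sd D11 haX u ha
  obtain ⟨hdb, hvb, -⟩ := of_sd D11 hbX u hbb
  obtain ⟨hdc, hvc, -⟩ := of_sd D11 hcX u hc
  obtain ⟨hdd, hvd, -⟩ := of_sd D11 hdX u hd
  have hle := Nat.le_of_dvd (by norm_num) hC
  have hB : ∀ φ ∈ D11.S.X, (sv D11.S u φ).natAbs ≤ 51 := fun φ hφ => sv_natAbs_le D11 hG hu hφ hle (by norm_num)
  have hmem : ∀ φ ∈ D11.S.X, sv D11.S u φ ∈ valsB 51 (sd D11.S φ) := fun φ hφ => mem_valsB_sv D11 hG hu hφ (hB φ hφ)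
  obtain ⟨θ, hθ⟩ := nonempty_Y D11.S (by norm_num : 5 ∣ 11 - 1) (by norm_num)
  obtain ⟨hθd, hT⟩ := eleven_exc h D11 hA ha hbb hc hd hu hθ
  rw [val_896 h D23 D11 D5 hX11 hl hu θ hθd] at hT
  have hz := zero_col_odd D11 hG (by norm_num) (by norm_num) (by norm_num) (by norm_num) (by norm_num) hu hA
  have run : sieveRun 927360 896 [(-230, [sv D11.S u a]), (1035, [sv D11.S u b]), (45, valsB 51 45), (45, valsB 51 45)]
      0 = false := by
    have := sieveRun_false (sd D11.S) (sv D11.S u)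
      (fun φ => if φ = a ∨ φ = b then [sv D11.S u φ] else valsB 51 (sd D11.S φ)) [a, b, c, d] (M := 927360) (T := 0)
      (E := 896) (by norm_num) (fun φ hφ => ⟨sd_ne D11.S (D11.mem_X hA hφ), by
        simp only [List.mem_cons, List.not_mem_nil, or_false] at hφ
        rcases hφ with rfl | rfl | rfl | rfl <;> simp [ha, hbb, hc, hd], by
        split_ifs
        · simp
        · exact hmem φ (D11.mem_X hA hφ)⟩) (by simp [ha, hbb, hc, hd])
      (by norm_num) (by norm_num) (by simp; linarith) hz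
    have hnd := nodup_X D11 hA
    simp only [List.nodup_cons, List.mem_cons, List.not_mem_nil, or_false, not_or] at hnd
    simpa [ha, hbb, hc, hd, Ne.symm hnd.1.1, Ne.symm hnd.1.2.1, Ne.symm hnd.1.2.2, Ne.symm hnd.2.1.1,
      Ne.symm hnd.2.1.2] using this
  have hma : sv D11.S u a ∈ valsB 51 (-230) := ha ▸ hmem a haX
  have hmb : sv D11.S u b ∈ valsB 51 1035 := hbb ▸ hmem b hbX
  have hb27 : sv D11.S u b = 27 := by
    rw [hvb (by norm_num)] at hmb run ⊢
    rcases hb b hdb with h6 | h27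
    · refine (eleven_z _ hmb h6).resolve_right fun hall => ?_
      rw [hall _ hma] at run
      exact absurd run (by simp)
    · exact h27
  have ha22 : sv D11.S u a = -22 := by
    refine (eleven_b _ hma).resolve_right fun hh => ?_
    rw [hb27, hh] at run
    exact absurd run (by simp)
  have hcd : sv D11.S u c = -3 ∧ sv D11.S u d = -3 := by
    simp only [zeroE, List.map_cons, List.map_nil, List.sum_cons, List.sum_nil, ha, hbb, hc, hd, ha22, hb27, fracSum,
      Bool.and_eq_true, beq_iff_eq, decide_eq_true_eq] at hz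
    have h1 : sv D11.S u c + sv D11.S u d = -6 := by linarith
    obtain ⟨-, hz⟩ := hz
    rw [show 1 + (-22 + (27 + (sv D11.S u c + (sv D11.S u d + 0)))) = (0 : ℤ) by linarith] at hz
    have h2 : sv D11.S u c * sv D11.S u c + sv D11.S u d * sv D11.S u d = 18 := by
      ring_nf at hz ⊢
      linarith
    constructor <;> nlinarith [mul_self_nonneg (sv D11.S u c + 3), mul_self_nonneg (sv D11.S u d + 3)]
  refine ⟨fun χ hχ => ?_, fun χ hχ => ?_, fun χ hχ => ?_⟩ <;>
    rcases four_cases D11 hA (χ := χ) (fun he => by rw [he, dg_one] at hχ; norm_num at hχ)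
      (by rw [hχ]; norm_num) with rfl | rfl | rfl | rfl | hY
  all_goals first
    | (rw [hda] at hχ; norm_num at hχ; done)
    | (rw [hdb] at hχ; norm_num at hχ; done)
    | (rw [hdc] at hχ; norm_num at hχ; done)
    | (rw [hdd] at hχ; norm_num at hχ; done)
    | (rw [(eleven_exc h D11 hA ha hbb hc hd hu hY).1] at hχ; norm_num at hχ; done)
    | (have := hva (by norm_num); linarith)
    | (have := hvb (by norm_num); linarith)
    | (have := hvc (by norm_num); have := hcd.1; linarith)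
    | (have := hvd (by norm_num); have := hcd.2; linarith)

/-- The column is impossible with a small centralizer. -/
theorem eleven_not_384 (h : Nat.card G = 10200960) (D23 : PData G 23 11 1) (D5 : PData G 5 4 3)
    {X11 : List (IrrCharacter G)} (hX11 : List.Perm X11 D11.S.X.toList) (hl : X11.map (sd D11.S) = elevenA)
    {u : G} (hu : orderOf u = 2) : ¬ Nat.card (Subgroup.centralizer ({u} : Set G)) ≤ 384 := by
  intro hle
  have hG := noncomm h
  obtain ⟨a, b, c, d, hA, ha, hb, hc, hd⟩ := exists_four D11 hX11 hl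
  obtain ⟨θ, hθ⟩ := nonempty_Y D11.S (by norm_num : 5 ∣ 11 - 1) (by norm_num)
  obtain ⟨hθd, hT⟩ := eleven_exc h D11 hA ha hb hc hd hu hθ
  rw [val_896 h D23 D11 D5 hX11 hl hu θ hθd] at hT
  have hz := zero_col_odd D11 hG (by norm_num) (by norm_num) (by norm_num) (by norm_num) (by norm_num) hu hA
  have := sieveRun_false (sd D11.S) (sv D11.S u) (fun φ => valsB 19 (sd D11.S φ)) [a, b, c, d] (M := 927360) (T := 0)
    (E := 896) (by norm_num) (fun φ hφ => ⟨sd_ne D11.S (D11.mem_X hA hφ), by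
      simp only [List.mem_cons, List.not_mem_nil, or_false] at hφ
      rcases hφ with rfl | rfl | rfl | rfl <;> simp [ha, hb, hc, hd],
      mem_valsB_sv D11 hG hu (D11.mem_X hA hφ) (sv_natAbs_le D11 hG hu (D11.mem_X hA hφ) hle (by norm_num))⟩)
    (by simp [ha, hb, hc, hd]) (by norm_num) (by norm_num) (by simp; linarith) hz
  have h2 : sieveRun 927360 896 (elevenData 19) 0 = false := by simpa [elevenData, ha, hb, hc, hd] using this
  rw [eleven_small] at h2
  exact absurd h2 (by simp)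

/-- The two characters of degree 45 do not both take the value -11. -/
theorem eleven_not_minus (h : Nat.card G = 10200960) (D23 : PData G 23 11 1) (D5 : PData G 5 4 3)
    {X11 : List (IrrCharacter G)} (hX11 : List.Perm X11 D11.S.X.toList)
    (hl : X11.map (sd D11.S) = elevenA ∨ X11.map (sd D11.S) = elevenB)
    {u : G} (hu : orderOf u = 2) (h45 : ∀ χ : IrrCharacter G, dg χ = 45 → iv χ u = -11) : False := by
  have hG := noncomm h
  obtain ⟨s3, s4, hq, hperm⟩ : ∃ s3 s4 : ℤ, (s3, s4) ∈ [((-230 : ℤ), (1035 : ℤ)), (-483, 1288)] ∧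
      List.Perm [45, 45, s3, s4] (X11.map (sd D11.S)) := by
    rcases hl with hl | hl <;> rw [hl]
    · exact ⟨-230, 1035, by simp, by decide⟩
    · exact ⟨-483, 1288, by simp, by decide⟩
  obtain ⟨A, hA, hAm⟩ := exists_order_X D11 hX11 hperm
  rcases A with _ | ⟨a, _ | ⟨b, _ | ⟨c, _ | ⟨d, _ | ⟨e, A⟩⟩⟩⟩⟩ <;> simp at hAm
  obtain ⟨ha, hb, hc, hd⟩ := hAm
  obtain ⟨hda, hva, -⟩ := of_sd D11 (D11.mem_X hA (χ := a) (by simp)) u ha
  obtain ⟨hdb, hvb, -⟩ := of_sd D11 (D11.mem_X hA (χ := b) (by simp)) u hb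
  have va : sv D11.S u a = -11 := by rw [hva (by norm_num), h45 a hda]
  have vb : sv D11.S u b = -11 := by rw [hvb (by norm_num), h45 b hdb]
  have hle := Nat.le_of_dvd (by norm_num) (cent_dvd_8064 h D23 D11 D5 hu)
  have hmem : ∀ φ ∈ D11.S.X, sv D11.S u φ ∈ valsB 89 (sd D11.S φ) := fun φ hφ =>
    mem_valsB_sv D11 hG hu hφ (sv_natAbs_le D11 hG hu hφ hle (by norm_num))
  have hz := zero_col_odd D11 hG (by norm_num) (by norm_num) (by norm_num) (by norm_num) (by norm_num) hu hA
  simp only [List.map_cons, List.map_nil, ha, hb, hc, hd, va, vb] at hz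
  have := eleven_minus (s3, s4) hq _ (hc ▸ hmem c (D11.mem_X hA (by simp))) _ (hd ▸ hmem d (D11.mem_X hA (by simp)))
  simp only at this
  rw [this] at hz
  exact absurd hz (by simp)

end CfsgLib.Char.MTwentyThreeOrder
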