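import Cfsg.Agent.Lib.Char.MTwentyThreeOrder.Phase.Five

/-!
# Simple groups of order 10200960: general lemmas for the column of an involution
-/

set_option autoImplicit false
set_option linter.all false

open Cfsg CfsgLib.Perm.PrimeBlock CfsgLib.Block Finset CfsgLib.Char.MEleven.Order CfsgLib.Char.MTwelveOrder
open CfsgLib.Char.MTwentyTwoOrder (PData blockDegs sum_of_map)

namespace CfsgLib.Char.MTwentyThreeOrder

universe u

variable {G : Type u} [Group G] [Fintype G] [IsSimpleGroup G]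

/-- The value times the value is at most the order of the centralizer. -/
theorem iv_le {u : G} (hG : ¬ IsMulCommutative G) (hu : orderOf u = 2) (χ : IrrCharacter G) {B C : ℕ}
    (hC : Nat.card (Subgroup.centralizer ({u} : Set G)) ≤ C) (hB : C < (B + 1) * (B + 1)) :
    (iv χ u).natAbs ≤ B := by
  classical
  have h1 := sum_iv_sq_le {χ} (g := u) (fun ψ _ => val_invol hG ψ hu)
  rw [Finset.sum_singleton] at h1
  by_contra hlt
  push Not at hlt
  have h2 : (B + 1) * (B + 1) ≤ (iv χ u).natAbs * (iv χ u).natAbs := Nat.mul_le_mul hlt hlt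
  have h3 : ((iv χ u).natAbs * (iv χ u).natAbs : ℤ) ≤ (C : ℤ) := by
    rw [Int.natAbs_mul_self']
    exact h1.trans (by exact_mod_cast hC)
  have h4 : (iv χ u).natAbs * (iv χ u).natAbs ≤ C := by exact_mod_cast h3
  omega

section Block

variable {p e c : ℕ} [hp : Fact p.Prime] (D : PData G p e c)

omit [IsSimpleGroup G] in
theorem of_sd {χ : IrrCharacter G} (hχ : χ ∈ D.S.X) (u : G) {s : ℤ} (hs : sd D.S χ = s) :
    dg χ = s.natAbs ∧ (0 < s → sv D.S u χ = iv χ u) ∧ (s < 0 → sv D.S u χ = -iv χ u) := by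
  refine ⟨by rw [← hs, natAbs_sd D.S hχ], ?_, ?_⟩ <;> intro h0 <;> subst hs <;>
    rcases D.S.sign_X χ hχ with hh | hh <;> simp only [sd, sv, hh] at h0 ⊢ <;> omega

theorem sv_natAbs_le (hG : ¬ IsMulCommutative G) {u : G} (hu : orderOf u = 2) {χ : IrrCharacter G} (hχ : χ ∈ D.S.X)
    {B C : ℕ} (hC : Nat.card (Subgroup.centralizer ({u} : Set G)) ≤ C) (hB : C < (B + 1) * (B + 1)) :
    (sv D.S u χ).natAbs ≤ B := by
  have := iv_le hG hu χ hC hB
  simp only [sv]
  rcases D.S.sign_X χ hχ with hs | hs <;> simpa [hs] using this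

theorem mem_valsB_sv (hG : ¬ IsMulCommutative G) {u : G} (hu : orderOf u = 2) {χ : IrrCharacter G} (hχ : χ ∈ D.S.X)
    {B : ℕ} (hB : (sv D.S u χ).natAbs ≤ B) : sv D.S u χ ∈ valsB B (sd D.S χ) := by
  obtain ⟨h1, h4⟩ := sv_natAbs D hG hu hχ
  exact mem_valsB h1 h4 hB

theorem mem_blk_iff_perm {X' : List (IrrCharacter G)} (hX' : List.Perm X' D.S.X.toList) {χ : IrrCharacter G} :
    χ ∈ X' ↔ χ ∈ D.S.X := by
  rw [hX'.mem_iff, Finset.mem_toList]

theorem nodup_X {X' : List (IrrCharacter G)} (hX' : List.Perm X' D.S.X.toList) : X'.Nodup :=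
  hX'.nodup_iff.2 (Finset.nodup_toList _)

theorem sum_X {β : Type*} [AddCommMonoid β] {X' : List (IrrCharacter G)} (hX' : List.Perm X' D.S.X.toList)
    (f : IrrCharacter G → β) : ∑ χ ∈ D.S.X, f χ = (X'.map f).sum := by
  rw [(hX'.map f).sum_eq, Finset.sum_map_toList]

/-- The exceptional degree and value from an ordering of the others. -/
theorem exc_eq (hG : ¬ IsMulCommutative G) (hodd : p ≠ 2) {u : G} (hu : orderOf u = 2)
    {X' : List (IrrCharacter G)} (hX' : List.Perm X' D.S.X.toList) {θ : IrrCharacter G} (hθ : θ ∈ D.S.Y) :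
    D.S.ε * (dg θ : ℤ) = 1 + (X'.map (sd D.S)).sum ∧ D.S.ε * iv θ u = 1 + (X'.map (sv D.S u)).sum := by
  have hur : ¬ p ∣ orderOf u := by
    rw [hu]; exact fun h => hodd ((Nat.prime_dvd_prime_iff_eq hp.out Nat.prime_two).1 h)
  refine ⟨?_, ?_⟩
  · rw [← sum_X D hX', show dg θ = D.S.D from D.S.degree_Y θ hθ, ← rel_one D.S hθ]
  · rw [← sum_X D hX', rel_val D.S hθ hur fun χ => val_invol hG χ hu]

/-- The values in the block at an involution of the centralizer are congruent to the degrees. -/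
theorem blk_congr (hG : ¬ IsMulCommutative G) (hodd : p ≠ 2) (hep : e ∣ p - 1) (he : 1 ≤ e) {z : G}
    (hz : orderOf z = 2) (hzC : z ∈ Subgroup.centralizer ((D.P : Subgroup G) : Set G)) {χ : IrrCharacter G}
    (hχ : χ ∈ D.blk) : (p : ℤ) ∣ iv χ z - (dg χ : ℤ) := by
  rcases D.mem_blk.1 hχ with hX | hY
  · have h1 := sv_congr D hG hodd hz hzC hX
    have h2 := Int.modEq_iff_dvd.1 (D.S.degree_X χ hX)
    simp only [sv] at h1
    simp only [dg]
    rcases D.S.sign_X χ hX with hs | hs <;> rw [hs] at h1 h2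
    · have := dvd_add h1 h2
      simpa using this
    · have := dvd_add (dvd_neg.2 h1) h2
      obtain ⟨k, hk⟩ := this
      exact ⟨k, by linarith⟩
  · have hur : ¬ p ∣ orderOf z := by
      rw [hz]; exact fun h => hodd ((Nat.prime_dvd_prime_iff_eq hp.out Nat.prime_two).1 h)
    have hv := rel_val D.S hY hur fun ψ => val_invol hG ψ hz
    have hsum : (p : ℤ) ∣ (∑ ψ ∈ D.S.X, sv D.S z ψ) - (D.S.X.card : ℤ) := by
      rw [Finset.cast_card, ← Finset.sum_sub_distrib]
      exact Finset.dvd_sum fun ψ hψ => sv_congr D hG hodd hz hzC hψ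
    have hcard : (D.S.X.card : ℤ) + 1 = e := by exact_mod_cast D.S.card_X
    have h2 := Int.modEq_iff_dvd.1 D.S.congr_Y
    rw [← show dg χ = D.S.D from D.S.degree_Y χ hY] at h2
    have h3 : (p : ℤ) ∣ D.S.ε * iv χ z - e := by
      have : (∑ ψ ∈ D.S.X, sv D.S z ψ) - (D.S.X.card : ℤ) = D.S.ε * iv χ z - e := by linarith
      rwa [this] at hsum
    rcases D.S.sign with hs | hs <;> rw [hs] at h2 h3
    · have := dvd_add h3 h2
      simpa using this
    · have := dvd_add (dvd_neg.2 h3) h2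
      obtain ⟨k, hk⟩ := this
      exact ⟨k, by linarith⟩

/-- The number of characters of a given degree in the block. -/
theorem blk_count (hep : e ∣ p - 1) (he : 1 ≤ e) {X' : List (IrrCharacter G)}
    (hX' : List.Perm X' D.S.X.toList) (d : ℕ) :
    (D.blk.filter fun χ => d = dg χ).card = (blockDegs ((p - 1) / e) (X'.map (sd D.S))).count d := by
  classical
  rw [← Multiset.coe_count, ← D.blk_degs hep he hX', Multiset.count_map]
  rfl

/-- An involution's centralizer has order prime to `p` for an odd centralizer part. -/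
theorem not_dvd_invol (D : PData G p e c) (hodd : p ≠ 2) (hc : ¬ 2 ∣ c) {u : G} (hu : orderOf u = 2) :
    ¬ p ∣ Nat.card (Subgroup.centralizer ({u} : Set G)) := by
  intro hd
  obtain ⟨a, ha⟩ := exists_prime_orderOf_dvd_card' p hd
  have hao : orderOf (a : G) = p := by rw [Subgroup.orderOf_coe, ha]
  have h2 := Subgroup.orderOf_dvd_natCard (Subgroup.centralizer ({(a : G)} : Set G))
    (Subgroup.mem_centralizer_singleton_iff.2 (Subgroup.mem_centralizer_singleton_iff.1 a.2).symm)
  rw [D.cent_of_order hao, hu] at h2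
  rcases (Nat.Prime.dvd_mul Nat.prime_two).1 h2 with h3 | h3
  · exact hodd ((Nat.prime_dvd_prime_iff_eq Nat.prime_two hp.out).1 h3).symm
  · exact hc h3

end Block

variable [Fact (Nat.Prime 23)] [Fact (Nat.Prime 11)] [Fact (Nat.Prime 5)]

theorem cent_dvd_8064 (h : Nat.card G = 10200960) (D23 : PData G 23 11 1) (D11 : PData G 11 5 1)
    (D5 : PData G 5 4 3) {u : G} (hu : orderOf u = 2) :
    Nat.card (Subgroup.centralizer ({u} : Set G)) ∣ 8064 := by
  have h1 : Nat.card (Subgroup.centralizer ({u} : Set G)) ∣ 8064 * 5 * 11 * 23 :=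
    (Subgroup.card_subgroup_dvd_card _).trans (by rw [h])
  have k : ∀ {p : ℕ} [Fact p.Prime], ¬ p ∣ Nat.card (Subgroup.centralizer ({u} : Set G)) → ∀ {m : ℕ},
      Nat.card (Subgroup.centralizer ({u} : Set G)) ∣ m * p → Nat.card (Subgroup.centralizer ({u} : Set G)) ∣ m :=
    fun {p} hp hn {m} hd =>
      Nat.Coprime.dvd_of_dvd_mul_right ((Nat.Prime.coprime_iff_not_dvd hp.out).2 hn).symm hd
  exact k (not_dvd_invol D5 (by norm_num) (by norm_num) hu) (k (not_dvd_invol D11 (by norm_num) (by norm_num) hu)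
    (k (not_dvd_invol D23 (by norm_num) (by norm_num) hu) h1))

end CfsgLib.Char.MTwentyThreeOrder
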