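import Cfsg.Agent.Lib.Char.MTwentyThreeOrder.Phase.Tools
import Cfsg.Agent.Lib.Char.MTwentyTwoOrder.Column

/-!
# Simple groups of order 10200960: the Sylow 11-subgroup is self-centralizing
-/

set_option autoImplicit false
set_option linter.all false

open Cfsg Subgroup CfsgLib.Perm.PrimeBlock CfsgLib.Block Finset CfsgLib.Char.MEleven.Order CfsgLib.Char.MTwelveOrder
open CfsgLib.Char.MTwentyTwoOrder (PData exists_pdata sum_of_map)

namespace CfsgLib.Char.MTwentyThreeOrder

universe u

theorem mem_valsOne {p : ℕ} {s v : ℤ} (h1 : v.natAbs < s.natAbs) (h2 : (v - s) % 4 = 0) (h3 : (p : ℤ) ∣ v - 1) :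
    v ∈ valsOne p s := by
  simp only [valsOne, List.mem_filter, List.mem_map, List.mem_range, Bool.and_eq_true, decide_eq_true_eq,
    beq_iff_eq]
  refine ⟨⟨(v + (s.natAbs : ℤ)).toNat, by omega, by omega⟩, ⟨h1, h2⟩, Int.emod_eq_zero_of_dvd h3⟩

theorem mem_vals11 {s v : ℤ} (h1 : v.natAbs < s.natAbs) (h2 : (v - s) % 4 = 0) (h3 : (11 : ℤ) ∣ v - 1) :
    v ∈ vals11 s := by
  simp only [vals11, List.mem_filter, List.mem_map, List.mem_range, decide_eq_true_eq]
  obtain ⟨k, hk⟩ := h3
  refine ⟨⟨((v - (-(s.natAbs : ℤ) + (12 + 33 * (s % 4) + (s.natAbs : ℤ)) % 44)) / 44).toNat, by omega, by omega⟩, h1⟩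

theorem mem_excVals {T : ℤ} (h1 : T.natAbs < 160) (h2 : T % 4 = 0) (h3 : T % 11 = 5) : T ∈ excVals := by
  simp only [excVals, List.mem_cons, List.not_mem_nil, or_false]
  omega

theorem not_sq (x : ℕ) : notSq ((x : ℤ) * x) = false := by
  simp only [notSq, Bool.or_eq_false_iff, decide_eq_false_iff_not, not_not, not_lt]
  exact ⟨mul_self_nonneg _, by rw [← Nat.cast_mul, Int.toNat_natCast, Nat.sqrt_eq]⟩

theorem natAbs_squares : ∀ l : List ℤ,
    ((((l.map Int.natAbs).map fun d => d * d).sum : ℕ) : ℤ) = (l.map fun s => s * s).sum := by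
  intro l
  induction l with
  | nil => simp
  | cons a l ih =>
    simp only [List.map_cons, List.sum_cons, Nat.cast_add, Int.natAbs_mul_self, ih]

theorem squares_cast (l : List ℤ)
    (h : 1 + (((l.map Int.natAbs).map fun d => d * d).sum +
      2 * ((1 + l.sum).natAbs * (1 + l.sum).natAbs)) ≤ 10200960) :
    1 + (l.map fun s => s * s).sum + 2 * ((1 + l.sum) * (1 + l.sum)) ≤ 10200960 := by
  rw [← natAbs_squares, ← Int.natAbs_mul_self (a := 1 + l.sum)]
  exact_mod_cast (by linarith : 1 + ((l.map Int.natAbs).map fun d => d * d).sum +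
    2 * ((1 + l.sum).natAbs * (1 + l.sum).natAbs) ≤ 10200960)

variable {G : Type u} [Group G] [Fintype G] [IsSimpleGroup G]

section General

variable {p e c : ℕ} [hp : Fact p.Prime] (D : PData G p e c)

/-- The squares of the degrees in the block. -/
theorem squares_le (hep : e ∣ p - 1) (he : 1 ≤ e) {X' : List (IrrCharacter G)}
    (hX' : List.Perm X' D.S.X.toList) :
    1 + ((CfsgLib.Char.MTwentyTwoOrder.blockDegs ((p - 1) / e) (X'.map (sd D.S))).map fun d => d * d).sum ≤
      Nat.card G := by
  classical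
  haveI := Fintype.ofFinite (IrrCharacter G)
  have h1 : ∑ χ : IrrCharacter G, dg χ * dg χ = Nat.card G := by
    rw [← sum_dg_sq]; exact Finset.sum_congr rfl fun χ _ => by ring
  rw [← sum_of_map (D.blk_degs hep he hX') (fun d => d * d), ← h1]
  refine le_trans (le_of_eq ?_) (Finset.sum_le_sum_of_subset (Finset.subset_univ (insert (oneChar G) D.blk)))
  rw [Finset.sum_insert D.one_notMem_blk, dg_one]

theorem zero_lt_c (D : PData G p e c) : 0 < c := by
  have := D.cent_P ▸ (Nat.card_pos : 0 < Nat.card (centralizer ((D.P : Subgroup G) : Set G)))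
  rcases Nat.eq_zero_or_pos c with h | h
  · rw [h, mul_zero] at this; omega
  · exact h

theorem sv_natAbs (hG : ¬ IsMulCommutative G) {u : G} (hu : orderOf u = 2) {χ : IrrCharacter G} (hχ : χ ∈ D.S.X) :
    (sv D.S u χ).natAbs < (sd D.S χ).natAbs ∧ (sv D.S u χ - sd D.S χ) % 4 = 0 := by
  obtain ⟨hlt, h4⟩ := iv_bound hG χ (fun he => D.S.one_notMem_X (he ▸ hχ)) hu
  constructor
  · simp only [sd, sv]
    rcases D.S.sign_X χ hχ with hs | hs <;> simpa [hs] using hlt
  · simp only [sd, sv]
    rcases D.S.sign_X χ hχ with hs | hs <;> rw [hs] <;> omega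

end General

variable [Fact (Nat.Prime 23)]

theorem res23_all (D23 : PData G 23 11 1) (χ : IrrCharacter G) : res23 (dg χ) = true := by
  have h := D23.residues rfl χ
  simp only [res23, decide_eq_true_eq, List.mem_cons, List.not_mem_nil, or_false]
  omega

theorem not_23_dvd (D23 : PData G 23 11 1) {p e c : ℕ} [hp : Fact p.Prime] (D : PData G p e c) (hp' : p ≠ 23) :
    ¬ 23 ∣ c := fun hd => by
  have := Nat.dvd_one.1 (cross D D23 hp' hd)
  exact hp.out.one_lt.ne' this

/-- A centralizer order divisible by seven at eleven is impossible. -/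
theorem not_seven_dvd (h : Nat.card G = 10200960) [Fact (Nat.Prime 11)] (D23 : PData G 23 11 1) {e c : ℕ}
    (D : PData G 11 e c) : ¬ 7 ∣ c := by
  intro h7
  haveI : Fact (Nat.Prime 7) := ⟨by norm_num⟩
  obtain ⟨n, e', c', hn, hn1, hn2, he2, hep, hpc, ⟨D'⟩⟩ :=
    exists_pdata (noncomm h) 7 1457280 (by norm_num) (by rw [h]) (by norm_num)
  have hposs := possible'_eq D' h (extra := res23) (by norm_num) hep he2 hpc (fun χ _ => res23_all D23 χ)
  have hel : e' ∈ [2, 3, 6] := by
    have := Nat.le_of_dvd (by norm_num) hep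
    interval_cases e' <;> simp_all
  have hc : 1457280 / (n * e') = c' := by
    rw [show 1457280 = n * e' * c' by rw [← hn]; ring,
      Nat.mul_div_cancel_left _ (Nat.mul_pos (by omega) (by omega))]
  have hd : 1457280 % (n * e') = 0 := Nat.mod_eq_zero_of_dvd ⟨c', by rw [← hn]; ring⟩
  have hmem := test_7_big n (mem_divs ((show n ∣ 1457280 from ⟨e' * c', hn.symm⟩).trans (by norm_num))) e' hel
    (by omega) hn2 hd (by rw [hc]; exact fun h0 => not_23_dvd D23 D' (by norm_num) (Nat.dvd_of_mod_eq_zero h0))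
    (by rw [hc]; exact Nat.mod_eq_zero_of_dvd (cross D D' (by norm_num) h7))
  rw [hc, hposs] at hmem
  simp only [List.mem_cons, List.not_mem_nil, or_false, Prod.mk.injEq, Bool.true_eq_false] at hmem
  obtain rfl : e' = 3 := by omega
  obtain ⟨X', hX', hm, hok⟩ := exists_lists D' h (extra := res23) (by norm_num) hep he2 hpc
    (fun χ _ => res23_all D23 χ)
  obtain ⟨u, hu⟩ : ∃ u : G, orderOf u = 2 := by
    haveI : Fact (Nat.Prime 2) := ⟨Nat.prime_two⟩
    exact exists_order h 2 (by norm_num)
  have hcol := seven_big_lists c' (by simp only [List.mem_cons, List.not_mem_nil, or_false]; omega) _ hm hok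
  simp only [noSeven, List.all_eq_true, Bool.not_eq_true'] at hcol
  have hz := zero_col_odd D' (noncomm h) (by norm_num) (by norm_num) (by norm_num) (zero_lt_c D') (by norm_num) hu hX'
  rw [hcol _ (mem_assignsF _ _ _ X' fun χ hχ => ?_)] at hz
  · exact absurd hz (by simp)
  · obtain ⟨h1, h4⟩ := sv_natAbs D' (noncomm h) hu (D'.mem_X hX' hχ)
    refine mem_valsFor h1 ?_ h4
    rw [Int.natCast_natAbs, abs_mul_self]
    exact Int.natAbs_lt_iff_mul_self_lt.1 h1

/-- The data at the prime eleven. -/
theorem exists_eleven (h : Nat.card G = 10200960) [Fact (Nat.Prime 11)] (D23 : PData G 23 11 1) :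
    Nonempty (PData G 11 5 1) := by
  classical
  have hG := noncomm h
  obtain ⟨n, e, c, hn, hn1, hn2, he2, hep, hpc, ⟨D⟩⟩ :=
    exists_pdata hG 11 927360 (by norm_num) (by rw [h]) (by norm_num)
  have hposs := possible'_eq D h (extra := res23) (by norm_num) hep he2 hpc (fun χ _ => res23_all D23 χ)
  have hel : e ∈ [2, 5, 10] := by
    have := Nat.le_of_dvd (by norm_num) hep
    interval_cases e <;> simp_all
  have hc : 927360 / (n * e) = c := by
    rw [show 927360 = n * e * c by rw [← hn]; ring,
      Nat.mul_div_cancel_left _ (Nat.mul_pos (by omega) (by omega))]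
  have hd : 927360 % (n * e) = 0 := Nat.mod_eq_zero_of_dvd ⟨c, by rw [← hn]; ring⟩
  have hmem := test_11 n (mem_divs ((show n ∣ 927360 from ⟨e * c, hn.symm⟩).trans (by norm_num))) e hel
    (by omega) hn2 hd (by rw [hc]; exact fun h0 => not_23_dvd D23 D (by norm_num) (Nat.dvd_of_mod_eq_zero h0))
  rw [hc, hposs] at hmem
  simp only [List.mem_cons, List.not_mem_nil, or_false, Prod.mk.injEq, Bool.true_eq_false] at hmem
  have h7 := not_seven_dvd h D23 D
  obtain ⟨X', hX', hm, hok⟩ := exists_lists D h (extra := res23) (by norm_num) hep he2 hpc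
    (fun χ _ => res23_all D23 χ)
  by_cases h51 : e = 5 ∧ c = 1
  · obtain ⟨rfl, rfl⟩ := h51
    exact ⟨D⟩
  exfalso
  have hcases : (e = 2 ∧ c ∈ [360, 96, 30, 8]) ∨ (e = 5 ∧ c ∈ [144, 12]) := by
    simp only [List.mem_cons, List.not_mem_nil, or_false]
    omega
  rcases hcases with ⟨rfl, hcm⟩ | ⟨rfl, hcm⟩
  · have hc2 : 2 ∣ c := by
      simp only [List.mem_cons, List.not_mem_nil, or_false] at hcm
      rcases hcm with rfl | rfl | rfl | rfl <;> norm_num
    obtain ⟨z, hzC, hz⟩ := exists_cent_invol D hc2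
    obtain ⟨χ, rfl⟩ : ∃ χ, X' = [χ] := by
      have : X'.length = 1 := by rw [hX'.length_eq, Finset.length_toList]; have := D.S.card_X; omega
      exact List.length_eq_one_iff.1 this
    have hχX : χ ∈ D.S.X := D.mem_X hX' (by simp)
    have hs : sd D.S χ ∈ cands' 11 c res23 := by
      exact mem_cands' D h (by norm_num) hpc (fun ψ _ => res23_all D23 ψ) hχX
    have ht := two_lists c hcm _ hs (by simpa using hok)
    obtain ⟨h1, h4⟩ := sv_natAbs D hG hz hχX
    simp only [noTwo, List.all_eq_true] at ht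
    have h0 := ht _ (mem_valsOne h1 h4 (by exact_mod_cast sv_congr D hG (by norm_num) hz hzC hχX))
    obtain ⟨x, hx, hxo⟩ := D.exists_elt
    have hx1 : x ≠ 1 := fun h' => by rw [h', orderOf_one] at hxo; norm_num at hxo
    have hk := exists_sq (by norm_num) D.P D.card_P D.cent_P hx hx1 hz
    have hsq := D.sq_eq hG (by norm_num) (by norm_num) (by norm_num) hx hx1 hz hX'
    simp only [List.map_cons, List.map_nil, List.sum_cons, List.sum_nil, add_zero] at hsq
    set k := ∑ y ∈ regCent 11 (D.P : Subgroup G), CfsgLib.Char.classConst z z (x * y)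
    set C := Nat.card (centralizer ({z} : Set G))
    set R : ℤ := (fracSum [(sd D.S χ, sv D.S z χ)]).2 * (1 + sd D.S χ) with hR
    have hne : R ≠ 0 := by
      obtain ⟨θ, hθ⟩ := nonempty_Y D.S (by norm_num : 2 ∣ 11 - 1) (by norm_num)
      have hD : 0 < D.S.D := D.S.degree_Y θ hθ ▸ dg_pos θ
      have he' := rel_one D.S hθ
      rw [show ∑ ψ ∈ D.S.X, sd D.S ψ = sd D.S χ by
        rw [← Finset.sum_map_toList, ← (hX'.map _).sum_eq]; simp] at he'
      refine mul_ne_zero (by simp [fracSum, sd_ne D.S hχX]) (he' ▸ ?_)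
      rcases D.S.sign with hs' | hs' <;> rw [hs'] <;> omega
    set F := (fracSum [(sd D.S χ, sv D.S z χ)]).1 * (1 + sd D.S χ) -
      (1 + sv D.S z χ) * (1 + sv D.S z χ) * (fracSum [(sd D.S χ, sv D.S z χ)]).2
    have hQ : (11 * 10200960 * (c : ℤ) * F) =
        R * (((inverters z x).card * C : ℕ) : ℤ) * (((inverters z x).card * C : ℕ) : ℤ) := by
      have e1 : ((11 * k : ℕ) : ℤ) = (((inverters z x).card * (inverters z x).card : ℕ) : ℤ) := by rw [hk]
      rw [h] at hsq
      push_cast at e1 hsq ⊢
      linear_combination (11 : ℤ) * hsq + ((C : ℤ) * C * R) * e1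
    have h0' : (11 * 10200960 * (c : ℤ) * F % R != 0 || notSq (11 * 10200960 * (c : ℤ) * F / R)) = true := h0
    rw [hQ, Bool.or_eq_true, bne_iff_ne, mul_assoc R, Int.mul_emod_right] at h0'
    rcases h0' with h1' | h1'
    · exact h1' rfl
    · rw [Int.mul_ediv_cancel_left _ hne, not_sq] at h1'
      exact absurd h1' (by simp)
  · have hsq := squares_le D (by norm_num) (by norm_num) hX'
    rw [five_cands c hcm] at hm
    obtain ⟨θ, hθ⟩ := nonempty_Y D.S (by norm_num : 5 ∣ 11 - 1) (by norm_num)
    simp only [listOK, Bool.and_eq_true, beq_iff_eq] at hok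
    have hl := five_lists _ hm (by
      simp only [squaresOK, decide_eq_true_eq]
      simp only [CfsgLib.Char.MTwentyTwoOrder.blockDegs, show ((11 - 1) / 5 : ℕ) = 2 from rfl, List.map_append,
        List.map_replicate, List.sum_append, List.sum_replicate, smul_eq_mul, h] at hsq
      exact squares_cast _ hsq) (by have := hok.1.1.1; norm_num at this; exact this) (by simpa using hok.1.1.2) hok.1.2
    simp only [inOrders, Bool.and_eq_true, beq_iff_eq, List.any_eq_true, decide_eq_true_eq] at hl
    obtain ⟨hE, q, hq, hperm⟩ := hl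
    obtain ⟨A, hA, hAmap⟩ := exists_perm_map (sd D.S) q.1 X' hperm.symm
    obtain ⟨hM, h160, hall⟩ := five_sieve q hq
    obtain ⟨u, hu⟩ : ∃ u : G, orderOf u = 2 := by
      haveI : Fact (Nat.Prime 2) := ⟨Nat.prime_two⟩
      exact exists_order h 2 (by norm_num)
    -- an involution of the centralizer
    obtain ⟨z, hzC, hz⟩ := exists_cent_invol D (by
      simp only [List.mem_cons, List.not_mem_nil, or_false] at hcm
      rcases hcm with rfl | rfl <;> norm_num)
    have hA' : List.Perm A D.S.X.toList := hA.trans hX'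
    have hzc := zero_col_odd D hG (by norm_num) (by norm_num) (by norm_num) (zero_lt_c D) (by norm_num) hz hA'
    have hsum : 1 + (A.map (sd D.S)).sum = -160 := by rw [(hA.map _).sum_eq]; exact hE
    set T : ℤ := 1 + (A.map (sv D.S z)).sum with hT
    have hz2 := hzc
    simp only [zeroE, Bool.and_eq_true, decide_eq_true_eq, beq_iff_eq, List.map_map] at hz2
    have ec1 : (Prod.fst ∘ fun χ => (sd D.S χ, sv D.S z χ)) = sd D.S := rfl
    have ec2 : (Prod.snd ∘ fun χ => (sd D.S χ, sv D.S z χ)) = sv D.S z := rfl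
    rw [ec1, ec2, hsum, ← hT] at hz2
    have hcong : (11 : ℤ) ∣ T - 5 := by
      have hlen : A.length = 4 := by rw [hA'.length_eq, Finset.length_toList]; have := D.S.card_X; omega
      have key : ∀ l : List (IrrCharacter G), (∀ χ ∈ l, χ ∈ D.S.X) →
          (11 : ℤ) ∣ (l.map (sv D.S z)).sum - (l.length : ℤ) := by
        intro l
        induction l with
        | nil => intro _; simp
        | cons a l ih =>
          intro hl
          have h1 := ih fun χ hχ => hl χ (List.mem_cons_of_mem _ hχ)
          have h2 : (11 : ℤ) ∣ sv D.S z a - 1 := by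
            exact_mod_cast sv_congr D hG (by norm_num) hz hzC (hl a (by simp))
          simp only [List.map_cons, List.sum_cons, List.length_cons]
          push_cast
          have := dvd_add h2 h1
          rwa [show sv D.S z a - 1 + ((l.map (sv D.S z)).sum - (l.length : ℤ)) =
            sv D.S z a + (l.map (sv D.S z)).sum - ((l.length : ℤ) + 1) by ring] at this
      have := key A fun χ hχ => D.mem_X hA' hχ
      rw [hlen] at this
      rw [hT]
      push_cast at this
      omega
    have hTm : T ∈ excVals := mem_excVals (by have := hz2.1.1; norm_num at this; exact this)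
      (by have := hz2.1.2; omega) (by omega)
    simp only [List.all_eq_true, beq_iff_eq] at hM hall
    have hM0 : q.2 ≠ 0 := by
      intro h0
      simp only [fiveOrders, List.mem_cons, List.not_mem_nil, or_false] at hq
      rcases hq with rfl | rfl | rfl | rfl | rfl | rfl | rfl | rfl <;> norm_num at h0
    have hf := sieve_of_zeroE (sd D.S) (sv D.S z) A (V := vals11) hM0 (fun χ hχ => by
      have hX := D.mem_X hA' hχ
      obtain ⟨h1, h4⟩ := sv_natAbs D hG hz hX
      exact ⟨sd_ne D.S hX, Int.dvd_of_emod_eq_zero (hM _ (hAmap ▸ List.mem_map_of_mem hχ)),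
        mem_vals11 h1 h4 (by exact_mod_cast sv_congr D hG (by norm_num) hz hzC hX)⟩) hsum (by norm_num)
      (Int.dvd_of_emod_eq_zero (by rw [Int.emod_neg]; exact h160)) hT.symm hzc
    rw [hAmap, hall T hTm] at hf
    exact absurd hf (by simp)

end CfsgLib.Char.MTwentyThreeOrder
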