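import Cfsg.Agent.Lib.Char.MTwentyThreeOrder.Phase.ElevenTests
import Cfsg.Agent.Lib.Char.MTwentyTwoOrder.DegTests

/-!
# Simple groups of order 10200960: the finite tests on the lists of degrees
-/

set_option autoImplicit false
set_option maxRecDepth 100000

namespace CfsgLib.Char.MTwentyThreeOrder

open CfsgLib.Perm.PrimeBlock
open CfsgLib.Char.MTwentyTwoOrder (blockDegs subBag nd)

/-- The signed degrees at eleven in the first case. -/
def elevenA : List ℤ := [45, 45, 1035, -230]

/-- The signed degrees at eleven in the excluded case. -/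
def elevenB : List ℤ := [-483, 45, 45, 1288]

/-- The three orderings of the block at five. -/
def fiveOrdersL : List (List ℤ) := [[231, 896, 896], [231, 896, -2024], [896, 896, -2024]]

/-- The test on a pair of lists at five and eleven. -/
def pairConcl (c : ℕ) (l5 l11 : List ℤ) : Bool :=
  (c == 3) && fiveOrdersL.any (fun q => decide (List.Perm q l5)) && (l11 == elevenA || l11 == elevenB)

theorem five_eleven_lists : ∀ c ∈ [8, 3], ∀ l5 ∈ combos (cands' 5 c extSmall) 3,
    listOK 5 4 c extSmall l5 = true → ∀ l11 ∈ combos (cands' 11 1 extSmall) 4,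
      listOK 11 5 1 extSmall l11 = true → subBag (nd 11) (blockDegs 1 l5) (blockDegs 2 l11) = true →
        pairConcl c l5 l11 = true := by decide +kernel

/-- The condition on the degrees given the block at eleven. -/
def extKnown (f : List ℕ) (d : ℕ) : Bool := extSmall d && (d % 11 == 0 || f.contains d)

/-- The degrees of the block at eleven in the first case. -/
def degsA : List ℕ := [45, 45, 1035, 230, 896, 896]

theorem degsA_eq : blockDegs 2 elevenA = degsA := by decide +kernel

/-- What remains of the sum of the squares of the degrees. -/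
def restSq (f : List ℕ) : ℤ :=
  10200960 - ((1 + (degsA.map fun d => d * d).sum + 4096576 +
    ((f.filter fun d => d % 11 == 0).map fun d => d * d).sum : ℕ) : ℤ)

/-- The conditions on the block at 23. -/
def sixOK (l : List ℤ) : Bool :=
  subBag (nd 11) (blockDegs 2 l) degsA && subBag (nd 23) degsA (blockDegs 2 l) &&
    (blockDegs 2 l).contains 231 && decide (0 ≤ restSq (blockDegs 2 l)) && (restSq (blockDegs 2 l) % 64009 == 0)

/-- The signed degrees at 23. -/
def sixLists : List (List ℤ) :=
  [[231, 231, 231, 231, 231, 231, -45, -45, -896, -896], [231, 231, 231, 231, 231, -45, -45, 990, -896, -896],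
    [231, 231, 231, 231, -45, -45, 990, -528, -896, -896], [231, 231, 231, -45, -45, -22, 990, 990, -896, -896],
    [231, 231, 231, -45, -45, 990, 990, -528, -896, -896], [231, 231, -45, -45, -22, -22, -22, 990, -896, -896],
    [231, 231, -45, -45, 990, 990, -528, -528, -896, -896], [231, -45, -45, -22, -22, -22, 990, 990, -896, -896]]

theorem six_cands : cands' 23 1 (extKnown degsA) = [231, -45, -22, 990, -1540, -528, -896] := by decide +kernel

theorem six_lists : ∀ l ∈ combos [231, -45, -22, 990, -1540, -528, -896] 10,
    sixOK l = true → listOK 23 11 1 (extKnown degsA) l = true → l ∈ sixLists := by decide +kernel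

/-- Whether the degrees of the block at seven fit. -/
def sevenFit (f23 f7 : List ℕ) : Bool :=
  subBag (nd 23) f7 f23 &&
    decide ((((f7.filter fun d => d % 253 == 0).erase 2024).map fun d => d * d).sum ≤ (restSq f23).toNat)

/-- The cases at seven. -/
def sevenConcl (e : ℕ) (l six : List ℤ) : Bool :=
  (e == 3 && decide (List.Perm [22, 22] l)) ||
  (e == 3 && decide (List.Perm [-1035, 2024] l) &&
    [[231, 231, 231, -45, -45, -22, 990, 990, -896, -896], [231, 231, 231, -45, -45, 990, 990, -528, -896, -896],
      [231, 231, -45, -45, 990, 990, -528, -528, -896, -896],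
      [231, -45, -45, -22, -22, -22, 990, 990, -896, -896]].contains six) ||
  (e == 6 && [[22, 253, 253, 253, 253], [22, 253, 253, 253, -1035], [253, 253, 253, 253, -1035]].any
      (fun q => decide (List.Perm q l)) &&
    [[231, 231, -45, -45, -22, -22, -22, 990, -896, -896],
      [231, -45, -45, -22, -22, -22, 990, 990, -896, -896]].contains six)

/-- The parameters at seven. -/
def sevenPar : List (ℕ × ℕ) :=
  [(2, 192), (2, 24), (2, 3), (3, 128), (3, 16), (3, 2), (6, 64), (6, 8), (6, 1)]

theorem seven_lists_A : ∀ q ∈ sevenPar, ∀ l ∈ combos (cands' 7 q.2 (extKnown degsA)) (q.1 - 1),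
    listOK 7 q.1 q.2 (extKnown degsA) l = true → subBag (nd 11) (blockDegs (6 / q.1) l) degsA = true →
      ∀ six ∈ sixLists, sevenFit (blockDegs 2 six) (blockDegs (6 / q.1) l) = true →
        sevenConcl q.1 l six = true := by decide +kernel

/-- The degrees of the block at eleven in the excluded case. -/
def degsB : List ℕ := [483, 45, 45, 1288, 896, 896]

theorem degsB_eq : blockDegs 2 elevenB = degsB := by decide +kernel

theorem seven_lists_B : ∀ q ∈ sevenPar, ∀ l ∈ combos (cands' 7 q.2 (extKnown degsB)) (q.1 - 1),
    listOK 7 q.1 q.2 (extKnown degsB) l = true → subBag (nd 11) (blockDegs (6 / q.1) l) degsB = true →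
      q.1 = 3 ∧ List.Perm [22, 22] l := by decide +kernel

end CfsgLib.Char.MTwentyThreeOrder
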