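import Cfsg.Agent.Lib.Char.MTwentyThreeOrder.Phase.Small
import Cfsg.Agent.Lib.Char.MTwentyThreeOrder.Phase.ListTests

/-!
# Simple groups of order 10200960: the lists of degrees
-/

set_option autoImplicit false
set_option linter.all false
set_option maxRecDepth 8000

open Cfsg CfsgLib.Perm.PrimeBlock CfsgLib.Block Finset CfsgLib.Char.MEleven.Order CfsgLib.Char.MTwelveOrder
open CfsgLib.Char.MTwentyTwoOrder (PData exists_pdata blockDegs subBag nd subBag_of sum_of_map)

namespace CfsgLib.Char.MTwentyThreeOrder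

universe u

theorem restSq_eq (f : List ℕ) (R : ℕ)
    (h : R + (1 + (degsA.map fun d => d * d).sum + 4096576 + ((f.filter fun d => d % 11 == 0).map fun d => d * d).sum) =
      10200960) : restSq f = (R : ℤ) := by
  unfold restSq
  have h' := congrArg (Nat.cast (R := ℤ)) h
  rw [Nat.cast_add] at h'
  exact sub_eq_iff_eq_add.2 h'.symm

variable {G : Type u} [Group G] [Fintype G] [IsSimpleGroup G]
variable [Fact (Nat.Prime 23)] [Fact (Nat.Prime 11)] [Fact (Nat.Prime 5)]

theorem not_11_dvd (D11 : PData G 11 5 1) {p e c : ℕ} [hp : Fact p.Prime] (D : PData G p e c) (hp' : p ≠ 11) :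
    ¬ 11 ∣ c := fun hd => by
  have := Nat.dvd_one.1 (cross D D11 hp' hd)
  exact hp.out.one_lt.ne' this

/-- A rearrangement of the block with given image. -/
theorem exists_order_X {p e c : ℕ} [Fact p.Prime] (D : PData G p e c) {X' : List (IrrCharacter G)}
    (hX' : List.Perm X' D.S.X.toList) {l : List ℤ} (h : List.Perm l (X'.map (sd D.S))) :
    ∃ X'' : List (IrrCharacter G), List.Perm X'' D.S.X.toList ∧ X''.map (sd D.S) = l := by
  obtain ⟨A, hA, hAm⟩ := exists_perm_map (sd D.S) l X' h.symm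
  exact ⟨A, hA.trans hX', hAm⟩

/-- The prime five, with the lists at five and eleven. -/
theorem exists_five (h : Nat.card G = 10200960) (D23 : PData G 23 11 1) (D11 : PData G 11 5 1) :
    ∃ (D5 : PData G 5 4 3) (X5 X11 : List (IrrCharacter G)),
      List.Perm X5 D5.S.X.toList ∧ X5.map (sd D5.S) ∈ fiveOrdersL ∧
        List.Perm X11 D11.S.X.toList ∧ (X11.map (sd D11.S) = elevenA ∨ X11.map (sd D11.S) = elevenB) := by
  classical
  have hG := noncomm h
  obtain ⟨n, e, c, hn, hn1, hn2, he2, hep, hpc, ⟨D⟩⟩ :=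
    exists_pdata hG 5 2040192 (by norm_num) (by rw [h]) (by norm_num)
  have hx := fun (χ : IrrCharacter G) (_ : χ ≠ oneChar G) => extSmall_all h D23 D11 χ
  have hposs := possible'_eq D h (extra := extSmall) (by norm_num) hep he2 hpc hx
  have hel : e ∈ [2, 4] := by
    have := Nat.le_of_dvd (by norm_num) hep
    interval_cases e <;> simp_all
  have hc : 2040192 / (n * e) = c := by
    rw [show 2040192 = n * e * c by rw [← hn]; ring,
      Nat.mul_div_cancel_left _ (Nat.mul_pos (by omega) (by omega))]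
  have hd : 2040192 % (n * e) = 0 := Nat.mod_eq_zero_of_dvd ⟨c, by rw [← hn]; ring⟩
  have hmem := test_5 n (mem_divs ((show n ∣ 2040192 from ⟨e * c, hn.symm⟩).trans (by norm_num))) e hel
    (by omega) hn2 hd (by rw [hc]; exact fun h0 => not_23_dvd D23 D (by norm_num) (Nat.dvd_of_mod_eq_zero h0))
    (by rw [hc]; exact fun h0 => not_11_dvd D11 D (by norm_num) (Nat.dvd_of_mod_eq_zero h0))
  rw [hc, hposs] at hmem
  simp only [List.mem_cons, List.not_mem_nil, or_false, Prod.mk.injEq, Bool.true_eq_false] at hmem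
  obtain rfl : e = 4 := by omega
  obtain ⟨X5, hX5, hm5, hok5⟩ := exists_lists D h (extra := extSmall) (by norm_num) hep he2 hpc hx
  obtain ⟨X11, hX11, hm11, hok11⟩ := exists_lists D11 h (extra := extSmall) (by norm_num) (by norm_num)
    (by norm_num) (by norm_num) hx
  have hconcl := five_eleven_lists c (by simp only [List.mem_cons, List.not_mem_nil, or_false]; omega) _ hm5 hok5 _
    hm11 hok11 (D.sub_nd D11 rfl (D.blk_degs hep (by norm_num) hX5) (D11.blk_degs (by norm_num) (by norm_num) hX11))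
  simp only [pairConcl, Bool.and_eq_true, beq_iff_eq, List.any_eq_true, decide_eq_true_eq, Bool.or_eq_true] at hconcl
  obtain ⟨⟨rfl, q, hq, hperm⟩, h11⟩ := hconcl
  obtain ⟨X5', hX5', hm⟩ := exists_order_X D hX5 hperm
  exact ⟨D, X5', X11, hX5', hm ▸ hq, hX11, h11⟩

theorem extKnown_all (h : Nat.card G = 10200960) (D23 : PData G 23 11 1) (D11 : PData G 11 5 1)
    {X11 : List (IrrCharacter G)} (hX11 : List.Perm X11 D11.S.X.toList) {l : List ℤ}
    (hl : X11.map (sd D11.S) = l) (χ : IrrCharacter G) (hne : χ ≠ oneChar G) :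
    extKnown (blockDegs 2 l) (dg χ) = true := by
  classical
  simp only [extKnown, extSmall_all h D23 D11 χ, Bool.true_and, Bool.or_eq_true, beq_iff_eq]
  by_cases h11 : dg χ % 11 = 0
  · exact Or.inl h11
  · right
    have := D11.mem_degs (by norm_num) (by norm_num) hX11
      (D11.mem_blk_of rfl hne fun hd => h11 (Nat.mod_eq_zero_of_dvd hd))
    rw [hl] at this
    simpa [List.contains_iff_mem] using this

/-- The character of degree 2024 and what the others leave. -/
theorem rest_bound (h : Nat.card G = 10200960) (D23 : PData G 23 11 1) (D11 : PData G 11 5 1)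
    (ψ : IrrCharacter G) (hψ : dg ψ = 2024)
    {X11 : List (IrrCharacter G)} (hX11 : List.Perm X11 D11.S.X.toList) (hl : X11.map (sd D11.S) = elevenA)
    {X23 : List (IrrCharacter G)} (hX23 : List.Perm X23 D23.S.X.toList) :
    0 ≤ restSq (blockDegs 2 (X23.map (sd D23.S))) ∧ restSq (blockDegs 2 (X23.map (sd D23.S))) % 64009 = 0 ∧
      ∀ S : Finset (IrrCharacter G), (∀ χ ∈ S, 253 ∣ dg χ) → ψ ∉ S →
        ∑ χ ∈ S, dg χ * dg χ ≤ (restSq (blockDegs 2 (X23.map (sd D23.S)))).toNat := by
  classical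
  haveI := Fintype.ofFinite (IrrCharacter G)
  have hb11 := D11.blk_degs (by norm_num) (by norm_num) hX11
  have hb23 := D23.blk_degs (by norm_num) (by norm_num) hX23
  rw [hl] at hb11
  set B11 := D11.blk with hB11
  set B23 := D23.blk.filter (fun χ => dg χ % 11 = 0) with hB23
  have h23n : ∀ χ ∈ D23.blk, ¬ 23 ∣ dg χ := fun χ hχ => D23.blk_ndvd (by norm_num) (by norm_num) hχ
  have h11n : ∀ χ ∈ D11.blk, ¬ 11 ∣ dg χ := fun χ hχ => D11.blk_ndvd (by norm_num) (by norm_num) hχ
  have hnot1 : oneChar G ∉ B11 ∪ B23 ∪ {ψ} := by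
    simp only [Finset.mem_union, Finset.mem_singleton, not_or]
    exact ⟨⟨D11.one_notMem_blk, fun hh => D23.one_notMem_blk (Finset.mem_filter.1 hh).1⟩,
      fun hh => by rw [← hh, dg_one] at hψ; norm_num at hψ⟩
  have hd1 : Disjoint B11 B23 := Finset.disjoint_left.2 fun χ ha hb =>
    h11n χ ha (Nat.dvd_of_mod_eq_zero (Finset.mem_filter.1 hb).2)
  have hd2 : ψ ∉ B11 ∪ B23 := by
    rw [Finset.mem_union]
    rintro (ha | hb)
    · exact h11n ψ ha (by rw [hψ]; norm_num)
    · exact h23n ψ (Finset.mem_filter.1 hb).1 (by rw [hψ]; norm_num)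
  set U := insert (oneChar G) (B11 ∪ B23 ∪ {ψ}) with hU
  have e11 : ∑ χ ∈ B11, dg χ * dg χ = (degsA.map fun d => d * d).sum := by
    rw [sum_of_map hb11 (fun d => d * d)]; rfl
  have e23 : ∑ χ ∈ B23, dg χ * dg χ =
      (((blockDegs 2 (X23.map (sd D23.S))).filter fun d => d % 11 == 0).map fun d => d * d).sum := by
    refine sum_of_map (f := dg) ?_ (fun d => d * d)
    have hb23' : D23.blk.val.map dg = ↑(blockDegs 2 (X23.map (sd D23.S))) := hb23
    rw [hB23, Finset.filter_val, show (↑((blockDegs 2 (X23.map (sd D23.S))).filter fun d => d % 11 == 0) : Multiset ℕ) =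
      Multiset.filter (fun d => d % 11 = 0) (↑(blockDegs 2 (X23.map (sd D23.S))) : Multiset ℕ) by
        rw [Multiset.filter_coe]; rfl, ← hb23', Multiset.filter_map]
    congr 1
  have eU : ∑ χ ∈ U, dg χ * dg χ = 1 + (degsA.map fun d => d * d).sum + 4096576 +
      (((blockDegs 2 (X23.map (sd D23.S))).filter fun d => d % 11 == 0).map fun d => d * d).sum := by
    rw [hU, Finset.sum_insert hnot1, Finset.sum_union (Finset.disjoint_singleton_right.2 hd2),
      Finset.sum_union hd1, Finset.sum_singleton, e11, e23, hψ, dg_one]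
    ring
  have htot : ∑ χ : IrrCharacter G, dg χ * dg χ = 10200960 := by
    rw [← h, ← sum_dg_sq]; exact Finset.sum_congr rfl fun χ _ => by ring
  have hout : ∀ χ, χ ∉ U → 253 ∣ dg χ := by
    intro χ hχ
    simp only [hU, hB11, hB23, Finset.mem_insert, Finset.mem_union, Finset.mem_filter, Finset.mem_singleton,
      not_or, not_and] at hχ
    have h11 : 11 ∣ dg χ := by
      by_contra hn
      exact hχ.2.1.1 (D11.mem_blk_of rfl hχ.1 hn)
    have h23 : 23 ∣ dg χ := by
      by_contra hn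
      exact hχ.2.1.2 (D23.mem_blk_of rfl hχ.1 hn) (Nat.mod_eq_zero_of_dvd h11)
    exact (show Nat.Coprime 11 23 by norm_num).mul_dvd_of_dvd_of_dvd h11 h23
  have hsplit := Finset.sum_sdiff (f := fun χ => dg χ * dg χ) (Finset.subset_univ U)
  rw [eU, htot] at hsplit
  obtain ⟨q, hq⟩ : 64009 ∣ ∑ χ ∈ Finset.univ \ U, dg χ * dg χ :=
    Finset.dvd_sum fun χ hχ => by
      obtain ⟨k, hk⟩ := hout χ (Finset.mem_sdiff.1 hχ).2
      exact ⟨k * k, by rw [hk]; ring⟩
  have hr : restSq (blockDegs 2 (X23.map (sd D23.S))) = ((∑ χ ∈ Finset.univ \ U, dg χ * dg χ : ℕ) : ℤ) :=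
    restSq_eq _ _ hsplit
  refine ⟨by rw [hr]; exact Int.natCast_nonneg _, ?_, fun S hS hψS => ?_⟩
  · rw [hr, hq, Nat.cast_mul]
    exact Int.mul_emod_right _ _
  rw [hr, Int.toNat_natCast]
  refine Finset.sum_le_sum_of_subset fun χ hχ => Finset.mem_sdiff.2 ⟨Finset.mem_univ _, ?_⟩
  simp only [hU, hB11, hB23, Finset.mem_insert, Finset.mem_union, Finset.mem_filter, Finset.mem_singleton]
  have h253 := hS χ hχ
  rintro (rfl | (ha | ⟨ha, -⟩) | rfl)
  · rw [dg_one] at h253; norm_num at h253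
  · exact h11n χ ha ((show 11 ∣ 253 by norm_num).trans h253)
  · exact h23n χ ha ((show 23 ∣ 253 by norm_num).trans h253)
  · exact hψS hχ

end CfsgLib.Char.MTwentyThreeOrder
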