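import Cfsg.Agent.Lib.Char.MTwentyThreeOrder.Phase.Column

/-!
# Simple groups of order 10200960: characters of known degree and the block at 23
-/

set_option autoImplicit false
set_option linter.all false

open Cfsg CfsgLib.Perm.PrimeBlock CfsgLib.Block Finset CfsgLib.Char.MEleven.Order CfsgLib.Char.MTwelveOrder
open CfsgLib.Char.MTwentyTwoOrder (PData blockDegs sum_of_map)

namespace CfsgLib.Char.MTwentyThreeOrder

universe u

variable {G : Type u} [Group G] [Fintype G] [IsSimpleGroup G]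

section Block

variable {p e c : ℕ} [hp : Fact p.Prime] (D : PData G p e c)

/-- A set of characters of one degree with as many members as the block has exhausts the degree. -/
theorem mem_of_count (hc : c = 1) (hep : e ∣ p - 1) (he : 1 ≤ e) {X' : List (IrrCharacter G)}
    (hX' : List.Perm X' D.S.X.toList) {d : ℕ} (hd1 : d ≠ 1) (hpd : ¬ p ∣ d) (A : Finset (IrrCharacter G))
    (hA : ∀ χ ∈ A, dg χ = d) (hcard : (blockDegs ((p - 1) / e) (X'.map (sd D.S))).count d ≤ A.card)
    {χ : IrrCharacter G} (hχ : dg χ = d) : χ ∈ A := by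
  classical
  have hmem : ∀ φ : IrrCharacter G, dg φ = d → φ ∈ D.blk.filter fun ψ => d = dg ψ := fun φ hφ =>
    Finset.mem_filter.2 ⟨D.mem_blk_of hc (fun h1 => hd1 (by rw [← hφ, h1, dg_one])) (by rwa [hφ]), hφ.symm⟩
  have heq : A = D.blk.filter fun ψ => d = dg ψ :=
    Finset.eq_of_subset_of_card_le (fun φ hφ => hmem φ (hA φ hφ)) (by rwa [blk_count D hep he hX'])
  rw [heq]
  exact hmem χ hχ

omit [IsSimpleGroup G] in
/-- An ordering with given characters in a given place. -/
theorem exists_insert {X' : List (IrrCharacter G)} (hX' : List.Perm X' D.S.X.toList) (P : List (IrrCharacter G))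
    (hP : P.Nodup) (hPX : ∀ χ ∈ P, χ ∈ D.S.X) {l₁ l₂ : List ℤ}
    (h : List.Perm (P.map (sd D.S) ++ (l₁ ++ l₂)) (X'.map (sd D.S))) :
    ∃ R₁ R₂ : List (IrrCharacter G), List.Perm (R₁ ++ P ++ R₂) D.S.X.toList ∧ R₁.map (sd D.S) = l₁ ∧
      R₂.map (sd D.S) = l₂ := by
  classical
  set R := X'.filter fun r => decide (r ∉ P) with hR
  have hnd : X'.Nodup := hX'.nodup_iff.2 (Finset.nodup_toList _)
  have h1 : List.Perm (P ++ R) X' := by
    refine (List.perm_ext_iff_of_nodup ?_ hnd).2 fun r => ?_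
    · exact List.Nodup.append hP (hnd.filter _) fun r hr hr' => by
        simpa [hr] using (List.mem_filter.1 hr').2
    · rw [List.mem_append, hR, List.mem_filter, decide_eq_true_eq]
      constructor
      · rintro (hr | ⟨hr, -⟩)
        · exact hX'.mem_iff.2 (Finset.mem_toList.2 (hPX r hr))
        · exact hr
      · intro hr
        by_cases hrP : r ∈ P
        · exact Or.inl hrP
        · exact Or.inr ⟨hr, hrP⟩
  have h2 := h.trans (h1.map (sd D.S)).symm
  rw [List.map_append, List.perm_append_left_iff] at h2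
  obtain ⟨A, hA, hAm⟩ := exists_perm_map (sd D.S) (l₁ ++ l₂) R h2.symm
  obtain ⟨R₁, R₂, rfl, e1, e2⟩ := List.map_eq_append_iff.1 hAm
  refine ⟨R₁, R₂, ?_, e1, e2⟩
  refine (List.perm_append_comm.append_right R₂).trans ?_
  rw [List.append_assoc]
  exact (((hA.append_left P)).trans h1).trans hX'

/-- The exceptional value as a member of the options. -/
theorem exc_mem (hG : ¬ IsMulCommutative G) (hodd : p ≠ 2) (hep : e ∣ p - 1) (he : 1 ≤ e) {u : G} (hu : orderOf u = 2)
    {X' : List (IrrCharacter G)} (hX' : List.Perm X' D.S.X.toList) {θ : IrrCharacter G} (hθ : θ ∈ D.S.Y) {B : ℕ}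
    (hB : (iv θ u).natAbs ≤ B) :
    (1 + (X'.map (sv D.S u)).sum) ∈ valsB B (1 + (X'.map (sd D.S)).sum) := by
  obtain ⟨e1, e2⟩ := exc_eq D hG hodd hu hX' hθ
  obtain ⟨hlt, h4⟩ := iv_bound hG θ (fun h1 => D.S.one_notMem_Y (h1 ▸ hθ)) hu
  rw [← e1, ← e2]
  rcases D.S.sign with hs | hs <;> rw [hs]
  · refine mem_valsB ?_ ?_ ?_ <;> simp [hlt, h4, hB]
  · refine mem_valsB ?_ ?_ ?_
    · simpa using hlt
    · omega
    · simpa using hB

/-- The sieve on a block with an odd automizer. -/
theorem run_false (hG : ¬ IsMulCommutative G) (hodd : p ≠ 2) (hep : e ∣ p - 1) (he : 1 ≤ e) (heo : ¬ 2 ∣ e)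
    {u : G} (hu : orderOf u = 2) {X' : List (IrrCharacter G)} (hX' : List.Perm X' D.S.X.toList)
    (P : List (IrrCharacter G)) (hP : P.Nodup) (hPX : ∀ χ ∈ P, χ ∈ D.S.X) {l₁ l₂ : List ℤ}
    (h : List.Perm (P.map (sd D.S) ++ (l₁ ++ l₂)) (X'.map (sd D.S))) (g : ℤ → List ℤ)
    (hg : ∀ r ∈ D.S.X, r ∉ P → sv D.S u r ∈ g (sd D.S r)) {M E : ℤ} (hM : M ≠ 0)
    (hsM : ∀ s ∈ P.map (sd D.S) ++ (l₁ ++ l₂), s ∣ M) (hE : 1 + (P.map (sd D.S) ++ (l₁ ++ l₂)).sum = E)
    (hE0 : E ≠ 0) (hEM : E ∣ M) :
    sieveRun M E (l₁.map (fun s => (s, g s)) ++ P.map (fun r => (sd D.S r, [sv D.S u r])) ++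
      l₂.map (fun s => (s, g s))) (1 + (X'.map (sv D.S u)).sum) = false := by
  classical
  obtain ⟨R₁, R₂, hA, rfl, rfl⟩ := exists_insert D hX' P hP hPX h
  set A := R₁ ++ P ++ R₂ with hAdef
  have hnd : A.Nodup := hA.nodup_iff.2 (Finset.nodup_toList _)
  have hmapA : List.Perm (A.map (sd D.S)) (P.map (sd D.S) ++ (R₁.map (sd D.S) ++ R₂.map (sd D.S))) := by
    rw [hAdef, List.map_append, List.map_append, ← List.append_assoc]
    exact List.perm_append_comm.append_right _
  have hrun := sieveRun_false (sd D.S) (sv D.S u) (fun r => if r ∈ P then [sv D.S u r] else g (sd D.S r)) A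
    (M := M) (T := 1 + (X'.map (sv D.S u)).sum) (E := E) hM (fun r hr => ⟨sd_ne D.S (D.mem_X hA hr),
      hsM _ (hmapA.mem_iff.1 (List.mem_map_of_mem hr)), by
        by_cases hrP : r ∈ P
        · simp [hrP]
        · simp only [hrP, if_false]; exact hg r (D.mem_X hA hr) hrP⟩)
    (by rw [hmapA.sum_eq]; exact hE) hE0 hEM
    (by rw [((hA.trans hX'.symm).map (sv D.S u)).sum_eq])
    (zero_col_odd D hG hep he hodd (zero_lt_c D) heo hu hA)
  have hout : ∀ R : List (IrrCharacter G), (∀ r ∈ R, r ∉ P) →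
      R.map (fun r => (sd D.S r, if r ∈ P then [sv D.S u r] else g (sd D.S r))) =
        (R.map (sd D.S)).map fun s => (s, g s) := by
    intro R hR
    rw [List.map_map]
    exact List.map_congr_left fun r hr => by simp [hR r hr]
  rw [hAdef, List.nodup_append, List.nodup_append] at hnd
  rw [hAdef, List.map_append, List.map_append,
    hout R₁ (fun r hr hrP => hnd.1.2.2 r hr r hrP rfl),
    hout R₂ (fun r hr hrP => hnd.2.2 r (List.mem_append_right _ hrP) r hr rfl)] at hrun
  rw [List.map_congr_left (l := P) (g := fun r => (sd D.S r, [sv D.S u r])) fun r hr => by simp [hr]] at hrun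
  exact hrun

end Block

variable [Fact (Nat.Prime 23)] [Fact (Nat.Prime 11)]

/-- The value of a character of a degree in the first case at eleven, at an involution with the known column. -/
def valA (d : ℕ) : ℤ := if d = 45 then -3 else if d = 1035 then 27 else if d = 230 then 22 else 0

/-- The squares of the known values bound the centralizer from below. -/
theorem known_bound (h : Nat.card G = 10200960) (D11 : PData G 11 5 1) {X11 : List (IrrCharacter G)}
    (hX11 : List.Perm X11 D11.S.X.toList) (hl : X11.map (sd D11.S) = elevenA) {u : G} (hu : orderOf u = 2)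
    (hv : ∀ φ ∈ D11.blk, iv φ u = valA (dg φ)) {χ ψ : IrrCharacter G} (hχ : dg χ = 231) (hψ : dg ψ = 2024)
    (h7 : iv χ u = 7) (h8 : iv ψ u = 8) (S : Finset (IrrCharacter G))
    (hS : ∀ φ ∈ S, φ ≠ χ ∧ dg φ ∉ [1, 45, 1035, 230, 896, 2024]) :
    1345 + ∑ φ ∈ S, iv φ u * iv φ u ≤ (Nat.card (Subgroup.centralizer ({u} : Set G)) : ℤ) := by
  classical
  have hG := noncomm h
  have hdeg : ∀ φ ∈ D11.blk, dg φ ∈ degsA := fun φ hφ => by
    have := D11.mem_degs (by norm_num) (by norm_num) hX11 hφ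
    rwa [hl, show ((11 - 1) / 5 : ℕ) = 2 from rfl, degsA_eq] at this
  have h1 : oneChar G ∉ D11.blk ∪ ({χ, ψ} : Finset (IrrCharacter G)) ∪ S := by
    simp only [Finset.mem_union, Finset.mem_insert, Finset.mem_singleton, not_or]
    exact ⟨⟨D11.one_notMem_blk, fun e => by rw [← e, dg_one] at hχ; omega,
      fun e => by rw [← e, dg_one] at hψ; omega⟩, fun e => (hS _ e).2 (by simp [dg_one])⟩
  have h2 : Disjoint D11.blk ({χ, ψ} : Finset (IrrCharacter G)) := Finset.disjoint_left.2 fun φ ha hb => by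
    have := hdeg φ ha
    simp only [Finset.mem_insert, Finset.mem_singleton] at hb
    rcases hb with rfl | rfl
    · rw [hχ] at this; exact absurd this (by decide)
    · rw [hψ] at this; exact absurd this (by decide)
  have h3 : Disjoint (D11.blk ∪ ({χ, ψ} : Finset (IrrCharacter G))) S := Finset.disjoint_left.2 fun φ ha hb => by
    obtain ⟨hne, hn⟩ := hS φ hb
    simp only [Finset.mem_union, Finset.mem_insert, Finset.mem_singleton] at ha
    rcases ha with ha | rfl | rfl
    · have := hdeg φ ha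
      simp [degsA] at this
      simp at hn
      omega
    · exact hne rfl
    · exact hn (by simp [hψ])
  have hsum := sum_iv_sq_le (insert (oneChar G) (D11.blk ∪ ({χ, ψ} : Finset (IrrCharacter G)) ∪ S)) (g := u)
    (fun φ _ => val_invol hG φ hu)
  rw [Finset.sum_insert h1, Finset.sum_union h3, Finset.sum_union h2,
    Finset.sum_pair (fun e => by rw [e, hψ] at hχ; omega), iv_oneChar, h7, h8,
    Finset.sum_congr rfl fun φ hφ => show iv φ u * iv φ u = valA (dg φ) * valA (dg φ) by rw [hv φ hφ]] at hsum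
  have hmap := D11.blk_degs (by norm_num) (by norm_num) hX11
  rw [hl, show ((11 - 1) / 5 : ℕ) = 2 from rfl, degsA_eq] at hmap
  rw [sum_of_map hmap fun d => valA d * valA d] at hsum
  simp [degsA, valA] at hsum
  rw [Nat.card_eq_fintype_card]
  linarith

end CfsgLib.Char.MTwentyThreeOrder
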