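import Cfsg.Agent.Lib.Char.MTwentyTwoOrder.Local.Four

/-!
# A group with twenty-three Sylow 11-subgroups
-/

set_option autoImplicit false
set_option linter.all false

open Subgroup MulAction
open scoped Pointwise
open CfsgLib.Char.MTwentyTwoOrder (card_sylow_eq)

namespace CfsgLib.Char.MTwentyThreeOrder

universe u

variable {H : Type u} [Group H] [Finite H]

/-- A subgroup of order nine centralizing a Sylow 11-subgroup, one of twenty-three, is normalized by an element of
order 23. -/
theorem exists_23_normalizing [Fact (Nat.Prime 11)] (Y : Sylow 11 H) (hY : Nat.card (Y : Subgroup H) = 11)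
    (h23 : Nat.card (Sylow 11 H) = 23) {y : H} (hyY : y ∈ (Y : Subgroup H)) (hy : orderOf y = 11)
    {W : Subgroup H} (hW : Nat.card W = 9) (hWy : ∀ w ∈ W, Commute w y)
    (h3 : ¬ 27 ∣ Nat.card H) (h23' : ¬ 23 * 23 ∣ Nat.card H) :
    ∃ v : H, orderOf v = 23 ∧ v ∈ normalizer (W : Set H) := by
  classical
  haveI : Fact (Nat.Prime 3) := ⟨by norm_num⟩
  haveI : Fact (Nat.Prime 23) := ⟨by norm_num⟩
  set φ : H →* Equiv.Perm (Sylow 11 H) := MulAction.toPermHom H (Sylow 11 H) with hφ
  have hyY' : zpowers y = (Y : Subgroup H) := eq_of_le_of_card_ge (zpowers_le.2 hyY) (by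
    rw [Nat.card_zpowers, hy, hY])
  have hYfix : ∀ Q : Sylow 11 H, y • Q = Q → Q = Y := by
    intro Q hQ
    rw [Sylow.smul_eq_iff_mem_normalizer] at hQ
    have hp : IsPGroup 11 (zpowers y) := IsPGroup.of_card (n := 1) (by rw [Nat.card_zpowers, hy, pow_one])
    have hle := Q.is_maximal' (hp.to_sup_of_normal_right' Q.isPGroup' (zpowers_le.2 hQ)) le_sup_right
    refine Sylow.ext (eq_of_le_of_card_ge ?_ ?_).symm
    · rw [← hyY']
      exact le_trans le_sup_left hle.le
    · rw [hY, card_sylow_eq Q (a := 1) (m := Nat.card H / 11) ?_ ?_, pow_one]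
      · rw [pow_one, Nat.mul_div_cancel' (hY ▸ card_subgroup_dvd_card _)]
      · have := Y.not_dvd_index
        have h1 := (Y : Subgroup H).card_mul_index
        rw [hY] at h1
        rw [← h1, Nat.mul_div_cancel_left _ (by norm_num)]
        exact this
  have hyp : ∀ k : ℕ, y ^ k ∈ (Y : Subgroup H) := fun k => pow_mem hyY k
  have hfix : ∀ w ∈ W, ∀ Q : Sylow 11 H, w • Q = Q := by
    intro w hw Q
    by_cases hQ : Q = Y
    · rw [hQ, Sylow.smul_eq_iff_mem_normalizer]
      show w ∈ normalizer ((Y : Subgroup H) : Set H)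
      rw [mem_normalizer_iff]
      intro a
      constructor
      · intro ha
        obtain ⟨k, rfl⟩ := mem_zpowers_iff.1 (hyY'.symm ▸ ha : a ∈ zpowers y)
        rw [((hWy w hw).zpow_right k).eq, mul_inv_cancel_right]
        exact ha
      · intro ha
        obtain ⟨k, hk⟩ := mem_zpowers_iff.1 (hyY'.symm ▸ ha : w * a * w⁻¹ ∈ zpowers y)
        have : a = y ^ k := by
          calc a = w⁻¹ * (w * a * w⁻¹) * w := by group
            _ = y ^ k := by rw [← hk, mul_assoc, ← ((hWy w hw).zpow_right k).eq, inv_mul_cancel_left]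
        rw [this]
        exact (hyY' ▸ zpow_mem_zpowers y k : y ^ k ∈ (Y : Subgroup H))
    set A : Subgroup H := W ⊔ zpowers y with hA
    have hcardA : Nat.card A = 99 := by
      have hcop : (Nat.card W).Coprime (Nat.card (zpowers y)) := by rw [hW, Nat.card_zpowers, hy]; norm_num
      have hn : zpowers y ≤ normalizer (W : Set H) := by
        rw [zpowers_le, mem_normalizer_iff]
        intro a
        constructor
        · intro ha; rw [← (hWy a ha).eq, mul_inv_cancel_right]; exact ha
        · intro ha
          have e := (hWy _ ha).eq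
          have : a = y * a * y⁻¹ := by
            calc a = y⁻¹ * (y * a * y⁻¹ * y) := by group
              _ = y * a * y⁻¹ := by rw [e, inv_mul_cancel_left]
          rwa [this]
      have h1 : Nat.card A ∣ 99 := by
        have hcm : ∀ (a : W) (b : zpowers y), Commute (W.subtype a) ((zpowers y).subtype b) := by
          rintro ⟨a, ha⟩ ⟨b, hb⟩
          obtain ⟨k, rfl⟩ := mem_zpowers_iff.1 hb
          exact (hWy a ha).zpow_right k
        have hr := Subgroup.card_range_dvd (MonoidHom.noncommCoprod W.subtype (zpowers y).subtype hcm)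
        rw [MonoidHom.noncommCoprod_range, Subgroup.range_subtype, Subgroup.range_subtype, Nat.card_prod, hW,
          Nat.card_zpowers, hy] at hr
        exact hr
      refine Nat.dvd_antisymm h1 ?_
      refine (show Nat.Coprime 9 11 by norm_num).mul_dvd_of_dvd_of_dvd ?_ ?_
      · exact hW ▸ card_dvd_of_le le_sup_left
      · exact (hy ▸ Nat.card_zpowers y) ▸ card_dvd_of_le (le_sup_right : zpowers y ≤ A)
    have horb : Nat.card (orbit A Q) * Nat.card (stabilizer A Q) = 99 := by
      rw [← hcardA, ← Nat.card_congr (orbitProdStabilizerEquivGroup A Q).symm |>.symm, Nat.card_prod]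
    have hlt : Nat.card (orbit A Q) ≤ 22 := by
      have : Nat.card (orbit A Q) < Nat.card (Sylow 11 H) := by
        haveI := Fintype.ofFinite (Sylow 11 H)
        rw [Nat.card_eq_fintype_card, Nat.card_eq_fintype_card]
        refine Fintype.card_subtype_lt (x := Y) fun hm => hQ ?_
        obtain ⟨a, ha⟩ := hm
        have ha' : (a : H) • Q = Y := ha
        have hAY : A ≤ stabilizer H Y := by
          refine sup_le (fun w' hw' => ?_) (zpowers_le.2 ?_)
          · rw [mem_stabilizer_iff, Sylow.smul_eq_iff_mem_normalizer]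
            show w' ∈ normalizer ((Y : Subgroup H) : Set H)
            rw [mem_normalizer_iff]
            intro b
            rw [← hyY']
            constructor
            · rintro ⟨k, rfl⟩
              exact ⟨k, by show y ^ k = w' * y ^ k * w'⁻¹; rw [((hWy w' hw').zpow_right k).eq, mul_inv_cancel_right]⟩
            · rintro ⟨k, hk⟩
              refine ⟨k, ?_⟩
              calc y ^ k = w'⁻¹ * (y ^ k * w') := by rw [← ((hWy w' hw').zpow_right k).eq, inv_mul_cancel_left]
                _ = b := by
                  have hk' : y ^ k = w' * b * w'⁻¹ := hk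
                  rw [hk']; group
          · rw [mem_stabilizer_iff, Sylow.smul_eq_iff_mem_normalizer]
            exact le_normalizer hyY
        calc Q = (a : H)⁻¹ • Y := by rw [← ha', inv_smul_smul]
          _ = Y := hAY (inv_mem a.2)
      omega
    have h11 : 11 ∣ Nat.card (orbit A Q) := by
      by_contra hn
      have h2 : 11 ∣ Nat.card (stabilizer A Q) :=
        ((Nat.Prime.dvd_mul (by norm_num : Nat.Prime 11)).1 ⟨9, by rw [horb]⟩).resolve_left hn
      obtain ⟨a, ha⟩ := exists_prime_orderOf_dvd_card' 11 h2
      have hao : orderOf (a : A) = 11 := by rw [Subgroup.orderOf_coe, ha]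
      haveI : (zpowers y).subgroupOf A |>.Normal := (normal_subgroupOf_iff_le_normalizer le_sup_right).2 (by
        refine sup_le (fun w' hw' => ?_) le_normalizer
        rw [mem_normalizer_iff]
        intro b
        constructor
        · rintro ⟨k, rfl⟩
          exact ⟨k, by show y ^ k = w' * y ^ k * w'⁻¹; rw [((hWy w' hw').zpow_right k).eq, mul_inv_cancel_right]⟩
        · rintro ⟨k, hk⟩
          refine ⟨k, ?_⟩
          have hk' : y ^ k = w' * b * w'⁻¹ := hk
          calc y ^ k = w'⁻¹ * (y ^ k * w') := by rw [← ((hWy w' hw').zpow_right k).eq, inv_mul_cancel_left]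
            _ = b := by rw [hk']; group)
      have hS : IsPGroup 11 (zpowers y) := IsPGroup.of_card (n := 1) (by rw [Nat.card_zpowers, hy, pow_one])
      have hmem : ((a : A) : H) ∈ zpowers y := by
        have hidx : ((zpowers y).subgroupOf A).index = 9 := by
          have := ((zpowers y).subgroupOf A).card_mul_index
          rw [Nat.card_congr (subgroupOfEquivOfLe (le_sup_right : zpowers y ≤ A)).toEquiv, Nat.card_zpowers, hy,
            hcardA] at this
          omega
        have h9 := Subgroup.pow_index_mem ((zpowers y).subgroupOf A) (a : A)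
        rw [hidx, mem_subgroupOf, SubgroupClass.coe_pow] at h9
        have h11' : ((a : A) : H) ^ 11 = 1 := by
          have ho : orderOf ((a : A) : H) = 11 := by rw [Subgroup.orderOf_coe, hao]
          have hp := pow_orderOf_eq_one ((a : A) : H)
          rwa [ho] at hp
        have h55 : ((a : A) : H) ^ 45 ∈ zpowers y := by
          rw [show 45 = 9 * 5 by norm_num, pow_mul]; exact pow_mem h9 5
        rwa [show 45 = 11 * 4 + 1 by norm_num, pow_succ, pow_mul, h11', one_pow, one_mul] at h55
      have hgen : y ∈ zpowers ((a : A) : H) := by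
        have he : zpowers ((a : A) : H) = zpowers y := eq_of_le_of_card_ge (zpowers_le.2 hmem) (by
          rw [Nat.card_zpowers, Nat.card_zpowers, hy, Subgroup.orderOf_coe, hao])
        rw [he]; exact mem_zpowers y
      obtain ⟨k, hk⟩ := hgen
      refine hQ (hYfix Q ?_)
      have hst : ((a : A) : H) ∈ stabilizer H Q := a.2
      have hk' : ((a : A) : H) ^ k = y := hk
      rw [← hk']
      exact zpow_mem hst k
    have hst9 : Nat.card (stabilizer A Q) = 9 := by
      have : Nat.card (orbit A Q) ∣ 99 := Dvd.intro _ horb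
      obtain ⟨m, hm⟩ := h11
      have hm2 : m ≤ 2 := by omega
      interval_cases m
      · rw [hm] at horb; simp at horb
      · rw [hm] at horb; omega
      · rw [hm] at this; norm_num at this
    have hWA : W ≤ A := le_sup_left
    haveI hWn : (W.subgroupOf A).Normal := (normal_subgroupOf_iff_le_normalizer hWA).2 (by
      refine sup_le le_normalizer (zpowers_le.2 ?_)
      rw [mem_normalizer_iff]
      intro a
      constructor
      · intro ha; rw [← (hWy a ha).eq, mul_inv_cancel_right]; exact ha
      · intro ha
        have e := (hWy _ ha).eq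
        have : a = y * a * y⁻¹ := by
          calc a = y⁻¹ * (y * a * y⁻¹ * y) := by group
            _ = y * a * y⁻¹ := by rw [e, inv_mul_cancel_left]
        rwa [this])
    have hle : stabilizer A Q ≤ W.subgroupOf A := by
      intro a ha
      have hidx : (W.subgroupOf A).index = 11 := by
        have := (W.subgroupOf A).card_mul_index
        rw [Nat.card_congr (subgroupOfEquivOfLe hWA).toEquiv, hW, hcardA] at this
        omega
      have h11' := Subgroup.pow_index_mem (W.subgroupOf A) a
      rw [hidx] at h11'
      have h9 : a ^ 9 = 1 := by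
        have := (stabilizer A Q).orderOf_dvd_natCard ha
        rw [hst9] at this
        exact orderOf_dvd_iff_pow_eq_one.1 this
      have : a ^ 55 ∈ W.subgroupOf A := by
        rw [show 55 = 11 * 5 by norm_num, pow_mul]; exact pow_mem h11' 5
      rwa [show 55 = 9 * 6 + 1 by norm_num, pow_succ, pow_mul, h9, one_pow, one_mul] at this
    have heq : stabilizer A Q = W.subgroupOf A := eq_of_le_of_card_ge hle (by
      rw [hst9, Nat.card_congr (subgroupOfEquivOfLe hWA).toEquiv, hW])
    have hm : (⟨w, hWA hw⟩ : A) ∈ stabilizer A Q := by rw [heq]; exact hw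
    exact hm
  set Kk := φ.ker with hKk
  have hWK : W ≤ Kk := fun w hw => by
    rw [hKk, MonoidHom.mem_ker]
    exact Equiv.ext fun Q => hfix w hw Q
  have hKN : Kk ≤ normalizer ((Y : Subgroup H) : Set H) := fun g hg => by
    show g ∈ normalizer (Y : Set H)
    rw [← Sylow.smul_eq_iff_mem_normalizer]
    exact congrArg (fun σ : Equiv.Perm (Sylow 11 H) => σ Y) (MonoidHom.mem_ker.1 hg)
  have hidxN : (normalizer ((Y : Subgroup H) : Set H)).index = 23 := by
    rw [← h23, Y.card_eq_index_normalizer]
    rfl
  have h23K : ¬ 23 ∣ Nat.card Kk := fun hd => h23' (by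
    have h1 := (normalizer ((Y : Subgroup H) : Set H)).card_mul_index
    rw [hidxN] at h1
    rw [← h1]
    exact Nat.mul_dvd_mul (hd.trans (card_dvd_of_le hKN)) dvd_rfl)
  obtain ⟨R, hR⟩ := (IsPGroup.of_card (n := 2) (by rw [Nat.card_congr (subgroupOfEquivOfLe hWK).toEquiv, hW]; norm_num) :
    IsPGroup 3 (W.subgroupOf Kk)).exists_le_sylow
  have hR9 : (R : Subgroup Kk) = W.subgroupOf Kk := by
    refine (eq_of_le_of_card_ge hR ?_).symm
    rw [Nat.card_congr (subgroupOfEquivOfLe hWK).toEquiv, hW]
    obtain ⟨k, hk⟩ := IsPGroup.iff_card.1 R.isPGroup'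
    rw [hk]
    by_contra hlt
    push Not at hlt
    have hk3 : 3 ≤ k := by
      by_contra hk2
      push Not at hk2
      interval_cases k <;> norm_num at hlt
    exact h3 ((pow_dvd_pow 3 hk3).trans (hk ▸ (card_subgroup_dvd_card (R : Subgroup Kk)).trans (card_subgroup_dvd_card Kk)))
  have hfr := Sylow.normalizer_sup_eq_top R
  rw [hR9, map_subgroupOf_eq_of_le hWK] at hfr
  have h23N : 23 ∣ Nat.card (normalizer (W : Set H)) := by
    have h1 : Nat.card H ∣ Nat.card (normalizer (W : Set H)) * Nat.card Kk := by
      have h2 : Kk.relIndex (normalizer (W : Set H)) = Kk.index := by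
        rw [← Subgroup.relIndex_sup_right (normalizer (W : Set H)) Kk, hfr, Subgroup.relIndex_top_right]
      rw [← Kk.card_mul_index, mul_comm (Nat.card (normalizer (W : Set H)))]
      refine Nat.mul_dvd_mul_left _ ?_
      rw [← h2]
      exact Subgroup.relIndex_dvd_card _ _
    have h23H : 23 ∣ Nat.card H := hidxN ▸ Subgroup.index_dvd_card _
    exact ((Nat.Prime.dvd_mul (by norm_num)).1 (h23H.trans h1)).resolve_right h23K
  obtain ⟨v, hv⟩ := exists_prime_orderOf_dvd_card' 23 h23N
  exact ⟨v, by rw [Subgroup.orderOf_coe, hv], v.2⟩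

end CfsgLib.Char.MTwentyThreeOrder
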