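import Cfsg.Agent.Lib.Char.MTwentyThreeOrder.Phase.Known

/-!
# Simple groups of order 10200960: the prime seven
-/

set_option autoImplicit false
set_option linter.all false
set_option maxRecDepth 8000

open Cfsg CfsgLib.Perm.PrimeBlock CfsgLib.Block Finset CfsgLib.Char.MEleven.Order CfsgLib.Char.MTwelveOrder
open CfsgLib.Char.MTwentyTwoOrder (PData exists_pdata blockDegs subBag nd subBag_of sum_of_map)

namespace CfsgLib.Char.MTwentyThreeOrder

universe u

/-- The lists at 23 left by the degrees 1035 and 2024 at seven. -/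
def threeSix : List (List ℤ) :=
  [[231, 231, 231, -45, -45, -22, 990, 990, -896, -896], [231, 231, 231, -45, -45, 990, 990, -528, -896, -896],
    [231, 231, -45, -45, 990, 990, -528, -528, -896, -896],
    [231, -45, -45, -22, -22, -22, 990, 990, -896, -896]]

/-- The lists at seven for an automizer of order six. -/
def sixSeven : List (List ℤ) := [[22, 253, 253, 253, 253], [22, 253, 253, 253, -1035], [253, 253, 253, 253, -1035]]

/-- The lists at 23 for an automizer of order six at seven. -/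
def sixSix : List (List ℤ) :=
  [[231, 231, -45, -45, -22, -22, -22, 990, -896, -896], [231, -45, -45, -22, -22, -22, 990, 990, -896, -896]]

theorem restSq_le (f : List ℕ) : restSq f ≤ 3370576 := by
  have h : 6830384 ≤ 1 + (degsA.map fun d => d * d).sum + 4096576 +
      ((f.filter fun d => d % 11 == 0).map fun d => d * d).sum := by
    simp [degsA]
  unfold restSq
  omega

variable {G : Type u} [Group G] [Fintype G] [IsSimpleGroup G]

theorem fit_sum (A : Finset (IrrCharacter G)) {l : List ℕ} (h : A.val.map dg = ↑l) (ψ : IrrCharacter G)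
    (hψ : dg ψ = 2024) : ∃ S : Finset (IrrCharacter G), (∀ χ ∈ S, 253 ∣ dg χ) ∧ ψ ∉ S ∧
      (((l.filter fun d => d % 253 == 0).erase 2024).map fun d => d * d).sum ≤ ∑ χ ∈ S, dg χ * dg χ := by
  classical
  set F := A.filter fun χ => dg χ % 253 = 0 with hF
  have hFm : F.val.map dg = ↑(l.filter fun d => d % 253 == 0) := by
    rw [hF, Finset.filter_val, show (↑(l.filter fun d => d % 253 == 0) : Multiset ℕ) =
      Multiset.filter (fun d => d % 253 = 0) (↑l : Multiset ℕ) by rw [Multiset.filter_coe]; rfl,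
      ← h, Multiset.filter_map]
    congr 1
  refine ⟨F.erase ψ, fun χ hχ => Nat.dvd_of_mod_eq_zero (Finset.mem_filter.1 (Finset.mem_of_mem_erase hχ)).2,
    Finset.notMem_erase ψ F, ?_⟩
  by_cases hmem : ψ ∈ F
  · have he : (F.erase ψ).val.map dg = ↑((l.filter fun d => d % 253 == 0).erase 2024) := by
      rw [Finset.erase_val, Multiset.map_erase_of_mem dg _ hmem, hFm, hψ, Multiset.coe_erase]
    exact le_of_eq (sum_of_map he fun d => d * d).symm
  · rw [Finset.erase_eq_self.2 hmem, sum_of_map hFm fun d => d * d]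
    exact ((List.erase_sublist).map _).sum_le_sum fun _ _ => Nat.zero_le _

variable [Fact (Nat.Prime 23)] [Fact (Nat.Prime 11)] [Fact (Nat.Prime 5)] [Fact (Nat.Prime 7)]

/-- Two characters of degree 22 at seven are impossible. -/
theorem not_two_22 (h : Nat.card G = 10200960) (D23 : PData G 23 11 1) (D11 : PData G 11 5 1) (D5 : PData G 5 4 3)
    {X11 : List (IrrCharacter G)} (hX11 : List.Perm X11 D11.S.X.toList)
    (hl : X11.map (sd D11.S) = elevenA ∨ X11.map (sd D11.S) = elevenB) {c : ℕ} (D : PData G 7 3 c) (hc : 2 ∣ c)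
    {X7 : List (IrrCharacter G)} (hX7 : List.Perm X7 D.S.X.toList)
    (hl7 : List.Perm [22, 22] (X7.map (sd D.S))) : False := by
  classical
  have hG := noncomm h
  obtain ⟨A, hA, hAm⟩ := exists_order_X D hX7 hl7
  rcases A with _ | ⟨a, _ | ⟨b, _ | ⟨_, A⟩⟩⟩ <;> simp at hAm
  obtain ⟨ha, hb⟩ := hAm
  obtain ⟨z, hzC, hz⟩ := exists_cent_invol D hc
  have val22 : ∀ φ ∈ D.S.X, sd D.S φ = 22 → sv D.S z φ = -6 := by
    intro φ hφ hs
    obtain ⟨h1, h4⟩ := sv_natAbs D hG hz hφ
    have h7 := sv_congr D hG (by norm_num) hz hzC hφ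
    rw [hs] at h1 h4
    omega
  have va := val22 a (D.mem_X hA (by simp)) ha
  have vb := val22 b (D.mem_X hA (by simp)) hb
  have hθ : ∀ θ ∈ D.S.Y, dg θ = 45 ∧ iv θ z = -11 := by
    intro θ hθ
    obtain ⟨e1, e2⟩ := exc_eq D hG (by norm_num) hz hA hθ
    simp only [List.map_cons, List.map_nil, List.sum_cons, List.sum_nil, ha, hb, va, vb] at e1 e2
    norm_num at e1 e2
    rcases D.S.sign with hs | hs <;> rw [hs] at e1 e2
    · exact ⟨by omega, by omega⟩
    · omega
  have hcard : (blockDegs ((11 - 1) / 5) (X11.map (sd D11.S))).count 45 ≤ D.S.Y.card := by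
    rw [D.S.card_Y, show ((11 - 1) / 5 : ℕ) = 2 from rfl]
    rcases hl with hl | hl <;> rw [hl]
    · rw [degsA_eq]; decide
    · rw [degsB_eq]; decide
  refine eleven_not_minus D11 h D23 D5 hX11 hl hz fun χ hχ => ?_
  exact (hθ χ (mem_of_count D11 rfl (by norm_num) (by norm_num) hX11 (by norm_num) (by norm_num) D.S.Y
    (fun θ hθ' => (hθ θ hθ').1) hcard hχ)).2

/-- The parameters at seven. -/
theorem seven_param (h : Nat.card G = 10200960) (D23 : PData G 23 11 1) (D11 : PData G 11 5 1)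
    (D5 : PData G 5 4 3) : ∃ e c : ℕ, (e, c) ∈ sevenPar ∧ ¬ 7 ∣ c ∧ Nonempty (PData G 7 e c) := by
  classical
  have hG := noncomm h
  obtain ⟨n, e, c, hn, hn1, hn2, he2, hep, hpc, ⟨D⟩⟩ :=
    exists_pdata hG 7 1457280 (by norm_num) (by rw [h]) (by norm_num)
  have hx := fun (χ : IrrCharacter G) (_ : χ ≠ oneChar G) => extSmall_all h D23 D11 χ
  have hposs := possible'_eq D h (extra := extSmall) (by norm_num) hep he2 hpc hx
  have hel : e ∈ [2, 3, 6] := by
    have := Nat.le_of_dvd (by norm_num) hep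
    interval_cases e <;> simp_all
  have hc : 1457280 / (n * e) = c := by
    rw [show 1457280 = n * e * c by rw [← hn]; ring,
      Nat.mul_div_cancel_left _ (Nat.mul_pos (by omega) (by omega))]
  have hd : 1457280 % (n * e) = 0 := Nat.mod_eq_zero_of_dvd ⟨c, by rw [← hn]; ring⟩
  have h5 : ¬ 5 ∣ c := fun h0 => by
    have := cross D D5 (by norm_num) h0
    norm_num at this
  have hmem := test_7 n (mem_divs ((show n ∣ 1457280 from ⟨e * c, hn.symm⟩).trans (by norm_num))) e hel
    (by omega) hn2 hd (by rw [hc]; exact fun h0 => not_23_dvd D23 D (by norm_num) (Nat.dvd_of_mod_eq_zero h0))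
    (by rw [hc]; exact fun h0 => not_11_dvd D11 D (by norm_num) (Nat.dvd_of_mod_eq_zero h0))
    (by rw [hc]; exact fun h0 => h5 (Nat.dvd_of_mod_eq_zero h0))
  rw [hc, hposs] at hmem
  simp only [Bool.true_eq_false, or_false] at hmem
  exact ⟨e, c, hmem, hpc, ⟨D⟩⟩

/-- The block at eleven is in the first case. -/
theorem eleven_is_A (h : Nat.card G = 10200960) (D23 : PData G 23 11 1) (D11 : PData G 11 5 1)
    (D5 : PData G 5 4 3) {X11 : List (IrrCharacter G)} (hX11 : List.Perm X11 D11.S.X.toList)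
    (hl : X11.map (sd D11.S) = elevenA ∨ X11.map (sd D11.S) = elevenB) : X11.map (sd D11.S) = elevenA := by
  classical
  refine hl.resolve_right fun hlB => ?_
  obtain ⟨e, c, hpar, hpc, ⟨D⟩⟩ := seven_param h D23 D11 D5
  have hq : e ∣ 6 ∧ 2 ≤ e ∧ (e = 3 → 2 ∣ c) := by
    simp only [sevenPar, List.mem_cons, List.not_mem_nil, or_false, Prod.mk.injEq] at hpar
    rcases hpar with h' | h' | h' | h' | h' | h' | h' | h' | h' <;> obtain ⟨rfl, rfl⟩ := h' <;> norm_num
  have hx := fun (χ : IrrCharacter G) (hne : χ ≠ oneChar G) => extKnown_all h D23 D11 hX11 hlB χ hne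
  rw [degsB_eq] at hx
  obtain ⟨X7, hX7, hm, hok⟩ := exists_lists D h (extra := extKnown degsB) (by norm_num) hq.1 hq.2.1 hpc hx
  have hb7 := D.blk_degs (p := 7) hq.1 (by omega) hX7
  have hb11 := D11.blk_degs (by norm_num) (by norm_num) hX11
  rw [hlB, show ((11 - 1) / 5 : ℕ) = 2 from rfl, degsB_eq] at hb11
  obtain ⟨he3, hperm⟩ := seven_lists_B (e, c) hpar _ hm hok (D.sub_nd D11 rfl hb7 hb11)
  simp only at he3
  subst he3
  exact not_two_22 h D23 D11 D5 hX11 hl D (hq.2.2 rfl) hX7 hperm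

/-- The block at 23. -/
theorem exists_six (h : Nat.card G = 10200960) (D23 : PData G 23 11 1) (D11 : PData G 11 5 1)
    {X11 : List (IrrCharacter G)} (hX11 : List.Perm X11 D11.S.X.toList) (hl : X11.map (sd D11.S) = elevenA)
    {χ ψ : IrrCharacter G} (hχ : dg χ = 231) (hψ : dg ψ = 2024) :
    ∃ X23 : List (IrrCharacter G), List.Perm X23 D23.S.X.toList ∧ X23.map (sd D23.S) ∈ sixLists := by
  classical
  have hx := fun (φ : IrrCharacter G) (hne : φ ≠ oneChar G) => extKnown_all h D23 D11 hX11 hl φ hne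
  rw [degsA_eq] at hx
  obtain ⟨X23, hX23, hm, hok⟩ := exists_lists D23 h (extra := extKnown degsA) (by norm_num) (by norm_num)
    (by norm_num) (by norm_num) hx
  rw [six_cands] at hm
  refine ⟨X23, hX23, six_lists _ hm ?_ hok⟩
  obtain ⟨hr1, hr2, -⟩ := rest_bound h D23 D11 ψ hψ hX11 hl hX23
  have hb23 := D23.blk_degs (by norm_num) (by norm_num) hX23
  have hb11 := D11.blk_degs (by norm_num) (by norm_num) hX11
  rw [hl, show ((11 - 1) / 5 : ℕ) = 2 from rfl, degsA_eq] at hb11
  rw [show ((23 - 1) / 11 : ℕ) = 2 from rfl] at hb23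
  simp only [sixOK, Bool.and_eq_true, decide_eq_true_eq, beq_iff_eq, List.contains_iff_mem]
  refine ⟨⟨⟨⟨D23.sub_nd D11 rfl hb23 hb11, D11.sub_nd D23 rfl hb11 hb23⟩, ?_⟩, hr1⟩, hr2⟩
  have := D23.mem_degs (by norm_num) (by norm_num) hX23
    (D23.mem_blk_of rfl (fun e => by rw [e, dg_one] at hχ; omega) (by rw [hχ]; norm_num) : χ ∈ D23.blk)
  rwa [hχ] at this

/-- Every character of degree 2024 is the same. -/
theorem only_2024 (h : Nat.card G = 10200960) (D23 : PData G 23 11 1) (D11 : PData G 11 5 1)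
    {X11 : List (IrrCharacter G)} (hX11 : List.Perm X11 D11.S.X.toList) (hl : X11.map (sd D11.S) = elevenA)
    {X23 : List (IrrCharacter G)} (hX23 : List.Perm X23 D23.S.X.toList)
    {ψ φ : IrrCharacter G} (hψ : dg ψ = 2024) (hφ : dg φ = 2024) : φ = ψ := by
  classical
  by_contra hne
  obtain ⟨h0, -, hS⟩ := rest_bound h D23 D11 ψ hψ hX11 hl hX23
  have h1 := hS {φ} (fun χ hχ => by rw [Finset.mem_singleton.1 hχ, hφ]; norm_num) (by simpa using Ne.symm hne)
  rw [Finset.sum_singleton, hφ] at h1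
  have h2 := restSq_le (blockDegs 2 (X23.map (sd D23.S)))
  omega

/-- The values on the block at eleven in the first case. -/
theorem blk_valA (h : Nat.card G = 10200960) (D23 : PData G 23 11 1) (D11 : PData G 11 5 1) (D5 : PData G 5 4 3)
    {X11 : List (IrrCharacter G)} (hX11 : List.Perm X11 D11.S.X.toList) (hl : X11.map (sd D11.S) = elevenA)
    {u : G} (hu : orderOf u = 2) (hC : Nat.card (Subgroup.centralizer ({u} : Set G)) ∣ 2688)
    (hb : ∀ χ : IrrCharacter G, dg χ = 1035 → iv χ u % 7 = 6 ∨ iv χ u = 27) :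
    ∀ φ ∈ D11.blk, iv φ u = valA (dg φ) := by
  obtain ⟨v1, v2, v3⟩ := eleven_values D11 h D23 D5 hX11 hl hu hC hb
  intro φ hφ
  have hd := D11.mem_degs (by norm_num) (by norm_num) hX11 hφ
  rw [hl, show ((11 - 1) / 5 : ℕ) = 2 from rfl, degsA_eq] at hd
  simp only [degsA, List.mem_cons, List.not_mem_nil, or_false] at hd
  rcases hd with hd | hd | hd | hd | hd | hd <;> rw [hd] <;> simp only [valA, Nat.reduceEqDiff, if_true, if_false]
  · exact v3 φ hd
  · exact v3 φ hd
  · exact v1 φ hd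
  · exact v2 φ hd
  · exact val_896 h D23 D11 D5 hX11 hl hu φ hd
  · exact val_896 h D23 D11 D5 hX11 hl hu φ hd

theorem six_degs : ∀ l ∈ sixSeven, 1035 ∈ blockDegs 1 l ∧ 22 ∈ blockDegs 1 l := by decide +kernel

theorem six_count : degsA.count 1035 = 1 := by decide +kernel

/-- An automizer of order six at seven is impossible. -/
theorem not_six (h : Nat.card G = 10200960) (D23 : PData G 23 11 1) (D11 : PData G 11 5 1) (D5 : PData G 5 4 3)
    {X11 : List (IrrCharacter G)} (hX11 : List.Perm X11 D11.S.X.toList) (hl : X11.map (sd D11.S) = elevenA)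
    {χ ψ : IrrCharacter G} (hχ : dg χ = 231) (hψ : dg ψ = 2024)
    (hv : ∀ u : G, orderOf u = 2 → iv χ u = 7 ∧ iv ψ u = 8 ∧
      Nat.card (Subgroup.centralizer ({u} : Set G)) ∣ 2688)
    {c : ℕ} (hc : c ∈ [64, 8, 1]) (D : PData G 7 6 c) {X7 : List (IrrCharacter G)}
    (hX7 : List.Perm X7 D.S.X.toList) {q : List ℤ} (hq : q ∈ sixSeven) (hl7 : List.Perm q (X7.map (sd D.S)))
    {X23 : List (IrrCharacter G)} (hX23 : List.Perm X23 D23.S.X.toList) (hl23 : X23.map (sd D23.S) ∈ sixSix) :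
    False := by
  classical
  have hG := noncomm h
  by_cases hc2 : 2 ∣ c
  swap
  · haveI : Fact (Nat.Prime 2) := ⟨Nat.prime_two⟩
    obtain ⟨t, ht⟩ := exists_order h 2 (by norm_num)
    refine eleven_not_384 D11 h D23 D5 hX11 hl ht (Nat.le_of_dvd (by norm_num) ?_)
    exact Nat.Coprime.dvd_of_dvd_mul_right ((Nat.Prime.coprime_iff_not_dvd (by norm_num : Nat.Prime 7)).2
      (not_dvd_invol D (by norm_num) hc2 ht)).symm ((hv t ht).2.2.trans (by norm_num))
  obtain ⟨z, hzC, hz⟩ := exists_cent_invol D hc2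
  obtain ⟨A, hA, hAm⟩ := exists_order_X D hX7 hl7
  obtain ⟨d1035, d22⟩ := six_degs q hq
  rw [← hAm] at d1035 d22
  obtain ⟨ξ, hξ, hξd⟩ := D.exists_of_mem (p := 7) (by norm_num) (by norm_num) hA d1035
  obtain ⟨φ, hφ, hφd⟩ := D.exists_of_mem (p := 7) (by norm_num) (by norm_num) hA d22
  obtain ⟨h7, h8, hC⟩ := hv z hz
  have hvA := blk_valA h D23 D11 D5 hX11 hl hz hC fun χ' hχ' => Or.inl (by
    have hmem : χ' ∈ ({ξ} : Finset (IrrCharacter G)) :=
      mem_of_count D11 rfl (by norm_num) (by norm_num) hX11 (by norm_num) (by norm_num) {ξ}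
        (fun φ' hφ' => by rw [Finset.mem_singleton.1 hφ', hξd])
        (by rw [hl, show ((11 - 1) / 5 : ℕ) = 2 from rfl, degsA_eq, six_count]; rfl) hχ'
    rw [Finset.mem_singleton.1 hmem]
    have := blk_congr D hG (by norm_num) (by norm_num) (by norm_num) hz hzC hξ
    rw [hξd] at this
    omega)
  have hφne : φ ≠ oneChar G := D.blk_ne_one hφ
  have h6 : iv φ z = -6 := by
    obtain ⟨h1, h4⟩ := iv_bound hG φ hφne hz
    have := blk_congr D hG (by norm_num) (by norm_num) (by norm_num) hz hzC hφ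
    rw [hφd] at h1 h4 this
    omega
  have hbound := known_bound h D11 hX11 hl hz hvA hχ hψ h7 h8
  have hCle := Nat.le_of_dvd (by norm_num) hC
  have hdiff : φ ≠ χ := fun e => by rw [e, hχ] at hφd; omega
  have hsumA : List.Perm (X23.map (sd D23.S)) (X23.map (sd D23.S)) := List.Perm.refl _
  obtain ⟨E, fr, hperm, hE, hE0, hEM, hdvd, hfr, htab⟩ : ∃ (E : ℤ) (fr : List ℤ),
      List.Perm (([231, -22] : List ℤ) ++ ([-45, -45, -896, -896] ++ fr)) (X23.map (sd D23.S)) ∧
      1 + (([231, -22] : List ℤ) ++ ([-45, -45, -896, -896] ++ fr)).sum = E ∧ E ≠ 0 ∧ E ∣ 443520 ∧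
      (∀ s ∈ ([231, -22] : List ℤ) ++ ([-45, -45, -896, -896] ++ fr), s ∣ (443520 : ℤ)) ∧
      (∀ s ∈ fr, s.natAbs ∉ [45, 896, 1035, 230, 1, 2024]) ∧
      (∀ T ∈ valsB 25 E, sieveRun 443520 E (dataSix fr) T = true) ∧ E ∈ [(-495 : ℤ), 264] := by
    simp only [sixSix, List.mem_cons, List.not_mem_nil, or_false] at hl23
    rcases hl23 with hl23 | hl23
    · exact ⟨-495, [990, 231, -22, -22], by rw [hl23]; decide, by decide, by decide, by decide, by decide, by decide,
        table_six_a, by decide⟩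
    · exact ⟨264, [990, 990, -22, -22], by rw [hl23]; decide, by decide, by decide, by decide, by decide, by decide,
        table_six_b, by decide⟩
  obtain ⟨htab, hE2⟩ := htab
  obtain ⟨θ, hθ⟩ := nonempty_Y D23.S (by norm_num : 11 ∣ 23 - 1) (by norm_num)
  have hYd : ∀ θ' ∈ D23.S.Y, dg θ' = E.natAbs := by
    intro θ' hθ'
    obtain ⟨e1, -⟩ := exc_eq D23 hG (by norm_num) hz hX23 hθ'
    rw [← hperm.sum_eq, hE] at e1
    rw [← e1]
    rcases D23.S.sign with hs | hs <;> rw [hs] <;> simp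
  have inX : ∀ {ρ : IrrCharacter G}, ρ ≠ oneChar G → dg ρ ∈ [231, 22] → ρ ∈ D23.S.X := by
    intro ρ hne hd
    simp only [List.mem_cons, List.not_mem_nil, or_false] at hd hE2
    refine (D23.mem_blk.1 (D23.mem_blk_of rfl hne (by omega))).resolve_right fun hY => ?_
    have := hYd ρ hY
    omega
  have hχX : χ ∈ D23.S.X := inX (fun e => by rw [e, dg_one] at hχ; omega) (by rw [hχ]; simp)
  have hφX : φ ∈ D23.S.X := inX hφne (by rw [hφd]; simp)
  have hsd : ∀ r ∈ D23.S.X, sd D23.S r ∈ ([231, -22] : List ℤ) ++ ([-45, -45, -896, -896] ++ fr) := fun r hr =>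
    hperm.mem_iff.2 (List.mem_map_of_mem ((mem_blk_iff_perm D23 hX23).2 hr))
  have hfr22 : ∀ s ∈ ([231, -22] : List ℤ) ++ ([-45, -45, -896, -896] ++ fr),
      (s.natAbs = 231 → s = 231) ∧ (s.natAbs = 22 → s = -22) := by
    simp only [sixSix, List.mem_cons, List.not_mem_nil, or_false] at hl23
    intro s hs
    have := hperm.mem_iff.1 hs
    rcases hl23 with e | e <;> rw [e] at this <;> simp at this <;> omega
  have hsχ : sd D23.S χ = 231 := (hfr22 _ (hsd χ hχX)).1 (by rw [natAbs_sd D23.S hχX, hχ])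
  have hsφ : sd D23.S φ = -22 := (hfr22 _ (hsd φ hφX)).2 (by rw [natAbs_sd D23.S hφX, hφd])
  have hvχ : sv D23.S z χ = 7 := by rw [(of_sd D23 hχX z hsχ).2.1 (by norm_num), h7]
  have hvφ : sv D23.S z φ = 6 := by rw [(of_sd D23 hφX z hsφ).2.2 (by norm_num), h6]; norm_num
  have hTm : (1 + (X23.map (sv D23.S z)).sum) ∈ valsB 25 (1 + (X23.map (sd D23.S)).sum) := by
    refine exc_mem D23 hG (by norm_num) (by norm_num) (by norm_num) hz hX23 hθ ?_
    obtain ⟨θ', hne, hY⟩ : ∃ θ', θ ≠ θ' ∧ θ' ∈ D23.S.Y :=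
      (Finset.exists_mem_ne (by rw [D23.S.card_Y]; norm_num) θ).imp fun θ' h' => ⟨h'.2.symm, h'.1⟩
    have heq : iv θ' z = iv θ z := iv_Y D23.S hY hθ (by rw [hz]; norm_num) fun ρ => val_invol hG ρ hz
    have hnm : ∀ ρ ∈ D23.S.Y, ρ ≠ φ ∧ ρ ≠ χ := fun ρ hρ =>
      ⟨fun e => Finset.disjoint_left.1 D23.S.disjoint hφX (e ▸ hρ),
        fun e => Finset.disjoint_left.1 D23.S.disjoint hχX (e ▸ hρ)⟩
    have hS := hbound {φ, θ, θ'} (fun ρ hρ => by
      simp only [Finset.mem_insert, Finset.mem_singleton] at hρ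
      rcases hρ with rfl | rfl | rfl
      · exact ⟨hdiff, by rw [hφd]; decide⟩
      · refine ⟨(hnm _ hθ).2, ?_⟩
        rw [hYd _ hθ]; simp only [List.mem_cons, List.not_mem_nil, or_false] at hE2 ⊢; omega
      · refine ⟨(hnm _ hY).2, ?_⟩
        rw [hYd _ hY]; simp only [List.mem_cons, List.not_mem_nil, or_false] at hE2 ⊢; omega)
    rw [Finset.sum_insert (by simp [(hnm θ hθ).1.symm, (hnm θ' hY).1.symm]), Finset.sum_pair hne, heq, h6] at hS
    have hC' : (Nat.card (Subgroup.centralizer ({z} : Set G)) : ℤ) ≤ 2688 := by exact_mod_cast hCle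
    have hb1 : iv θ z ≤ 25 := by nlinarith
    have hb2 : -25 ≤ iv θ z := by nlinarith
    omega
  rw [← hperm.sum_eq, hE] at hTm
  set g : ℤ → List ℤ := fun s => if s.natAbs = 45 then [3] else if s.natAbs = 896 then [0] else valsB 36 s with hg
  have hrun := run_false D23 hG (by norm_num) (by norm_num) (by norm_num) (by norm_num) hz hX23 [χ, φ]
    (by simp [hdiff.symm]) (by simp [hχX, hφX]) (l₁ := [-45, -45, -896, -896]) (l₂ := fr)
    (by simpa [hsχ, hsφ] using hperm) g (fun r hr hrP => by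
      simp only [List.mem_cons, List.not_mem_nil, or_false, not_or] at hrP
      have hdr := natAbs_sd D23.S hr
      obtain ⟨hn1, hn2⟩ := sv_natAbs D23 hG hz hr
      simp only [hg]
      have sdneg : ∀ {d : ℕ}, dg r = d → ((d : ℤ) = 45 ∨ (d : ℤ) = 896) → sd D23.S r = -(d : ℤ) := by
        intro d hd hd'
        have hm := hperm.mem_iff.1 (hsd r hr)
        simp only [sixSix, List.mem_cons, List.not_mem_nil, or_false] at hl23
        rcases hl23 with e | e <;> rw [e] at hm <;> simp at hm <;> omega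
      split_ifs with e45 e896
      · rw [hdr] at e45
        have hs := sdneg e45 (Or.inl rfl)
        rw [(of_sd D23 hr z hs).2.2 (by norm_num), hvA r (D11.mem_blk_of rfl (fun e => D23.S.one_notMem_X (e ▸ hr))
          (by rw [e45]; norm_num)), e45]
        simp [valA]
      · rw [hdr] at e896
        have hs := sdneg e896 (Or.inr rfl)
        rw [(of_sd D23 hr z hs).2.2 (by norm_num), hvA r (D11.mem_blk_of rfl (fun e => D23.S.one_notMem_X (e ▸ hr))
          (by rw [e896]; norm_num)), e896]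
        simp [valA]
      · refine mem_valsB hn1 hn2 ?_
        have hnot : dg r ∉ [1, 45, 1035, 230, 896, 2024] := by
          rw [← hdr]
          have hm := hperm.mem_iff.1 (hsd r hr)
          simp only [sixSix, List.mem_cons, List.not_mem_nil, or_false] at hl23 ⊢
          rcases hl23 with e | e <;> rw [e] at hm <;> simp at hm <;> omega
        have hS := hbound {φ, r} (fun ρ hρ => by
          simp only [Finset.mem_insert, Finset.mem_singleton] at hρ
          rcases hρ with rfl | rfl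
          · exact ⟨hdiff, by rw [hφd]; decide⟩
          · exact ⟨hrP.1, hnot⟩)
        rw [Finset.sum_pair (Ne.symm hrP.2), h6] at hS
        have hC' : (Nat.card (Subgroup.centralizer ({z} : Set G)) : ℤ) ≤ 2688 := by exact_mod_cast hCle
        have hb1 : iv r z ≤ 36 := by nlinarith
        have hb2 : -36 ≤ iv r z := by nlinarith
        simp only [sv]
        rcases D23.S.sign_X r hr with hs | hs <;> rw [hs] <;> omega)
    (M := 443520) (E := E) (by norm_num) (by simpa [hsχ, hsφ] using hdvd) (by simpa [hsχ, hsφ] using hE) hE0 hEM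
  have hdata : ([-45, -45, -896, -896] : List ℤ).map (fun s => (s, g s)) ++
      [χ, φ].map (fun r => (sd D23.S r, [sv D23.S z r])) ++ fr.map (fun s => (s, g s)) = dataSix fr := by
    rw [show fr.map (fun s => (s, g s)) = fr.map fun s => (s, valsB 36 s) from List.map_congr_left fun s hs => by
      have := hfr s hs
      simp only [List.mem_cons, List.not_mem_nil, or_false, not_or] at this
      simp [hg, this.1, this.2.1]]
    simp [dataSix, knownVals, hg, hsχ, hsφ, hvχ, hvφ]
  rw [hdata, htab _ hTm] at hrun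
  exact absurd hrun (by simp)

theorem contains_three : ∀ l : List ℤ, threeSix.contains l = true → l ∈ threeSix := fun l h => by
  simpa [List.contains_iff_mem] using h

/-- The prime seven. -/
theorem exists_seven (h : Nat.card G = 10200960) (D23 : PData G 23 11 1) (D11 : PData G 11 5 1) (D5 : PData G 5 4 3)
    {X11 : List (IrrCharacter G)} (hX11 : List.Perm X11 D11.S.X.toList) (hl : X11.map (sd D11.S) = elevenA)
    {χ ψ : IrrCharacter G} (hχ : dg χ = 231) (hψ : dg ψ = 2024)
    (hv : ∀ u : G, orderOf u = 2 → iv χ u = 7 ∧ iv ψ u = 8 ∧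
      Nat.card (Subgroup.centralizer ({u} : Set G)) ∣ 2688) :
    ∃ (c : ℕ) (D7 : PData G 7 3 c) (a b : IrrCharacter G) (X23 : List (IrrCharacter G)),
      c ∈ [128, 16, 2] ∧ List.Perm [a, b] D7.S.X.toList ∧ sd D7.S a = -1035 ∧ sd D7.S b = 2024 ∧
        List.Perm X23 D23.S.X.toList ∧ X23.map (sd D23.S) ∈ threeSix := by
  classical
  obtain ⟨e, c, hpar, hpc, ⟨D⟩⟩ := seven_param h D23 D11 D5
  have hq : e ∣ 6 ∧ 2 ≤ e ∧ (e = 3 → c ∈ [128, 16, 2]) ∧ (e = 6 → c ∈ [64, 8, 1]) := by
    simp only [sevenPar, List.mem_cons, List.not_mem_nil, or_false, Prod.mk.injEq] at hpar ⊢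
    rcases hpar with h' | h' | h' | h' | h' | h' | h' | h' | h' <;> obtain ⟨rfl, rfl⟩ := h' <;> norm_num
  obtain ⟨X23, hX23, hsix⟩ := exists_six h D23 D11 hX11 hl hχ hψ
  have hx := fun (φ : IrrCharacter G) (hne : φ ≠ oneChar G) => extKnown_all h D23 D11 hX11 hl φ hne
  rw [degsA_eq] at hx
  obtain ⟨X7, hX7, hm, hok⟩ := exists_lists D h (extra := extKnown degsA) (by norm_num) hq.1 hq.2.1 hpc hx
  have hb7 := D.blk_degs (p := 7) hq.1 (by omega) hX7
  have hb11 := D11.blk_degs (by norm_num) (by norm_num) hX11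
  rw [hl, show ((11 - 1) / 5 : ℕ) = 2 from rfl, degsA_eq] at hb11
  have hb23 := D23.blk_degs (by norm_num) (by norm_num) hX23
  have hfit : sevenFit (blockDegs 2 (X23.map (sd D23.S))) (blockDegs (6 / e) (X7.map (sd D.S))) = true := by
    simp only [sevenFit, Bool.and_eq_true, decide_eq_true_eq]
    refine ⟨D.sub_nd D23 rfl hb7 hb23, ?_⟩
    obtain ⟨S, hS, hψS, hle⟩ := fit_sum D.blk hb7 ψ hψ
    exact hle.trans ((rest_bound h D23 D11 ψ hψ hX11 hl hX23).2.2 S hS hψS)
  have hconcl := seven_lists_A (e, c) hpar _ hm hok (D.sub_nd D11 rfl hb7 hb11) _ hsix hfit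
  simp only [sevenConcl, Bool.or_eq_true, Bool.and_eq_true, beq_iff_eq, decide_eq_true_eq, List.any_eq_true,
    List.contains_iff_mem] at hconcl
  rcases hconcl with (⟨rfl, hperm⟩ | ⟨⟨rfl, hperm⟩, h23⟩) | ⟨⟨rfl, q, hq', hperm⟩, h23⟩
  · refine (not_two_22 h D23 D11 D5 hX11 (Or.inl hl) D ?_ hX7 hperm).elim
    have := hq.2.2.1 rfl
    simp only [List.mem_cons, List.not_mem_nil, or_false] at this
    omega
  · obtain ⟨A, hA, hAm⟩ := exists_order_X D hX7 hperm
    rcases A with _ | ⟨a, _ | ⟨b, _ | ⟨_, A⟩⟩⟩ <;> simp at hAm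
    exact ⟨c, D, a, b, X23, hq.2.2.1 rfl, hA, hAm.1, hAm.2, hX23, h23⟩
  · exact (not_six h D23 D11 D5 hX11 hl hχ hψ hv (hq.2.2.2 rfl) D hX7 (q := q) hq' hperm hX23 h23).elim

end CfsgLib.Char.MTwentyThreeOrder
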