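import Cfsg.Agent.Lib.Char.MTwelveOrder.Lists

/-!
# A congruence sieve for the quadratic equations of a block
-/

set_option autoImplicit false

namespace CfsgLib.Char.MTwentyThreeOrder

open CfsgLib.Perm.PrimeBlock CfsgLib.Char.MTwelveOrder

/-- The greatest common divisor of the coefficients. -/
def gcdC : List (ℤ × List ℤ) → ℕ
  | [] => 0
  | (k, _) :: rest => Nat.gcd k.natAbs (gcdC rest)

/-- No choice of values `v` has `r + Σ k v² = 0` and `Σ v = t`. -/
def noSol : List (ℤ × List ℤ) → ℤ → ℤ → Bool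
  | [], r, t => r != 0 || t != 0
  | (k, V) :: rest, r, t =>
      r % (gcdC ((k, V) :: rest) : ℤ) != 0 || V.all fun v => noSol rest (r + k * (v * v)) (t - v)

theorem gcdC_dvd : ∀ {ι : Type*} (k v : ι → ℤ) (V : ι → List ℤ) (A : List ι),
    (gcdC (A.map fun i => (k i, V i)) : ℤ) ∣ (A.map fun i => k i * (v i * v i)).sum := by
  intro ι k v V A
  induction A with
  | nil => simp
  | cons a A ih =>
    simp only [List.map_cons, gcdC, List.sum_cons]
    refine dvd_add (Dvd.dvd.mul_right (Int.natCast_dvd.2 (Nat.gcd_dvd_left _ _)) _) ?_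
    exact (Int.natCast_dvd_natCast.2 (Nat.gcd_dvd_right _ _)).trans ih

/-- Soundness of the sieve. -/
theorem noSol_false {ι : Type*} (k v : ι → ℤ) (V : ι → List ℤ) :
    ∀ (A : List ι), (∀ i ∈ A, v i ∈ V i) → ∀ r t : ℤ, r + (A.map fun i => k i * (v i * v i)).sum = 0 →
      (A.map v).sum = t → noSol (A.map fun i => (k i, V i)) r t = false := by
  intro A
  induction A with
  | nil =>
    intro _ r t h1 h2
    simp at h1 h2
    simp [noSol, h1, ← h2]
  | cons a A ih =>
    intro hV r t h1 h2
    have hd := gcdC_dvd k v V (a :: A)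
    simp only [List.map_cons, List.sum_cons] at h1 h2 hd
    simp only [List.map_cons, noSol, Bool.or_eq_false_iff, bne_eq_false_iff_eq, List.all_eq_false]
    refine ⟨Int.emod_eq_zero_of_dvd ?_, v a, hV a (by simp), ?_⟩
    · rw [show r = -(k a * (v a * v a) + (A.map fun i => k i * (v i * v i)).sum) by linarith]
      exact dvd_neg.2 hd
    · rw [ih (fun i hi => hV i (List.mem_cons_of_mem _ hi)) _ _ (by linarith) (by linarith)]
      simp

/-- The class equation in integral form. -/
theorem fracSum_scale {ι : Type*} (s v : ι → ℤ) (M : ℤ) : ∀ A : List ι, (∀ i ∈ A, s i ∣ M) →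
    M * (fracSum (A.map fun i => (s i, v i))).1 =
      (fracSum (A.map fun i => (s i, v i))).2 * (M + (A.map fun i => M / s i * (v i * v i)).sum) := by
  intro A
  induction A with
  | nil => intro _; simp [fracSum]
  | cons a A ih =>
    intro h
    have h1 := ih fun i hi => h i (List.mem_cons_of_mem _ hi)
    obtain ⟨q, hq⟩ := h a (by simp)
    simp only [List.map_cons, fracSum, List.sum_cons]
    by_cases h0 : s a = 0
    · rw [h0, zero_mul] at hq
      subst hq
      simp [h0]
    rw [show M / s a = q by rw [hq, Int.mul_ediv_cancel_left _ h0]]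
    linear_combination (s a) * h1 + (v a * v a * (fracSum (A.map fun i => (s i, v i))).2) * hq

theorem fracSum_snd_ne {ι : Type*} (s v : ι → ℤ) : ∀ A : List ι, (∀ i ∈ A, s i ≠ 0) →
    (fracSum (A.map fun i => (s i, v i))).2 ≠ 0 := by
  intro A
  induction A with
  | nil => intro _; simp [fracSum]
  | cons a A ih =>
    intro h
    simp only [List.map_cons, fracSum]
    exact mul_ne_zero (ih fun i hi => h i (List.mem_cons_of_mem _ hi)) (h a (by simp))

/-- The coefficients and options of a list of signed degrees. -/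
def sieveData (M : ℤ) (V : ℤ → List ℤ) (l : List ℤ) : List (ℤ × List ℤ) := l.map fun s => (M / s, V s)

/-- An assignment solving the homogeneous equation is found by the sieve. -/
theorem sieve_of_zeroE {ι : Type*} (s v : ι → ℤ) (A : List ι) {M : ℤ} {V : ℤ → List ℤ} {T E : ℤ}
    (hM : M ≠ 0) (hs : ∀ i ∈ A, s i ≠ 0 ∧ s i ∣ M ∧ v i ∈ V (s i)) (hE : 1 + (A.map s).sum = E) (hE0 : E ≠ 0)
    (hEM : E ∣ M) (hT : 1 + (A.map v).sum = T) (hz : zeroE (A.map fun i => (s i, v i)) = true) :
    noSol (sieveData M V (A.map s)) (M - M / E * (T * T)) (T - 1) = false := by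
  simp only [zeroE, Bool.and_eq_true, decide_eq_true_eq, beq_iff_eq, List.map_map] at hz
  obtain ⟨-, h0⟩ := hz
  have hcomp1 : (Prod.fst ∘ fun i => (s i, v i)) = s := rfl
  have hcomp2 : (Prod.snd ∘ fun i => (s i, v i)) = v := rfl
  rw [hcomp1, hcomp2, hE, hT] at h0
  have h1 := fracSum_scale s v M A fun i hi => (hs i hi).2.1
  have h2 := fracSum_snd_ne s v A fun i hi => (hs i hi).1
  obtain ⟨q, hq⟩ := hEM
  rw [sieveData, List.map_map]
  refine noSol_false (fun i => M / s i) v (fun i => V (s i)) A (fun i hi => (hs i hi).2.2) _ _ ?_ (by linarith)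
  rw [show M / E = q by rw [hq, Int.mul_ediv_cancel_left _ hE0]]
  refine mul_left_cancel₀ (mul_ne_zero h2 hE0) ?_
  linear_combination M * h0 - E * h1 + (T * T * (fracSum (A.map fun i => (s i, v i))).2) * hq

/-- The coefficients and options of signed degrees with prescribed options. -/
def sieveList (M : ℤ) (L : List (ℤ × List ℤ)) : List (ℤ × List ℤ) := L.map fun q => (M / q.1, q.2)

/-- The start of the sieve. -/
def sieveRun (M E : ℤ) (L : List (ℤ × List ℤ)) (T : ℤ) : Bool :=
  noSol (sieveList M L) (M - M / E * (T * T)) (T - 1)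

/-- An assignment with prescribed options solving the homogeneous equation is found by the sieve. -/
theorem sieveRun_false {ι : Type*} (s v : ι → ℤ) (V : ι → List ℤ) (A : List ι) {M : ℤ} {T E : ℤ}
    (hM : M ≠ 0) (hs : ∀ i ∈ A, s i ≠ 0 ∧ s i ∣ M ∧ v i ∈ V i) (hE : 1 + (A.map s).sum = E) (hE0 : E ≠ 0)
    (hEM : E ∣ M) (hT : 1 + (A.map v).sum = T) (hz : zeroE (A.map fun i => (s i, v i)) = true) :
    sieveRun M E (A.map fun i => (s i, V i)) T = false := by
  simp only [zeroE, Bool.and_eq_true, decide_eq_true_eq, beq_iff_eq, List.map_map] at hz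
  obtain ⟨-, h0⟩ := hz
  have hcomp1 : (Prod.fst ∘ fun i => (s i, v i)) = s := rfl
  have hcomp2 : (Prod.snd ∘ fun i => (s i, v i)) = v := rfl
  rw [hcomp1, hcomp2, hE, hT] at h0
  have h1 := fracSum_scale s v M A fun i hi => (hs i hi).2.1
  have h2 := fracSum_snd_ne s v A fun i hi => (hs i hi).1
  obtain ⟨q, hq⟩ := hEM
  rw [sieveRun, sieveList, List.map_map]
  refine noSol_false (fun i => M / s i) v V A (fun i hi => (hs i hi).2.2) _ _ ?_ (by linarith)
  rw [show M / E = q by rw [hq, Int.mul_ediv_cancel_left _ hE0]]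
  refine mul_left_cancel₀ (mul_ne_zero h2 hE0) ?_
  linear_combination M * h0 - E * h1 + (T * T * (fracSum (A.map fun i => (s i, v i))).2) * hq

/-- The values bounded by `B`, below the degree and congruent to it modulo four. -/
def valsB (B : ℕ) (s : ℤ) : List ℤ :=
  ((List.range (B / 2 + 2)).map fun i : ℕ => -(B : ℤ) + (s + (B : ℤ)) % 4 + 4 * (i : ℤ)).filter fun v =>
    decide (v.natAbs ≤ B) && decide (v.natAbs < s.natAbs)

theorem mem_valsB {B : ℕ} {s v : ℤ} (h1 : v.natAbs < s.natAbs) (h2 : (v - s) % 4 = 0) (h3 : v.natAbs ≤ B) :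
    v ∈ valsB B s := by
  simp only [valsB, List.mem_filter, List.mem_map, List.mem_range, Bool.and_eq_true, decide_eq_true_eq]
  exact ⟨⟨((v - (-(B : ℤ) + (s + (B : ℤ)) % 4)) / 4).toNat, by omega, by omega⟩, h3, h1⟩

/-- A list whose image is a given rearrangement. -/
theorem exists_perm_map {α β : Type*} (f : α → β) : ∀ (l : List β) (A : List α), List.Perm (A.map f) l →
    ∃ A' : List α, List.Perm A' A ∧ A'.map f = l := by
  classical
  intro l
  induction l with
  | nil => intro A h; exact ⟨A, List.Perm.refl _, List.perm_nil.1 h⟩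
  | cons b l ih =>
    intro A h
    obtain ⟨a, ha, rfl⟩ := List.mem_map.1 (h.mem_iff.2 List.mem_cons_self)
    have h1 : List.Perm A (a :: A.erase a) := List.perm_cons_erase ha
    have h2 : List.Perm ((A.erase a).map f) l :=
      List.Perm.cons_inv (((h1.map f).symm.trans h))
    obtain ⟨A', hA', he⟩ := ih _ h2
    exact ⟨a :: A', (hA'.cons a).trans h1.symm, by simp [he]⟩

end CfsgLib.Char.MTwentyThreeOrder
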