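import Cfsg.Agent.Lib.Char.MTwentyThreeOrder.Phase.Eleven
import Cfsg.Agent.Lib.Char.Counting

/-!
# Simple groups of order 10200960: there are no characters of degree eleven or twelve
-/

set_option autoImplicit false
set_option linter.all false

open Cfsg CfsgLib.Perm.PrimeBlock CfsgLib.Block Finset CfsgLib.Char.MEleven.Order CfsgLib.Char.MTwelveOrder
open CfsgLib.Char.MTwentyTwoOrder (PData)
open scoped ComplexConjugate

namespace CfsgLib.Char.MTwentyThreeOrder

universe u

theorem small_plus : ∀ d ∈ degrees, d ≤ 143 → res23 d = true → res11 d = true → d % 23 ≠ 1 := by decide +kernel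

theorem small_low : ∀ d ∈ degrees, d ≤ 23 → res23 d = true → res11 d = true → d ∈ [11, 12, 22, 23] := by
  decide +kernel

variable {G : Type u} [Group G] [Fintype G] [IsSimpleGroup G] [Fact (Nat.Prime 23)] [Fact (Nat.Prime 11)]

theorem res11_all (D11 : PData G 11 5 1) (χ : IrrCharacter G) : res11 (dg χ) = true := by
  have h := D11.residues rfl χ
  simp only [res11, decide_eq_true_eq, List.mem_cons, List.not_mem_nil, or_false]
  omega

section Pair

variable (D23 : PData G 23 11 1) {x : G} (hx : x ∈ (D23.P : Subgroup G)) (hxo : orderOf x = 23)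

include hx hxo in
/-- The values of the characters at the element of order 23. -/
theorem value_23 (χ : IrrCharacter G) :
    (χ = oneChar G ∧ (χ : G → ℂ) x = 1) ∨ (χ ∈ D23.S.X ∧ (χ : G → ℂ) x = (D23.S.εX χ : ℂ)) ∨ χ ∈ D23.S.Y ∨
      (χ : G → ℂ) x = 0 := by
  have hx1 : x ≠ 1 := fun h => by rw [h, orderOf_one] at hxo; norm_num at hxo
  by_cases h1 : χ = oneChar G
  · exact Or.inl ⟨h1, by rw [h1]; rfl⟩
  by_cases hX : χ ∈ D23.S.X
  · refine Or.inr (Or.inl ⟨hX, ?_⟩)
    have := D23.S.value_X χ hX x hx hx1 1 (Subgroup.one_mem _) (by rw [orderOf_one]; norm_num)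
    rwa [mul_one] at this
  by_cases hY : χ ∈ D23.S.Y
  · exact Or.inr (Or.inr (Or.inl hY))
  exact Or.inr (Or.inr (Or.inr (D23.S.outside (by rw [D23.cent_P, mul_one]) χ h1 hX hY x hx hx1)))

include hx hxo in
/-- The exceptional characters at the element of order 23. -/
theorem exc_23 {θ : IrrCharacter G} (hθ : θ ∈ D23.S.Y) :
    Complex.normSq ((θ : G → ℂ) x) = 6 ∧ 2 * ((θ : G → ℂ) x).re = -(D23.S.ε : ℝ) := by
  classical
  haveI := Fintype.ofFinite (IrrCharacter G)
  have hx1 : x ≠ 1 := fun h => by rw [h, orderOf_one] at hxo; norm_num at hxo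
  obtain ⟨θ', hne, hY⟩ : ∃ θ', θ ≠ θ' ∧ D23.S.Y = {θ, θ'} := by
    have h2 : D23.S.Y.card = 2 := D23.S.card_Y
    obtain ⟨a, b, hab, hY⟩ := Finset.card_eq_two.1 h2
    rw [hY, Finset.mem_insert, Finset.mem_singleton] at hθ
    rcases hθ with rfl | rfl
    · exact ⟨b, hab, hY⟩
    · exact ⟨a, hab.symm, by rw [hY, Finset.pair_comm]⟩
  have hsum : (θ : G → ℂ) x + (θ' : G → ℂ) x = -(D23.S.ε : ℂ) := by
    have := D23.S.value_Y x hx hx1 1 (Subgroup.one_mem _) (by rw [orderOf_one]; norm_num)
    rwa [mul_one, hY, Finset.sum_pair hne] at this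
  have hnc : ¬ IsConj x x⁻¹ := by
    intro hc
    obtain ⟨a, ha⟩ := isConj_iff.1 hc
    have := no_inverters_odd D23 (by norm_num) (by norm_num) (by norm_num) hx hx1 (u := a)
    exact Finset.notMem_empty a (this ▸ mem_inverters.2 ⟨IsConj.refl a, ha⟩)
  have hout : ∀ χ : IrrCharacter G, χ ∉ insert (oneChar G) (D23.S.X ∪ D23.S.Y) → (χ : G → ℂ) x = 0 := by
    intro χ hχ
    simp only [Finset.mem_insert, Finset.mem_union, not_or] at hχ
    exact D23.S.outside (by rw [D23.cent_P, mul_one]) χ hχ.1 hχ.2.1 hχ.2.2 x hx hx1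
  have key : ∀ f : ℂ → ℂ, f 0 = 0 → (∀ z : ℂ, z = 1 ∨ z = -1 → f z = 1) →
      ∑ χ : IrrCharacter G, f ((χ : G → ℂ) x) = 11 + f ((θ : G → ℂ) x) + f ((θ' : G → ℂ) x) := by
    intro f f0 f1
    rw [← Finset.sum_subset (Finset.subset_univ (insert (oneChar G) (D23.S.X ∪ D23.S.Y)))
      (fun χ _ hχ => by rw [hout χ hχ, f0]), Finset.sum_insert (by
        simp [D23.S.one_notMem_X, D23.S.one_notMem_Y]), Finset.sum_union D23.S.disjoint, hY,
      Finset.sum_pair hne, show ((oneChar G : IrrCharacter G) : G → ℂ) x = 1 from rfl, f1 1 (Or.inl rfl),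
      Finset.sum_congr rfl (g := fun _ => (1 : ℂ)) fun χ hχ => f1 _ ?_, Finset.sum_const,
      show D23.S.X.card = 10 by have := D23.S.card_X; omega]
    · norm_num; ring
    · have := D23.S.value_X χ hχ x hx hx1 1 (Subgroup.one_mem _) (by rw [orderOf_one]; norm_num)
      rw [mul_one] at this
      rw [this]
      rcases D23.S.sign_X χ hχ with hs | hs <;> rw [hs] <;> norm_num
  have hsq := CfsgLib.Char.sum_irr_mul_conj x x
  rw [if_pos (IsConj.refl x), D23.cent_of_order hxo,
    key (fun z => z * conj z) (by simp) (by rintro z (rfl | rfl) <;> simp)] at hsq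
  have hzz := CfsgLib.Char.sum_irr_mul_conj x x⁻¹
  rw [if_neg hnc] at hzz
  simp only [CfsgLib.Char.irr_inv, Complex.conj_conj] at hzz
  rw [key (fun z => z * z) (by simp) (by rintro z (rfl | rfl) <;> simp)] at hzz
  have e1 := congrArg Complex.re hsq
  have e2 := congrArg Complex.re hzz
  have e3 := congrArg Complex.im hzz
  have e4 := congrArg Complex.re hsum
  have e5 := congrArg Complex.im hsum
  simp only [Complex.add_re, Complex.add_im, Complex.mul_re, Complex.mul_im, Complex.conj_re, Complex.conj_im,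
    Complex.neg_re, Complex.neg_im, Complex.intCast_re, Complex.intCast_im, Complex.zero_re, Complex.zero_im,
    Complex.natCast_re, Complex.re_ofNat, Complex.im_ofNat] at e1 e2 e3 e4 e5
  set a := ((θ : G → ℂ) x).re with ha
  set b := ((θ : G → ℂ) x).im with hb
  set a' := ((θ' : G → ℂ) x).re with ha'
  set b' := ((θ' : G → ℂ) x).im with hb'
  have hbb : b' = -b := by linarith
  rw [hbb] at e1 e2 e3
  push_cast at e1
  have hb0 : b ≠ 0 := fun h0 => by rw [h0] at e1 e2; nlinarith
  have haa : a' = a := mul_right_cancel₀ hb0 (by linarith)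
  rw [haa] at e1 e4
  rw [Complex.normSq_apply, ← ha, ← hb]
  constructor <;> linarith

end Pair

/-- There are no characters of degree eleven or twelve. -/
theorem no_small (h : Nat.card G = 10200960) (D23 : PData G 23 11 1) (D11 : PData G 11 5 1)
    (θ : IrrCharacter G) : dg θ ≠ 11 ∧ dg θ ≠ 12 := by
  classical
  by_contra hcon
  have hd : dg θ = 11 ∨ dg θ = 12 := by by_contra h0; exact hcon ⟨fun e => h0 (Or.inl e), fun e => h0 (Or.inr e)⟩
  haveI := Fintype.ofFinite (IrrCharacter G)
  obtain ⟨x, hx, hxo⟩ := D23.exists_elt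
  obtain ⟨y, hy, hyo⟩ := D11.exists_elt
  have hy1 : y ≠ 1 := fun e => by rw [e, orderOf_one] at hyo; norm_num at hyo
  have hne : θ ≠ oneChar G := fun e => by rw [e, dg_one] at hd; omega
  have hθY : θ ∈ D23.S.Y := by
    by_contra hY
    rcases (D23.mem_blk.1 (D23.mem_blk_of rfl hne (by omega))) with hX | hY'
    · have := Int.modEq_iff_dvd.1 (D23.S.degree_X θ hX)
      rcases D23.S.sign_X θ hX with hs | hs <;> rw [hs] at this <;> simp only [dg] at hd <;> omega
    · exact hY hY'
  have hDd : D23.S.D = dg θ := (D23.S.degree_Y θ hθY).symm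
  have hε : (dg θ = 11 → D23.S.ε = 1) ∧ (dg θ = 12 → D23.S.ε = -1) := by
    have := Int.modEq_iff_dvd.1 D23.S.congr_Y
    rw [hDd] at this
    rcases D23.S.sign with hs | hs <;> rw [hs] at this ⊢ <;> constructor <;> intro e <;> rw [e] at this <;>
      first | rfl | (norm_num at this)
  obtain ⟨hn6, hre⟩ := exc_23 D23 hx hxo hθY
  -- the product with the conjugate
  set f : G → ℂ := fun g => (θ : G → ℂ) g * conj ((θ : G → ℂ) g) with hf
  have hfc : IsCharacter G f := CfsgLib.Char.isCharacter_mul (CfsgLib.Char.isCharacter_irr θ)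
    (CfsgLib.Char.isCharacter_conj (CfsgLib.Char.isCharacter_irr θ))
  choose a ha using fun η : IrrCharacter G => CfsgLib.Char.classInner_char_irr_nat hfc η
  have hexp : ∀ g : G, f g = ∑ η : IrrCharacter G, (a η : ℂ) * (η : G → ℂ) g := by
    intro g
    have := congrFun (CfsgLib.Char.classFun_expand (CfsgLib.Char.isClassFunction_of_isCharacter hfc)) g
    rw [this, Finset.sum_apply]
    exact Finset.sum_congr rfl fun η _ => by rw [Pi.smul_apply, smul_eq_mul, ha]
  have ha1 : a (oneChar G) = 1 := by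
    have e : classInner f ((oneChar G : IrrCharacter G) : G → ℂ) = classInner (θ : G → ℂ) (θ : G → ℂ) := by
      simp only [classInner, hf, show ∀ g, ((oneChar G : IrrCharacter G) : G → ℂ) g = 1 from fun _ => rfl,
        map_one, mul_one]
    rw [CfsgLib.Char.classInner_irr_self, ha] at e
    exact_mod_cast e
  have hsum : ∀ g : G, Complex.normSq ((θ : G → ℂ) g) =
      1 + ∑ η ∈ Finset.univ.erase (oneChar G), (a η : ℝ) * ((η : G → ℂ) g).re := by
    intro g
    have := congrArg Complex.re (hexp g)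
    simp only [hf] at this
    rw [Complex.mul_conj, Complex.ofReal_re, Complex.re_sum,
      ← Finset.add_sum_erase _ _ (Finset.mem_univ (oneChar G)), ha1] at this
    rw [this]
    congr 1
    · simp [show ((oneChar G : IrrCharacter G) : G → ℂ) g = 1 from rfl]
    · exact Finset.sum_congr rfl fun η _ => by simp
  have e1 := hsum 1
  have ex := hsum x
  have ey := hsum y
  rw [hn6] at ex
  have h1re : ∀ η : IrrCharacter G, ((η : G → ℂ) 1).re = (dg η : ℝ) := fun η => by rw [val_one]; simp
  rw [Finset.sum_congr rfl (fun η _ => by rw [h1re η]), Complex.normSq_apply, h1re θ, val_one,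
    Complex.natCast_im, mul_zero, add_zero] at e1
  set E := (Finset.univ.erase (oneChar G)).filter (fun η => 0 < a η) with hE
  have hsub : ∀ φ : IrrCharacter G → ℝ, ∑ η ∈ Finset.univ.erase (oneChar G), (a η : ℝ) * φ η =
      ∑ η ∈ E, (a η : ℝ) * φ η := by
    intro φ
    refine (Finset.sum_subset (Finset.filter_subset _ _) fun η hη hn => ?_).symm
    have : a η = 0 := by
      by_contra h0
      exact hn (Finset.mem_filter.2 ⟨hη, Nat.pos_of_ne_zero h0⟩)
    simp [this]
  rw [hsub] at e1 ex ey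
  have hdeg : ∀ η ∈ E, dg η + 1 ≤ dg θ * dg θ := by
    intro η hη
    have h1 := Finset.single_le_sum (f := fun η => (a η : ℝ) * (dg η : ℝ)) (fun i _ => by positivity) hη
    have h2 : (1 : ℝ) ≤ a η := by exact_mod_cast (Finset.mem_filter.1 hη).2
    have h3 : (dg η : ℝ) + 1 ≤ (dg θ : ℝ) * dg θ := by
      rw [e1]
      nlinarith [(Nat.cast_nonneg (dg η) : (0 : ℝ) ≤ dg η)]
    exact_mod_cast h3
  have hEne : ∀ η ∈ E, η ≠ oneChar G := fun η hη =>
    (Finset.mem_erase.1 (Finset.mem_filter.1 hη).1).1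
  have hX0 : ∀ η ∈ E, η ∉ D23.S.Y → ((η : G → ℂ) x).re ≤ 0 := by
    intro η hη hY
    rcases value_23 D23 hx hxo η with ⟨h1, -⟩ | ⟨hX, hv⟩ | hY' | hv
    · exact absurd h1 (hEne η hη)
    · have hmod := Int.modEq_iff_dvd.1 (D23.S.degree_X η hX)
      have hbd := hdeg η hη
      rcases D23.S.sign_X η hX with hs | hs
      · exfalso
        rw [hs] at hmod
        refine small_plus _ (mem_degrees h (hEne η hη)) (by rcases hd with e | e <;> rw [e] at hbd <;> omega)
          (res23_all D23 η) (res11_all D11 η) ?_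
        simp only [dg] at hmod ⊢
        omega
      · rw [hv, hs]; norm_num
    · exact absurd hY' hY
    · rw [hv]; simp
  have hY0 : ∀ η ∈ D23.S.Y, ((η : G → ℂ) x).re = -(D23.S.ε : ℝ) / 2 := fun η hη => by
    have := (exc_23 D23 hx hxo hη).2
    linarith
  set EY := E.filter (fun η => η ∈ D23.S.Y) with hEY
  have hle : ∑ η ∈ E, (a η : ℝ) * ((η : G → ℂ) x).re ≤ ∑ η ∈ EY, (a η : ℝ) * (-(D23.S.ε : ℝ) / 2) := by
    rw [← Finset.sum_filter_add_sum_filter_not E (fun η => η ∈ D23.S.Y)]
    have h1 : ∑ η ∈ EY, (a η : ℝ) * ((η : G → ℂ) x).re = ∑ η ∈ EY, (a η : ℝ) * (-(D23.S.ε : ℝ) / 2) :=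
      Finset.sum_congr rfl fun η hη => by rw [hY0 η (Finset.mem_filter.1 hη).2]
    have h2 : ∑ η ∈ E.filter (fun η => ¬ η ∈ D23.S.Y), (a η : ℝ) * ((η : G → ℂ) x).re ≤ 0 :=
      Finset.sum_nonpos fun η hη => mul_nonpos_of_nonneg_of_nonpos (Nat.cast_nonneg _)
        (hX0 η (Finset.mem_filter.1 hη).1 (Finset.mem_filter.1 hη).2)
    rw [← hEY, h1]
    linarith
  rw [← Finset.sum_mul] at hle
  set N : ℝ := ∑ η ∈ EY, (a η : ℝ) with hN
  have hN0 : 0 ≤ N := Finset.sum_nonneg fun η _ => Nat.cast_nonneg _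
  rcases hd with h11 | h12
  · rw [hε.1 h11] at hle
    push_cast at hle
    linarith
  rw [hε.2 h12] at hle
  push_cast at hle
  have hN10 : (10 : ℝ) ≤ N := by linarith
  have hYd : ∀ η ∈ EY, dg η = 12 := fun η hη => by
    rw [← h12, ← hDd]; exact D23.S.degree_Y η (Finset.mem_filter.1 hη).2
  -- the values at the element of order eleven
  have hv11 : ∀ η : IrrCharacter G, η ≠ oneChar G → dg η ∈ [11, 12, 22, 23] →
      (η : G → ℂ) y = if dg η % 11 = 0 then 0 else 1 := by
    intro η hη1 hη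
    simp only [List.mem_cons, List.not_mem_nil, or_false] at hη
    split_ifs with h0
    · have hnd : η ∉ D11.blk := fun hb => D11.blk_ndvd (by norm_num) (by norm_num) hb (Nat.dvd_of_mod_eq_zero h0)
      rw [D11.mem_blk, not_or] at hnd
      exact D11.S.outside (by rw [D11.cent_P, mul_one]) η hη1 hnd.1 hnd.2 y hy hy1
    · have hb := D11.mem_blk.1 (D11.mem_blk_of rfl hη1 fun hd' => h0 (Nat.mod_eq_zero_of_dvd hd'))
      rcases hb with hX | hY
      · have hmod := Int.modEq_iff_dvd.1 (D11.S.degree_X η hX)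
        have hval := D11.S.value_X η hX y hy hy1 1 (Subgroup.one_mem _) (by rw [orderOf_one]; norm_num)
        rw [mul_one] at hval
        rcases D11.S.sign_X η hX with hs | hs
        · rw [hval, hs]; norm_num
        · rw [hs] at hmod
          simp only [dg] at hη hmod h0
          omega
      · have hmod := Int.modEq_iff_dvd.1 D11.S.congr_Y
        rw [← show dg η = D11.S.D from D11.S.degree_Y η hY] at hmod
        rcases D11.S.sign with hs | hs <;> rw [hs] at hmod <;> omega
  have hθy : Complex.normSq ((θ : G → ℂ) y) = 1 := by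
    rw [hv11 θ hne (by rw [h12]; simp), h12]
    norm_num
  rw [hθy] at ey
  have hEY12 : ∑ η ∈ EY, (a η : ℝ) * ((η : G → ℂ) y).re = N := by
    refine Finset.sum_congr rfl fun η hη => ?_
    rw [hv11 η (hEne η (Finset.mem_filter.1 hη).1) (by rw [hYd η hη]; simp), hYd η hη]
    simp
  have hrest : 0 ≤ ∑ η ∈ E.filter (fun η => ¬ η ∈ D23.S.Y), (a η : ℝ) * ((η : G → ℂ) y).re := by
    refine Finset.sum_nonneg fun η hη => mul_nonneg (Nat.cast_nonneg _) ?_
    obtain ⟨hηE, hηY⟩ := Finset.mem_filter.1 hη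
    have hbig : (dg η : ℝ) ≤ 23 := by
      have h2 : (1 : ℝ) ≤ a η := by exact_mod_cast (Finset.mem_filter.1 hηE).2
      have h3 := Finset.single_le_sum (f := fun η => (a η : ℝ) * (dg η : ℝ))
        (s := E.filter (fun η => ¬ η ∈ D23.S.Y)) (fun i _ => by positivity) hη
      rw [← Finset.sum_filter_add_sum_filter_not E (fun η => η ∈ D23.S.Y), ← hEY,
        Finset.sum_congr rfl (fun η hη => by rw [hYd η hη]), ← Finset.sum_mul, ← hN, h12] at e1
      push_cast at e1
      nlinarith [(Nat.cast_nonneg (dg η) : (0 : ℝ) ≤ dg η)]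
    have hle23 : dg η ≤ 23 := by exact_mod_cast hbig
    rw [hv11 η (hEne η hηE) (small_low _ (mem_degrees h (hEne η hηE)) hle23 (res23_all D23 η) (res11_all D11 η))]
    split_ifs <;> simp
  rw [← Finset.sum_filter_add_sum_filter_not E (fun η => η ∈ D23.S.Y), ← hEY, hEY12] at ey
  linarith

/-- The condition on degrees. -/
theorem extSmall_all (h : Nat.card G = 10200960) (D23 : PData G 23 11 1) (D11 : PData G 11 5 1)
    (χ : IrrCharacter G) : extSmall (dg χ) = true := by
  obtain ⟨h11, h12⟩ := no_small h D23 D11 χ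
  simp [extSmall, res23_all D23 χ, res11_all D11 χ, h11, h12]

end CfsgLib.Char.MTwentyThreeOrder
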