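import Cfsg.Agent.Lib.Perm.Small.DetKill

/-!
# Characters of prime degree vanishing on a section
-/

set_option autoImplicit false
set_option linter.all false

namespace CfsgLib.Char.MTwentyThreeOrder

open Module CfsgLib.Perm.PrimeBlock

universe u

variable {G : Type u} [Group G] [Finite G]

/-- A character of prime degree `p` vanishing at `x y` is scalar at `y`, hence trivial by the determinant. -/
theorem eq_degree_of_zero {χ : G → ℂ} (hχ : Cfsg.IsCharacter G χ) (hlin : ∀ f : G →* ℂˣ, f = 1)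
    {p : ℕ} (hp : p.Prime) {x y : G} (hx : orderOf x = p) (hcomm : Commute x y)
    (hy : ¬ p ∣ orderOf y) (hc : ∀ j k : ℕ, ¬ p ∣ j → χ (x ^ j * y ^ k) = 0)
    (hd : χ 1 = p) : χ y = p := by
  classical
  obtain ⟨m, ρ, rfl⟩ := hχ
  obtain ⟨b, μ, hμ, hb, hpow⟩ := CfsgLib.Char.exists_eigen_data ρ (x * y)
  set n := orderOf y with hn
  have hn0 : 0 < n := orderOf_pos y
  have hcop : Nat.Coprime p n := (Nat.Prime.coprime_iff_not_dvd hp).2 hy
  have hord : orderOf (x * y) = p * n := by
    rw [hcomm.orderOf_mul_eq_mul_orderOf_of_coprime (by rwa [hx]), hx]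
  obtain ⟨A, hA1, hA2⟩ := Nat.chineseRemainder hcop 1 0
  obtain ⟨B, hB1, hB2⟩ := Nat.chineseRemainder hcop 0 1
  have hxA : (x * y) ^ A = x := by
    rw [hcomm.mul_pow, show x ^ A = x ^ 1 from pow_eq_pow_iff_modEq.2 (by rwa [hx]),
      show y ^ A = y ^ 0 from pow_eq_pow_iff_modEq.2 hA2, pow_zero, mul_one, pow_one]
  have hyB : (x * y) ^ B = y := by
    rw [hcomm.mul_pow, show x ^ B = x ^ 0 from pow_eq_pow_iff_modEq.2 (by rwa [hx]),
      show y ^ B = y ^ 1 from pow_eq_pow_iff_modEq.2 hB2, pow_zero, one_mul, pow_one]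
  set lam : Fin (finrank ℂ (Fin m → ℂ)) → ℂ := fun i => μ i ^ A with hlam
  set ν : Fin (finrank ℂ (Fin m → ℂ)) → ℂ := fun i => μ i ^ B with hν
  have hval : ∀ j k : ℕ, ρ.character (x ^ j * y ^ k) = ∑ i, lam i ^ j * ν i ^ k := by
    intro j k
    rw [show x ^ j * y ^ k = (x * y) ^ (A * j + B * k) by rw [pow_add, pow_mul, pow_mul, hxA, hyB], hpow]
    exact Finset.sum_congr rfl fun i _ => by simp only [hlam, hν]; rw [← pow_mul, ← pow_mul, ← pow_add]
  have hlamp : ∀ i, lam i ^ p = 1 := by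
    intro i
    simp only [hlam, ← pow_mul]
    obtain ⟨t, ht⟩ : n ∣ A := (Nat.modEq_zero_iff_dvd.1 hA2)
    rw [ht, show n * t * p = orderOf (x * y) * t by rw [hord]; ring, pow_mul, hμ, one_pow]
  have hνn : ∀ i, ν i ^ n = 1 := by
    intro i
    simp only [hν, ← pow_mul]
    obtain ⟨t, ht⟩ : p ∣ B := (Nat.modEq_zero_iff_dvd.1 hB1)
    rw [ht, show p * t * n = orderOf (x * y) * t by rw [hord]; ring, pow_mul, hμ, one_pow]
  have hyk : ∀ k : ℕ, ρ.character (y ^ k) = ∑ i, ν i ^ k := fun k => by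
    simpa using hval 0 k
  have hS : ∀ k : ℕ,
      (p : ℂ) * ∑ i ∈ Finset.univ.filter (fun i => lam i = 1), ν i ^ k = ρ.character (y ^ k) := by
    intro k
    have h1 : ∀ i, ∑ j ∈ Finset.range p, lam i ^ j = if lam i = 1 then (p : ℂ) else 0 := by
      intro i
      split_ifs with he
      · simp [he]
      · rw [geom_sum_eq he, hlamp, sub_self, zero_div]
    calc (p : ℂ) * ∑ i ∈ Finset.univ.filter (fun i => lam i = 1), ν i ^ k
        = ∑ i, (∑ j ∈ Finset.range p, lam i ^ j) * ν i ^ k := by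
          rw [Finset.mul_sum, Finset.sum_filter]
          refine Finset.sum_congr rfl fun i _ => ?_
          rw [h1]
          split_ifs <;> ring
      _ = ∑ j ∈ Finset.range p, ρ.character (x ^ j * y ^ k) := by
          simp only [hval, Finset.sum_mul]
          rw [Finset.sum_comm]
      _ = ρ.character (y ^ k) := by
          rw [Finset.sum_eq_single 0]
          · rw [pow_zero, one_mul]
          · intro j hj hj0
            exact hc j k (Nat.not_dvd_of_pos_of_lt (Nat.pos_of_ne_zero hj0) (Finset.mem_range.1 hj))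
          · intro h0; exact absurd (Finset.mem_range.2 hp.pos) h0
  have h1 : (Finset.univ.filter (fun i => lam i = 1)).card = 1 := by
    have h0 := hS 0
    rw [pow_zero, hd] at h0
    have h2 : (p : ℂ) * ((Finset.univ.filter (fun i => lam i = 1)).card : ℂ) = (p : ℂ) * 1 := by
      simpa using h0
    exact_mod_cast mul_left_cancel₀ (Nat.cast_ne_zero.2 hp.ne_zero) h2
  obtain ⟨i₀, hi₀⟩ := Finset.card_eq_one.1 h1
  have hsum : ∀ k : ℕ, ρ.character (y ^ k) = (p : ℂ) * ν i₀ ^ k := fun k => by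
    rw [← hS k, hi₀, Finset.sum_singleton]
  have hprod : ∏ i, ν i = ν i₀ ^ p :=
    prod_eq_of_power_sums hn0 ν hνn (hνn i₀) 0 p fun k => by rw [← hyk k, hsum k]; simp
  have hdet : LinearMap.det (ρ y) = ∏ i, ν i := by
    rw [← LinearMap.det_toMatrix b, show LinearMap.toMatrix b b (ρ y) = Matrix.diagonal ν from ?_,
      Matrix.det_diagonal]
    ext i j
    have hbj : ρ y (b j) = ν j • b j := by
      conv_lhs => rw [← hyB]
      exact hb B j
    rw [LinearMap.toMatrix_apply, hbj, map_smul, Finsupp.smul_apply, b.repr_self, smul_eq_mul,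
      Matrix.diagonal_apply]
    rcases eq_or_ne i j with rfl | hij
    · simp
    · simp [hij, Finsupp.single_eq_of_ne hij]
  have hdet1 : LinearMap.det (ρ y) = 1 :=
    congrArg Units.val (DFunLike.congr_fun (hlin ((LinearMap.det.comp ρ).toHomUnits)) y)
  have hup : ν i₀ ^ p = 1 := by rw [← hprod, ← hdet, hdet1]
  have hu1 : ν i₀ = 1 := by
    have h1 := pow_gcd_eq_one.2 ⟨hup, hνn i₀⟩
    rwa [show Nat.gcd p n = 1 from hcop, pow_one] at h1
  have hy2 := hsum 1
  rwa [pow_one, hu1, one_pow, mul_one] at hy2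

end CfsgLib.Char.MTwentyThreeOrder
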