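import Cfsg.Agent.Lib.Char.MTwentyThreeOrder.Phase.Tools
import Cfsg.Agent.Lib.Char.MTwentyThreeOrder.Phase.Vanish
import Cfsg.Agent.Lib.Char.MTwentyThreeOrder.Phase.Points

/-!
# Simple groups of order 10200960: the Sylow 23-subgroup is self-centralizing
-/

set_option autoImplicit false
set_option linter.all false

open Cfsg Subgroup CfsgLib.Perm.PrimeBlock CfsgLib.Block CfsgLib.Char.MEleven.Order CfsgLib.Char.MTwelveOrder
open CfsgLib.Char.MTwentyTwoOrder (PData exists_pdata not_full sylow_split card_sylow_eq card_modEq_fixed)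

namespace CfsgLib.Char.MTwentyThreeOrder

universe u

theorem big_residues : ∀ c ∈ [576, 288, 24, 12], ∀ d < 577, c % d = 0 → d % 11 = c % 11 → d % 3 = 0 →
    (c % 9 = 0 → d % 9 = 0) → d = c := by decide +kernel

theorem j_cases : ∀ j ∈ divs, 13440 % j = 0 → j % 23 = 1 → j % 3 = 0 → j = 24 ∨ j = 1680 := by decide +kernel

theorem n_eleven_cases : ∀ n < 1473, 1472 % n = 0 → n % 11 = 1 → n = 1 ∨ n = 23 := by decide +kernel

variable {G : Type u} [Group G] [Fintype G] [IsSimpleGroup G]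

section Data

variable {e c : ℕ} [Fact (Nat.Prime 23)] (D : PData G 23 e c)

include D in
/-- With a centralizer larger than the Sylow subgroup there is no degree 23. -/
theorem no_deg_23 (h : Nat.card G = 10200960) (hpc : ¬ 23 ∣ c) (hc1 : 1 < c) (χ : IrrCharacter G) :
    dg χ ≠ 23 := by
  intro hd
  obtain ⟨x, hx, hxo⟩ := D.exists_elt
  obtain ⟨y, hyC, hyr, hy1⟩ := exists_regular_ne D.cent_P hpc hc1
  have hcm : Commute x y := mem_centralizer_iff.1 hyC x hx
  have hne : (χ : G → ℂ) ≠ fun _ => 1 := fun e1 => by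
    rw [show χ = oneChar G from Subtype.ext e1, dg_one] at hd
    omega
  refine hy1 (CfsgLib.Perm.PrimeBlock.eq_one_of_value χ hne ?_)
  rw [val_one, hd]
  refine eq_degree_of_zero (CfsgLib.Char.isCharacter_irr χ) (lin_eq_one (noncomm h)) (by norm_num) hxo hcm hyr
    (fun j k hj => ?_) (by rw [val_one, hd])
  refine CfsgLib.Char.char_defect_zero_vanishes χ (p := 23) (n := 1) (by rw [h]; norm_num) (by rw [h]; norm_num)
    (val_one χ) (by rw [hd, pow_one]) ?_
  have hjo : orderOf (x ^ j) = 23 := by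
    refine orderOf_eq_prime ?_ fun h0 => hj (hxo ▸ orderOf_dvd_of_pow_eq_one h0)
    rw [← pow_mul, mul_comm, pow_mul, ← hxo, pow_orderOf_eq_one, one_pow]
  have hcop : (orderOf (x ^ j)).Coprime (orderOf (y ^ k)) := by
    rw [hjo]
    exact (Nat.Prime.coprime_iff_not_dvd (by norm_num)).2 fun hd' => hyr (hd'.trans (orderOf_pow_dvd k))
  rw [(hcm.pow_pow j k).orderOf_mul_eq_mul_orderOf_of_coprime hcop, hjo]
  exact dvd_mul_right 23 _

include D in
/-- An element of order eleven in the normalizer centralizes the regular part of the centralizer. -/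
theorem exists_eleven_elt [Fact (Nat.Prime 11)] (hc : c ∈ [576, 288, 24, 12]) (he : e = 11 ∨ e = 22) :
    ∃ (K : Subgroup G) (y : G), Nat.card K = c ∧ K ≤ centralizer ((D.P : Subgroup G) : Set G) ∧
      K ≤ centralizer ({y} : Set G) ∧ orderOf y = 11 ∧ y ∈ normalizer ((D.P : Subgroup G) : Set G) := by
  classical
  haveI : Fact (Nat.Prime 3) := ⟨by norm_num⟩
  obtain ⟨K, hK, hKc, hNK⟩ := D.exists_K
  set N := normalizer ((D.P : Subgroup G) : Set G) with hN
  have hKC : K ≤ centralizer ((D.P : Subgroup G) : Set G) := fun w hw => ((hK w).1 hw).1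
  have hKN : K ≤ N := hKC.trans (centralizer_le_normalizer _)
  haveI : (K.subgroupOf N).Normal := (normal_subgroupOf_iff_le_normalizer hKN).2 hNK
  obtain ⟨R⟩ : Nonempty (Sylow 3 (K.subgroupOf N)) := inferInstance
  set M := (R : Subgroup (K.subgroupOf N)).map (K.subgroupOf N).subtype with hM
  have hfr : normalizer (M : Set N) ⊔ K.subgroupOf N = ⊤ := Sylow.normalizer_sup_eq_top R
  have hKcard : Nat.card (K.subgroupOf N) = c := by rw [Nat.card_congr (subgroupOfEquivOfLe hKN).toEquiv, hKc]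
  have hc0 : 0 < c := hKcard ▸ Nat.card_pos
  have h1 : Nat.card N ∣ Nat.card (normalizer (M : Set N)) * c := by
    have h2 : (K.subgroupOf N).relIndex (normalizer (M : Set N)) = (K.subgroupOf N).index := by
      rw [← Subgroup.relIndex_sup_right (normalizer (M : Set N)) (K.subgroupOf N), hfr, Subgroup.relIndex_top_right]
    rw [← hKcard, ← (K.subgroupOf N).card_mul_index, mul_comm (Nat.card (normalizer (M : Set N)))]
    refine Nat.mul_dvd_mul_left _ ?_
    rw [← h2]
    exact Subgroup.relIndex_dvd_card _ _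
  rw [D.norm_P] at h1
  have h11c : ¬ 11 ∣ c := by
    simp only [List.mem_cons, List.not_mem_nil, or_false] at hc
    rcases hc with rfl | rfl | rfl | rfl <;> norm_num
  have h11 : 11 ∣ Nat.card (normalizer (M : Set N)) :=
    ((Nat.Prime.dvd_mul (by norm_num : Nat.Prime 11)).1
      ((Dvd.dvd.mul_right (by rcases he with rfl | rfl <;> norm_num) _).trans h1)).resolve_right h11c
  obtain ⟨y', hy'⟩ := exists_prime_orderOf_dvd_card' 11 h11
  set y : G := ((y' : N) : G) with hy
  have hyo : orderOf y = 11 := by rw [hy, Subgroup.orderOf_coe, Subgroup.orderOf_coe, hy']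
  have hyN : y ∈ N := (y' : N).2
  refine ⟨K, y, hKc, hKC, ?_, hyo, hyN⟩
  have hyK : y ∈ normalizer (K : Set G) := hNK hyN
  set R' := M.map N.subtype with hR'
  have hR'K : R' ≤ K := by
    rintro w ⟨a, ⟨b, hb, rfl⟩, rfl⟩
    exact b.2
  have hyR : y ∈ normalizer (R' : Set G) :=
    le_normalizer_map N.subtype ⟨(y' : N), y'.2, rfl⟩
  have hRc : Nat.card R' = Nat.card (R : Subgroup (K.subgroupOf N)) := by
    rw [hR', card_map_of_injective N.subtype_injective, hM, card_map_of_injective (K.subgroupOf N).subtype_injective]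
  obtain ⟨a, ha⟩ := IsPGroup.iff_card.1 R.isPGroup'
  have hR3 : 3 ∣ Nat.card R' ∧ (c % 9 = 0 → 9 ∣ Nat.card R') ∧ (Nat.card R' = 3 ∨ Nat.card R' = 9) := by
    simp only [List.mem_cons, List.not_mem_nil, or_false] at hc
    rcases hc with rfl | rfl | rfl | rfl
    · rw [hRc, card_sylow_eq R (a := 2) (m := 64) (by rw [hKcard]; norm_num) (by norm_num)]; norm_num
    · rw [hRc, card_sylow_eq R (a := 2) (m := 32) (by rw [hKcard]; norm_num) (by norm_num)]; norm_num
    · rw [hRc, card_sylow_eq R (a := 1) (m := 8) (by rw [hKcard]; norm_num) (by norm_num)]; norm_num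
    · rw [hRc, card_sylow_eq R (a := 1) (m := 4) (by rw [hKcard]; norm_num) (by norm_num)]; norm_num
  have hcent : R' ≤ centralizer ({y} : Set G) := prime_centralizes hyo hyR fun d hd hmod => by
    rcases hR3.2.2 with h3 | h9
    · rw [h3] at hd hmod ⊢
      rcases (Nat.dvd_prime (by norm_num)).1 hd with rfl | rfl <;> simp at hmod ⊢
    · rw [h9] at hd hmod ⊢
      have hle := Nat.le_of_dvd (by norm_num) hd
      interval_cases d <;> simp_all
  have hdv : Nat.card R' ∣ Nat.card ↥(K ⊓ centralizer ({y} : Set G)) := card_dvd_of_le (le_inf hR'K hcent)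
  have hres := card_modEq_fixed K hyo hyK
  rw [hKc] at hres
  have hd : Nat.card ↥(K ⊓ centralizer ({y} : Set G)) = c := by
    have hdc : Nat.card ↥(K ⊓ centralizer ({y} : Set G)) ∣ c := hKc ▸ card_dvd_of_le inf_le_left
    have hle := Nat.le_of_dvd hc0 hdc
    have hlt : c < 577 := by
      simp only [List.mem_cons, List.not_mem_nil, or_false] at hc
      rcases hc with rfl | rfl | rfl | rfl <;> norm_num
    exact big_residues c hc _ (by omega) (Nat.mod_eq_zero_of_dvd hdc) hres.symm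
      (Nat.mod_eq_zero_of_dvd (hR3.1.trans hdv)) fun h9 => Nat.mod_eq_zero_of_dvd ((hR3.2.1 h9).trans hdv)
  have he' : K ⊓ centralizer ({y} : Set G) = K := eq_of_le_of_card_ge inf_le_left (by rw [hd, hKc])
  exact he' ▸ inf_le_right

include D in
/-- The order of the centralizer of the element of order eleven. -/
theorem twenty_four_dvd [Fact (Nat.Prime 11)] {e' c' : ℕ} (D' : PData G 11 e' c')
    (hec : (e = 11 ∧ c = 576) ∨ (e = 22 ∧ c = 288) ∨ (e = 11 ∧ c = 24) ∨ (e = 22 ∧ c = 12)) :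
    24 ∣ c' ∧ (c ∈ [576, 288] → c ∣ c') := by
  classical
  obtain ⟨K, y, hKc, hKC, hKy, hyo, hyN⟩ := exists_eleven_elt D
    (by rcases hec with ⟨-, rfl⟩ | ⟨-, rfl⟩ | ⟨-, rfl⟩ | ⟨-, rfl⟩ <;> simp)
    (by rcases hec with ⟨rfl, -⟩ | ⟨rfl, -⟩ | ⟨rfl, -⟩ | ⟨rfl, -⟩ <;> simp)
  have hCy := D'.cent_of_order hyo
  have hcd : c ∣ 11 * c' := hKc ▸ hCy ▸ card_dvd_of_le hKy
  have hcop : Nat.Coprime c 11 := by
    rcases hec with ⟨-, rfl⟩ | ⟨-, rfl⟩ | ⟨-, rfl⟩ | ⟨-, rfl⟩ <;> norm_num
  have hc' : c ∣ c' := hcop.dvd_of_dvd_mul_left hcd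
  refine ⟨?_, fun _ => hc'⟩
  rcases hec with ⟨-, rfl⟩ | ⟨-, rfl⟩ | ⟨-, rfl⟩ | ⟨rfl, rfl⟩
  · exact (show 24 ∣ 576 by norm_num).trans hc'
  · exact (show 24 ∣ 288 by norm_num).trans hc'
  · exact hc'
  -- the automizer of order 22 with centralizer part of order 12
  set N := normalizer ((D.P : Subgroup G) : Set G) with hN
  set C := centralizer ((D.P : Subgroup G) : Set G) with hC
  have hNc : Nat.card N = 6072 := by rw [hN, D.norm_P]
  obtain ⟨Y, hY⟩ : ∃ Y : Sylow 11 N, (⟨y, hyN⟩ : N) ∈ (Y : Subgroup N) := by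
    obtain ⟨Y, hY⟩ := (IsPGroup.of_card (n := 1) (by rw [Nat.card_zpowers, Subgroup.orderOf_mk, hyo, pow_one]) :
      IsPGroup 11 (zpowers (⟨y, hyN⟩ : N))).exists_le_sylow
    exact ⟨Y, hY (mem_zpowers _)⟩
  have hY11 : Nat.card (Y : Subgroup N) = 11 := by
    rw [card_sylow_eq Y (a := 1) (m := 552) (by rw [hNc]; norm_num) (by norm_num), pow_one]
  have hYz : zpowers (⟨y, hyN⟩ : N) = (Y : Subgroup N) := eq_of_le_of_card_ge (zpowers_le.2 hY) (by
    rw [Nat.card_zpowers, Subgroup.orderOf_mk, hyo, hY11])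
  set ψ := normalizerMonoidHom (D.P : Subgroup G) with hψ
  have hcyc : IsCyclic (D.P : Subgroup G) := isCyclic_of_prime_card D.card_P
  have hautc : ∀ f f' : MulAut (D.P : Subgroup G), f * f' = f' * f := by
    intro f f'
    obtain ⟨m, hm⟩ := MonoidHom.map_cyclic f.toMonoidHom
    obtain ⟨m', hm'⟩ := MonoidHom.map_cyclic f'.toMonoidHom
    ext g
    show ((f (f' g) : (D.P : Subgroup G)) : G) = ((f' (f g) : (D.P : Subgroup G)) : G)
    have hm1 : ∀ g, f g = g ^ m := hm
    have hm2 : ∀ g, f' g = g ^ m' := hm'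
    rw [hm2, hm1, hm1, hm2, ← zpow_mul, ← zpow_mul, mul_comm]
  have hCN : ∀ w ∈ normalizer (Y : Set N), Commute (w : N) ⟨y, hyN⟩ := by
    intro w hw
    set yN : N := ⟨y, hyN⟩
    have h1 : w * yN * w⁻¹ ∈ (Y : Subgroup N) := (mem_normalizer_iff.1 hw yN).1 hY
    have h2 : (w * yN * w⁻¹) * yN⁻¹ ∈ (Y : Subgroup N) := mul_mem h1 (inv_mem hY)
    have h3 : (w * yN * w⁻¹) * yN⁻¹ ∈ C.subgroupOf N := by
      have hker : C.subgroupOf N = ψ.ker := (normalizerMonoidHom_ker _).symm
      rw [hker, MonoidHom.mem_ker, map_mul, map_mul, map_mul, map_inv, map_inv,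
        hautc (ψ w) (ψ yN), mul_inv_cancel_right, mul_inv_cancel]
    have h4 := Subgroup.orderOf_dvd_natCard _ h2
    have h5 := Subgroup.orderOf_dvd_natCard _ h3
    rw [hY11] at h4
    rw [Nat.card_congr (subgroupOfEquivOfLe (centralizer_le_normalizer _)).toEquiv, D.cent_P] at h5
    have h6 : orderOf (w * yN * w⁻¹ * yN⁻¹) = 1 := by
      have := Nat.dvd_gcd h4 h5
      simpa using this
    have h7 := orderOf_eq_one_iff.1 h6
    exact mul_inv_eq_iff_eq_mul.1 (mul_inv_eq_one.1 h7)
  have hidx : Nat.card (Sylow 11 N) * Nat.card (normalizer (Y : Set N)) = 6072 := by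
    rw [Y.card_eq_index_normalizer, ← hNc, mul_comm]
    exact Subgroup.card_mul_index _
  have hK' : K.subgroupOf N ≤ normalizer (Y : Set N) := by
    intro w hw
    show w ∈ normalizer ((Y : Subgroup N) : Set N)
    have hwy : Commute w (⟨y, hyN⟩ : N) := Subtype.ext (mem_centralizer_singleton_iff.1 (hKy hw))
    rw [mem_normalizer_iff]
    intro a
    rw [← hYz]
    constructor
    · rintro ⟨k, rfl⟩
      exact ⟨k, by show _ = w * (⟨y, hyN⟩ : N) ^ k * w⁻¹; rw [(hwy.zpow_right k).eq, mul_inv_cancel_right]⟩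
    · rintro ⟨k, hk⟩
      refine ⟨k, ?_⟩
      have hk' : (⟨y, hyN⟩ : N) ^ k = w * a * w⁻¹ := hk
      calc (⟨y, hyN⟩ : N) ^ k = w⁻¹ * ((⟨y, hyN⟩ : N) ^ k * w) := by
            rw [← (hwy.zpow_right k).eq, inv_mul_cancel_left]
        _ = a := by rw [hk']; group
  have h132 : 132 ∣ Nat.card (normalizer (Y : Set N)) := by
    refine (show Nat.Coprime 12 11 by norm_num).mul_dvd_of_dvd_of_dvd ?_ ?_
    · rw [← hKc, ← Nat.card_congr (subgroupOfEquivOfLe (hKC.trans (centralizer_le_normalizer _))).toEquiv]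
      exact card_dvd_of_le hK'
    · exact (dvd_of_eq hY11.symm).trans (card_dvd_of_le le_normalizer)
  have hn1 := card_sylow_modEq_one 11 N
  rw [Nat.ModEq, Nat.one_mod] at hn1
  have h46 : Nat.card (Sylow 11 N) ∣ 46 := by
    obtain ⟨q, hq⟩ := h132
    rw [hq] at hidx
    exact ⟨q, by nlinarith⟩
  have hle46 := Nat.le_of_dvd (by norm_num) h46
  have hn23 : Nat.card (normalizer (Y : Set N)) = 264 := by
    rcases (show Nat.card (Sylow 11 N) = 1 ∨ Nat.card (Sylow 11 N) = 23 by
      interval_cases hn : Nat.card (Sylow 11 N) <;> simp_all) with h1 | h1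
    · exfalso
      rw [h1, one_mul, ← hNc] at hidx
      obtain ⟨x, hx, hxo⟩ := D.exists_elt
      have htop := eq_top_of_card_eq _ hidx
      have hxN : x ∈ N := le_normalizer hx
      have := congrArg Subtype.val (hCN ⟨x, hxN⟩ (htop ▸ mem_top _)).eq
      have hyC : y ∈ C := by
        rw [hC, CfsgLib.Block.Cyclic.mem_centralizer_iff_commute D.card_P hx (fun e1 => by
          rw [e1, orderOf_one] at hxo; norm_num at hxo)]
        exact this.symm
      have h9 := Subgroup.orderOf_dvd_natCard _ hyC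
      rw [hC, D.cent_P, hyo] at h9
      norm_num at h9
    · rw [h1] at hidx; omega
  have hle : (normalizer (Y : Set N)).map N.subtype ≤ centralizer ({y} : Set G) := by
    rintro _ ⟨w, hw, rfl⟩
    exact mem_centralizer_singleton_iff.2 (congrArg Subtype.val (hCN w hw).eq)
  have := card_dvd_of_le hle
  rw [card_map_of_injective N.subtype_injective, hn23, hCy] at this
  exact (show Nat.Coprime 24 11 by norm_num).dvd_of_dvd_mul_left ((show 24 ∣ 264 by norm_num).trans this)

end Data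

/-- The data at the prime 23. -/
theorem exists_twentythree (h : Nat.card G = 10200960) [Fact (Nat.Prime 23)] [Fact (Nat.Prime 11)] :
    Nonempty (PData G 23 11 1) := by
  classical
  haveI : Fact (Nat.Prime 3) := ⟨by norm_num⟩
  obtain ⟨n, e, c, hn, hn1, hn2, he2, hep, hpc, ⟨D⟩⟩ :=
    exists_pdata (noncomm h) 23 443520 (by norm_num) (by rw [h]) (by norm_num)
  have hposs := possible'_eq D h (extra := fun _ => true) (by norm_num) hep he2 hpc (fun _ _ => rfl)
  have hel : e ∈ [2, 11, 22] := by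
    have := Nat.le_of_dvd (by norm_num) hep
    interval_cases e <;> simp_all
  have hc : 443520 / (n * e) = c := by
    rw [show 443520 = n * e * c by rw [← hn]; ring, Nat.mul_div_cancel_left _ (Nat.mul_pos (by omega) (by omega))]
  have hd : 443520 % (n * e) = 0 := Nat.mod_eq_zero_of_dvd ⟨c, by rw [← hn]; ring⟩
  have hmem := test_23 n (mem_divs ((show n ∣ 443520 from ⟨e * c, hn.symm⟩).trans (by norm_num))) e hel
    (by omega) hn2 hd
  rw [hc, hposs] at hmem
  simp only [List.mem_cons, List.not_mem_nil, or_false, Prod.mk.injEq, Bool.true_eq_false] at hmem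
  by_cases h1 : e = 11 ∧ c = 1
  · obtain ⟨rfl, rfl⟩ := h1
    exact ⟨D⟩
  exfalso
  have hec : (e = 11 ∧ c = 576) ∨ (e = 22 ∧ c = 288) ∨ (e = 11 ∧ c = 24) ∨ (e = 22 ∧ c = 12) := by tauto
  obtain ⟨n', e', c', hn', hn1', hn2', he2', hep', hpc', ⟨D'⟩⟩ :=
    exists_pdata (noncomm h) 11 927360 (by norm_num) (by rw [h]) (by norm_num)
  obtain ⟨h24, hbig⟩ := twenty_four_dvd D D' hec
  have hc1 : 1 < c := by omega
  have hposs' := possible'_eq D' h (extra := not23) (by norm_num) hep' he2' hpc'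
    (fun χ _ => by simpa [not23] using no_deg_23 D h hpc hc1 χ)
  have hel' : e' ∈ [2, 5, 10] := by
    have := Nat.le_of_dvd (by norm_num) hep'
    interval_cases e' <;> simp_all
  have hc2 : 927360 / (n' * e') = c' := by
    rw [show 927360 = n' * e' * c' by rw [← hn']; ring,
      Nat.mul_div_cancel_left _ (Nat.mul_pos (by omega) (by omega))]
  have hd' : 927360 % (n' * e') = 0 := Nat.mod_eq_zero_of_dvd ⟨c', by rw [← hn']; ring⟩
  have hmem' := test_11_big n' (mem_divs ((show n' ∣ 927360 from ⟨e' * c', hn'.symm⟩).trans (by norm_num))) e' hel'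
    (by omega) hn2' hd' (by rw [hc2]; exact Nat.mod_eq_zero_of_dvd h24)
  rw [hc2, hposs'] at hmem'
  simp only [List.mem_cons, List.not_mem_nil, or_false, Bool.true_eq_false] at hmem'
  have hec' : (e = 11 ∧ c = 24) ∨ (e = 22 ∧ c = 12) := by
    rcases hec with ⟨-, rfl⟩ | ⟨-, rfl⟩ | h' | h'
    · have := Nat.le_of_dvd (by omega) (hbig (by simp))
      omega
    · have := Nat.le_of_dvd (by omega) (hbig (by simp))
      omega
    · exact Or.inl h'
    · exact Or.inr h'
  have h9 : 9 ∣ c' := by rcases hmem' with rfl | rfl <;> norm_num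
  obtain ⟨K, y, hKc, hKC, hKy, hyo, hyN⟩ := exists_eleven_elt D
    (by rcases hec' with ⟨-, rfl⟩ | ⟨-, rfl⟩ <;> simp) (by rcases hec' with ⟨rfl, -⟩ | ⟨rfl, -⟩ <;> simp)
  have hCy := D'.cent_of_order hyo
  obtain ⟨u', hu'⟩ := exists_prime_orderOf_dvd_card' (G := K) 3
    (by rw [hKc]; rcases hec' with ⟨-, rfl⟩ | ⟨-, rfl⟩ <;> norm_num)
  set u : G := (u' : G) with hu
  have huo : orderOf u = 3 := by rw [hu, Subgroup.orderOf_coe, hu']
  have huy : u * y = y * u := mem_centralizer_singleton_iff.1 (hKy u'.2)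
  set Cy := centralizer ({y} : Set G) with hCydef
  obtain ⟨W', hW'c, huW⟩ := Sylow.exists_subgroup_card_pow_succ (G := Cy) (p := 3) (n := 1)
    (H := zpowers (⟨u, mem_centralizer_singleton_iff.2 huy⟩ : Cy))
    (by rw [hCy]; exact (show (3 : ℕ) ^ (1 + 1) = 9 by norm_num) ▸ h9.mul_left 11)
    (by rw [Nat.card_zpowers, Subgroup.orderOf_mk, huo, pow_one])
  set W := W'.map Cy.subtype with hW
  have hW9 : Nat.card W = 9 := by rw [hW, card_map_of_injective Cy.subtype_injective, hW'c]; norm_num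
  have huWm : u ∈ W := ⟨_, huW (mem_zpowers _), rfl⟩
  have hWy : ∀ w ∈ W, w * y = y * w := by
    rintro _ ⟨w, -, rfl⟩
    exact mem_centralizer_singleton_iff.1 w.2
  have hWab : IsMulCommutative W := IsPGroup.isMulCommutative_of_card_eq_prime_sq (p := 3) (hW9.trans (by norm_num))
  set H := centralizer ({u} : Set G) with hH
  have hWH : W ≤ H := fun w hw => mem_centralizer_singleton_iff.2
    (congrArg Subtype.val (hWab.is_comm.comm (⟨w, hw⟩ : W) ⟨u, huWm⟩))
  have hPH : (D.P : Subgroup G) ≤ H := fun x hx =>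
    mem_centralizer_singleton_iff.2 (mem_centralizer_iff.1 (hKC u'.2) x hx)
  have hyH : y ∈ H := mem_centralizer_singleton_iff.2 huy.symm
  obtain ⟨j, hj, hcard⟩ := sylow_split D.P hPH
  set I := H ⊓ normalizer ((D.P : Subgroup G) : Set G) with hI
  have huI : u ∈ I := ⟨mem_centralizer_singleton_iff.2 rfl, centralizer_le_normalizer _ (hKC u'.2)⟩
  have hId : Nat.card I ∣ 6072 := by
    have := card_dvd_of_le (inf_le_right : I ≤ normalizer ((D.P : Subgroup G) : Set G))
    rw [D.norm_P] at this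
    rcases hec' with ⟨rfl, rfl⟩ | ⟨rfl, rfl⟩ <;> exact this.trans (by norm_num)
  have h759 : 759 ∣ Nat.card I := by
    rw [show (759 : ℕ) = 23 * 11 * 3 by norm_num]
    refine (show Nat.Coprime (23 * 11) 3 by norm_num).mul_dvd_of_dvd_of_dvd
      ((show Nat.Coprime 23 11 by norm_num).mul_dvd_of_dvd_of_dvd ?_ ?_) ?_
    · exact D.card_P ▸ card_dvd_of_le (le_inf hPH le_normalizer)
    · exact hyo ▸ Subgroup.orderOf_dvd_natCard I ⟨hyH, hyN⟩
    · exact huo ▸ Subgroup.orderOf_dvd_natCard I huI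
  have hjg : j * 759 ∣ 10200960 := h ▸ ((Nat.mul_dvd_mul_left j h759).trans
    (hcard ▸ card_subgroup_dvd_card H))
  have hj13 : j ∣ 13440 := by
    rw [show (10200960 : ℕ) = 13440 * 759 by norm_num] at hjg
    exact Nat.dvd_of_mul_dvd_mul_right (by norm_num) hjg
  have h9H : 9 ∣ j * Nat.card I := hcard ▸ hW9 ▸ card_dvd_of_le hWH
  have h3j : j % 3 = 0 := by
    by_contra h0
    have hcp : Nat.Coprime 9 j := Nat.Coprime.pow_left 2 ((Nat.Prime.coprime_iff_not_dvd Nat.prime_three).2
      fun hd => h0 (Nat.mod_eq_zero_of_dvd hd))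
    have := (hcp.dvd_of_dvd_mul_left h9H).trans hId
    norm_num at this
  rcases j_cases j (mem_divs (hj13.trans (by norm_num))) (Nat.mod_eq_zero_of_dvd hj13) hj h3j with rfl | rfl
  swap
  · have hHtop : H ≠ ⊤ := fun ht => by
      have := CfsgLib.Perm.PrimeBlock.center_trivial (noncomm h) (g := u) fun a =>
        (mem_centralizer_singleton_iff.1 (ht ▸ mem_top a : a ∈ H)).symm
      rw [this, orderOf_one] at huo
      norm_num at huo
    have hidx : H.index ≤ 8 := by
      have h1 := H.card_mul_index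
      rw [hcard, h] at h1
      have h2 : 1680 * 759 * H.index ≤ 10200960 := by
        rw [← h1]
        exact Nat.mul_le_mul_right _ (Nat.mul_le_mul_left _ (Nat.le_of_dvd Nat.card_pos h759))
      omega
    obtain ⟨g, hg⟩ : ∃ g, g ∉ H := by
      by_contra hno
      push Not at hno
      exact hHtop (eq_top_iff.2 fun g _ => hno g)
    have hd2 := CfsgLib.Invol.two_mul_card_dvd_factorial (noncomm h) (α := G ⧸ H)
      ⟨g, ((1 : G) : G ⧸ H), fun e1 => hg (by
        rw [MulAction.Quotient.smul_coe, smul_eq_mul, mul_one, eq_comm, QuotientGroup.eq] at e1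
        simpa using e1)⟩
    rw [h, ← Subgroup.index_eq_card] at hd2
    have := Nat.le_of_dvd (Nat.factorial_pos _) hd2
    have := Nat.factorial_le hidx
    norm_num [Nat.factorial] at this
    omega
  have hHd : Nat.card H ∣ 145728 := by
    rw [hcard, show (145728 : ℕ) = 24 * 6072 by norm_num]
    exact Nat.mul_dvd_mul_left _ hId
  obtain ⟨Y, hY⟩ := (IsPGroup.of_card (n := 1) (by rw [Nat.card_zpowers, Subgroup.orderOf_mk, hyo, pow_one]) :
      IsPGroup 11 (zpowers (⟨y, hyH⟩ : H))).exists_le_sylow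
  have hY11 : Nat.card (Y : Subgroup H) = 11 := by
    obtain ⟨k, hk⟩ := IsPGroup.iff_card.1 Y.isPGroup'
    have h1 := (hk ▸ card_subgroup_dvd_card (Y : Subgroup H)).trans hHd
    have h2 := card_dvd_of_le hY
    rw [Nat.card_zpowers, Subgroup.orderOf_mk, hyo, hk] at h2
    have hk1 : k < 2 := by
      by_contra hk2
      exact absurd ((pow_dvd_pow 11 (by omega : 2 ≤ k)).trans h1) (by norm_num)
    interval_cases k
    · norm_num at h2
    · rw [hk, pow_one]
  have hyY : (⟨y, hyH⟩ : H) ∈ (Y : Subgroup H) := hY (mem_zpowers _)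
  have hYz : zpowers (⟨y, hyH⟩ : H) = (Y : Subgroup H) := eq_of_le_of_card_ge (zpowers_le.2 hyY) (by
    rw [Nat.card_zpowers, Subgroup.orderOf_mk, hyo, hY11])
  have hWc : ∀ w ∈ W.subgroupOf H, Commute w (⟨y, hyH⟩ : H) := fun w hw => Subtype.ext (hWy _ hw)
  have hW' : Nat.card (W.subgroupOf H) = 9 := by rw [Nat.card_congr (subgroupOfEquivOfLe hWH).toEquiv, hW9]
  have h99 : 99 ∣ Nat.card (normalizer (Y : Set H)) := by
    refine (show Nat.Coprime 9 11 by norm_num).mul_dvd_of_dvd_of_dvd ?_ ?_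
    · rw [← hW']
      refine card_dvd_of_le fun w hw => ?_
      show w ∈ normalizer ((Y : Subgroup H) : Set H)
      rw [mem_normalizer_iff]
      intro a
      rw [← hYz]
      constructor
      · rintro ⟨k, rfl⟩
        exact ⟨k, by show _ = w * (⟨y, hyH⟩ : H) ^ k * w⁻¹; rw [((hWc w hw).zpow_right k).eq, mul_inv_cancel_right]⟩
      · rintro ⟨k, hk⟩
        refine ⟨k, ?_⟩
        have hk' : (⟨y, hyH⟩ : H) ^ k = w * a * w⁻¹ := hk
        calc (⟨y, hyH⟩ : H) ^ k = w⁻¹ * ((⟨y, hyH⟩ : H) ^ k * w) := by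
              rw [← ((hWc w hw).zpow_right k).eq, inv_mul_cancel_left]
          _ = a := by rw [hk']; group
    · exact (dvd_of_eq hY11.symm).trans (card_dvd_of_le le_normalizer)
  have hn1472 : Nat.card (Sylow 11 H) ∣ 1472 := by
    have h1 := (normalizer (Y : Set H)).card_mul_index
    rw [← Y.card_eq_index_normalizer] at h1
    have h2 : 99 * Nat.card (Sylow 11 H) ∣ 99 * 1472 :=
      (Nat.mul_dvd_mul_right h99 _).trans (h1.symm ▸ hHd.trans (by norm_num))
    exact Nat.dvd_of_mul_dvd_mul_left (by norm_num) h2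
  have hm11 := card_sylow_modEq_one 11 H
  rw [Nat.ModEq, Nat.one_mod] at hm11
  rcases n_eleven_cases _ (Nat.lt_succ_of_le (Nat.le_of_dvd (by norm_num) hn1472))
    (Nat.mod_eq_zero_of_dvd hn1472) hm11 with h1 | h23
  · haveI : Subsingleton (Sylow 11 H) := (Nat.card_eq_one_iff_unique.1 h1).1
    haveI := Y.normal_of_subsingleton
    obtain ⟨x, hx, hxo⟩ := D.exists_elt
    have hxN : (⟨x, hPH hx⟩ : H) ∈ normalizer ((Y : Subgroup H) : Set H) := by
      rw [normalizer_eq_top]; exact mem_top _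
    have hle := prime_centralizes (G := H) (p := 23) (y := ⟨x, hPH hx⟩) (by rw [Subgroup.orderOf_mk, hxo]) hxN
      fun d hd hmod => by
        rw [hY11] at hd hmod ⊢
        rcases (Nat.dvd_prime (by norm_num)).1 hd with rfl | rfl <;> simp at hmod ⊢
    have hxy : y * x = x * y := congrArg Subtype.val (mem_centralizer_singleton_iff.1 (hle hyY))
    have hyC : y ∈ centralizer ((D.P : Subgroup G) : Set G) :=
      (CfsgLib.Block.Cyclic.mem_centralizer_iff_commute D.card_P hx
        (fun e1 => by rw [e1, orderOf_one] at hxo; norm_num at hxo) y).2 hxy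
    have h9 := Subgroup.orderOf_dvd_natCard _ hyC
    rw [D.cent_P, hyo] at h9
    rcases hec' with ⟨-, rfl⟩ | ⟨-, rfl⟩ <;> norm_num at h9
  · obtain ⟨v, hv, hvN⟩ := exists_23_normalizing Y hY11 h23 hyY (by rw [Subgroup.orderOf_mk, hyo]) hW' hWc
      (fun hd => absurd (hd.trans hHd) (by norm_num)) (fun hd => absurd (hd.trans hHd) (by norm_num))
    have hle := prime_centralizes (G := H) (p := 23) hv hvN fun d hd hmod => by
      rw [hW'] at hd hmod ⊢
      have := Nat.le_of_dvd (by norm_num) hd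
      interval_cases d <;> simp_all
    have hvo : orderOf (v : G) = 23 := by rw [Subgroup.orderOf_coe, hv]
    have hsub : W ≤ centralizer ({(v : G)} : Set G) := fun w hw =>
      mem_centralizer_singleton_iff.2 (congrArg Subtype.val
        (mem_centralizer_singleton_iff.1 (hle (show (⟨w, hWH hw⟩ : H) ∈ W.subgroupOf H from hw))))
    have h1 := card_dvd_of_le hsub
    rw [hW9, D.cent_of_order hvo] at h1
    rcases hec' with ⟨-, rfl⟩ | ⟨-, rfl⟩ <;> norm_num at h1

end CfsgLib.Char.MTwentyThreeOrder
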