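import Cfsg.Agent.Lib.Char.MTwentyThreeOrder.Phase.Seven
import Cfsg.Agent.Lib.Char.MTwentyThreeOrder.Phase.TwentyThree

/-!
# Simple groups of order 10200960: the degrees and the column of an involution
-/

set_option autoImplicit false
set_option linter.all false
set_option maxRecDepth 8000

open Cfsg CfsgLib.Perm.PrimeBlock CfsgLib.Block Finset CfsgLib.Char.MEleven.Order CfsgLib.Char.MTwelveOrder
open CfsgLib.Char.MTwentyTwoOrder (PData blockDegs sum_of_map)

namespace CfsgLib.Char.MTwentyThreeOrder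

universe u

/-- The degrees. -/
def degList : List ℕ := 1 :: (degsA ++ [231, 231, 231, 22, 990, 990, 770, 770] ++ [2024, 253])

/-- The values at an involution by degree. -/
def valT (d : ℕ) : ℤ :=
  if d = 1 then 1 else if d = 22 then 6 else if d = 45 then -3 else if d = 230 then 22 else if d = 231 then 7
  else if d = 253 then 13 else if d = 770 then -14 else if d = 990 then -18 else if d = 1035 then 27
  else if d = 2024 then 8 else 0

/-- The list at 23 of the Mathieu group. -/
def sixOne : List ℤ := [231, 231, 231, -45, -45, -22, 990, 990, -896, -896]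

theorem sixOne_degs : ((blockDegs 2 sixOne).filter fun d => d % 11 == 0) = [231, 231, 231, 22, 990, 990, 770, 770] ∧
    restSq (blockDegs 2 sixOne) = 64009 ∧ (blockDegs 2 sixOne).count 990 = 2 := by decide +kernel

theorem threeSix_count : ∀ l ∈ threeSix, (blockDegs 2 l).count 990 = 2 := by decide +kernel

theorem valA_eq : ∀ d ∈ degsA, valA d = valT d := by decide +kernel

theorem valT_sums : (degList.map fun d : ℕ => (d : ℤ) * valT d).sum = 0 ∧
    (degList.map fun d : ℕ => valT d * valT d).sum = 2688 := by decide +kernel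

variable {G : Type u} [Group G] [Fintype G] [IsSimpleGroup G]
variable [Fact (Nat.Prime 23)] [Fact (Nat.Prime 11)]

/-- The degrees in the case of the Mathieu group. -/
theorem sum_degList [Fact (Nat.Prime 5)] (h : Nat.card G = 10200960) [Fintype (IrrCharacter G)] (D23 : PData G 23 11 1)
    (D11 : PData G 11 5 1) (ψ : IrrCharacter G) (hψ : dg ψ = 2024)
    {X11 : List (IrrCharacter G)} (hX11 : List.Perm X11 D11.S.X.toList) (hl : X11.map (sd D11.S) = elevenA)
    {X23 : List (IrrCharacter G)} (hX23 : List.Perm X23 D23.S.X.toList) (h23 : X23.map (sd D23.S) = sixOne) :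
    ∃ ν : IrrCharacter G, dg ν = 253 ∧ (∀ φ, dg φ = 253 → φ = ν) ∧
      ∀ f : ℕ → ℤ, ∑ φ : IrrCharacter G, f (dg φ) = (degList.map f).sum := by
  classical
  obtain ⟨hr0, -, hS⟩ := rest_bound h D23 D11 ψ hψ hX11 hl hX23
  have hb11 := D11.blk_degs (by norm_num) (by norm_num) hX11
  rw [hl, show ((11 - 1) / 5 : ℕ) = 2 from rfl, degsA_eq] at hb11
  have hb23 := D23.blk_degs (by norm_num) (by norm_num) hX23
  rw [h23, show ((23 - 1) / 11 : ℕ) = 2 from rfl] at hb23
  rw [h23, sixOne_degs.2.1] at hS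
  set R := (Finset.univ : Finset (IrrCharacter G)).filter fun φ => dg φ % 253 = 0 ∧ φ ≠ ψ with hR
  set B := D23.blk.filter fun φ => dg φ % 11 = 0 with hB
  have hBm : B.val.map dg = ↑([231, 231, 231, 22, 990, 990, 770, 770] : List ℕ) := by
    rw [← sixOne_degs.1, hB, Finset.filter_val,
      show (↑((blockDegs 2 sixOne).filter fun d => d % 11 == 0) : Multiset ℕ) =
        Multiset.filter (fun d => d % 11 = 0) (↑(blockDegs 2 sixOne) : Multiset ℕ) by rw [Multiset.filter_coe]; rfl,
      ← hb23, Multiset.filter_map]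
    congr 1
  have h11n : ∀ φ ∈ D11.blk, ¬ 11 ∣ dg φ := fun φ hφ => D11.blk_ndvd (by norm_num) (by norm_num) hφ
  have h23n : ∀ φ ∈ D23.blk, ¬ 23 ∣ dg φ := fun φ hφ => D23.blk_ndvd (by norm_num) (by norm_num) hφ
  have huniv : (Finset.univ : Finset (IrrCharacter G)) = insert (oneChar G) (D11.blk ∪ B ∪ insert ψ R) := by
    refine Finset.ext fun φ => ⟨fun _ => ?_, fun _ => Finset.mem_univ _⟩
    simp only [Finset.mem_insert, Finset.mem_union, hB, Finset.mem_filter, hR, Finset.mem_univ, true_and]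
    by_cases h1 : φ = oneChar G
    · exact Or.inl h1
    right
    by_cases h11 : 11 ∣ dg φ
    · by_cases h23' : 23 ∣ dg φ
      · refine Or.inr ((em (φ = ψ)).imp id fun hn => ⟨Nat.mod_eq_zero_of_dvd ?_, hn⟩)
        exact (show Nat.Coprime 11 23 by norm_num).mul_dvd_of_dvd_of_dvd h11 h23'
      · exact Or.inl (Or.inr ⟨D23.mem_blk_of rfl h1 h23', Nat.mod_eq_zero_of_dvd h11⟩)
    · exact Or.inl (Or.inl (D11.mem_blk_of rfl h1 h11))
  have hn1 : oneChar G ∉ D11.blk ∪ B ∪ insert ψ R := by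
    simp only [Finset.mem_insert, Finset.mem_union, hB, Finset.mem_filter, hR, Finset.mem_univ, true_and, not_or]
    exact ⟨⟨D11.one_notMem_blk, fun hh => D23.one_notMem_blk hh.1⟩, fun e => by rw [← e, dg_one] at hψ; omega,
      fun hh => by rw [dg_one] at hh; omega⟩
  have hd1 : Disjoint D11.blk B := Finset.disjoint_left.2 fun φ ha hb =>
    h11n φ ha (Nat.dvd_of_mod_eq_zero (Finset.mem_filter.1 hb).2)
  have hd2 : Disjoint (D11.blk ∪ B) (insert ψ R) := Finset.disjoint_left.2 fun φ ha hb => by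
    have h253 : 253 ∣ dg φ := by
      rcases Finset.mem_insert.1 hb with rfl | hb
      · rw [hψ]; norm_num
      · exact Nat.dvd_of_mod_eq_zero (Finset.mem_filter.1 hb).2.1
    rcases Finset.mem_union.1 ha with ha | ha
    · exact h11n φ ha ((show 11 ∣ 253 by norm_num).trans h253)
    · exact h23n φ (Finset.mem_filter.1 ha).1 ((show 23 ∣ 253 by norm_num).trans h253)
  have hn2 : ψ ∉ R := by simp [hR]
  have hsum : ∀ f : ℕ → ℤ, ∑ φ : IrrCharacter G, f (dg φ) =
      f 1 + ((degsA.map f).sum + (([231, 231, 231, 22, 990, 990, 770, 770] : List ℕ).map f).sum +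
        (f 2024 + ∑ φ ∈ R, f (dg φ))) := by
    intro f
    rw [huniv, Finset.sum_insert hn1, Finset.sum_union hd2, Finset.sum_union hd1, Finset.sum_insert hn2, dg_one, hψ,
      sum_of_map hb11 f, sum_of_map hBm f]
  have htot : ∑ φ : IrrCharacter G, ((dg φ * dg φ : ℕ) : ℤ) = 10200960 := by
    rw [show (10200960 : ℤ) = ((10200960 : ℕ) : ℤ) from rfl, ← h, ← sum_dg_sq]
    push_cast
    exact Finset.sum_congr rfl fun χ _ => by ring
  rw [hsum fun d : ℕ => ((d * d : ℕ) : ℤ)] at htot
  simp [degsA] at htot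
  have hRsum : ∑ φ ∈ R, (dg φ : ℤ) * dg φ = 64009 := by linarith
  have hle := hS R (fun φ hφ => Nat.dvd_of_mod_eq_zero (Finset.mem_filter.1 hφ).2.1) hn2
  obtain ⟨ν, hν⟩ : R.Nonempty := Finset.nonempty_iff_ne_empty.2 fun he => by
    rw [he, Finset.sum_empty] at hRsum; norm_num at hRsum
  have hbig : ∀ φ ∈ R, 253 ≤ dg φ := fun φ hφ => Nat.le_of_dvd (dg_pos φ)
    (Nat.dvd_of_mod_eq_zero (Finset.mem_filter.1 hφ).2.1)
  have hR1 : R = {ν} := by
    refine Finset.eq_singleton_iff_unique_mem.2 ⟨hν, fun φ hφ => by_contra fun hne => ?_⟩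
    have h2 := Finset.sum_le_sum_of_subset (f := fun φ => dg φ * dg φ)
      (show {φ, ν} ⊆ R by simp [Finset.insert_subset_iff, hφ, hν])
    rw [Finset.sum_pair hne] at h2
    have h3 := Nat.mul_le_mul (hbig φ hφ) (hbig φ hφ)
    have h4 := Nat.mul_le_mul (hbig ν hν) (hbig ν hν)
    simp at hle
    omega
  have hνd : dg ν = 253 := by
    rw [hR1, Finset.sum_singleton] at hRsum
    have h5 : dg ν * dg ν = 253 * 253 := by exact_mod_cast hRsum
    exact Nat.mul_self_inj.1 h5
  refine ⟨ν, hνd, fun φ hφ => ?_, fun f => ?_⟩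
  · have : φ ∈ R := Finset.mem_filter.2 ⟨Finset.mem_univ _, by rw [hφ], fun e => by rw [e, hψ] at hφ; omega⟩
    rw [hR1] at this
    exact Finset.mem_singleton.1 this
  · rw [hsum f, hR1, Finset.sum_singleton, hνd]
    simp only [degList, List.map_cons, List.map_append, List.map_nil, List.sum_cons, List.sum_append, List.sum_nil,
      add_zero]

variable [Fact (Nat.Prime 5)] [Fact (Nat.Prime 7)]

/-- The known part of a column. -/
structure Known (D23 : PData G 23 11 1) (D11 : PData G 11 5 1) (χ : IrrCharacter G) (u : G) : Prop where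
  order : orderOf u = 2
  cent : Nat.card (Subgroup.centralizer ({u} : Set G)) = 2688
  valEleven : ∀ φ ∈ D11.blk, iv φ u = valA (dg φ)
  val231 : dg χ = 231 ∧ iv χ u = 7
  val990 : ∀ φ, dg φ = 990 → iv φ u = -18
  val2024 : ∀ φ, dg φ = 2024 → iv φ u = 8
  budget : ∀ S : Finset (IrrCharacter G), (∀ φ ∈ S, φ ≠ χ ∧ dg φ ∉ [1, 45, 1035, 230, 896, 2024, 990]) →
    ∑ φ ∈ S, iv φ u * iv φ u ≤ 695

/-- The column is known outside few degrees. -/
theorem known_column (h : Nat.card G = 10200960) (D23 : PData G 23 11 1) (D11 : PData G 11 5 1) (D5 : PData G 5 4 3)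
    {X11 : List (IrrCharacter G)} (hX11 : List.Perm X11 D11.S.X.toList) (hl : X11.map (sd D11.S) = elevenA)
    {χ ψ : IrrCharacter G} (hχ : dg χ = 231) (hψ : dg ψ = 2024) {u : G} (hu : orderOf u = 2) (h7 : iv χ u = 7)
    (h8 : iv ψ u = 8) (hC : Nat.card (Subgroup.centralizer ({u} : Set G)) ∣ 2688)
    {c : ℕ} (D7 : PData G 7 3 c) {a b : IrrCharacter G} (hA : List.Perm [a, b] D7.S.X.toList)
    (ha : sd D7.S a = -1035) (hb : sd D7.S b = 2024)
    {X23 : List (IrrCharacter G)} (hX23 : List.Perm X23 D23.S.X.toList) (h23 : X23.map (sd D23.S) ∈ threeSix) :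
    Known D23 D11 χ u := by
  classical
  have hG := noncomm h
  have haX := D7.mem_X hA (χ := a) (by simp)
  have hbX := D7.mem_X hA (χ := b) (by simp)
  obtain ⟨hda, -, hva⟩ := of_sd D7 haX u ha
  obtain ⟨hdb, hvb, -⟩ := of_sd D7 hbX u hb
  have hbψ : b = ψ := only_2024 h D23 D11 hX11 hl hX23 hψ hdb
  have hb8 : sv D7.S u b = 8 := by rw [hvb (by norm_num), hbψ, h8]
  have hle := Nat.le_of_dvd (by norm_num) hC
  have h27 : iv a u = 27 := by
    have hz := zero_col_odd D7 hG (by norm_num) (by norm_num) (by norm_num) (zero_lt_c D7) (by norm_num) hu hA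
    simp only [List.map_cons, List.map_nil, ha, hb, hb8, hva (by norm_num)] at hz
    have hne : a ≠ oneChar G := D7.X_ne_one haX
    obtain ⟨hlt, h4⟩ := iv_bound hG a hne hu
    rw [hda] at hlt h4
    refine (seven_b _ (mem_valsB (by simpa using hlt) (by simpa using h4)
      (iv_le hG hu a hle (by norm_num)))).resolve_right fun hf => ?_
    rw [hf] at hz
    exact absurd hz (by simp)
  have hvA := blk_valA h D23 D11 D5 hX11 hl hu hC fun χ' hχ' => Or.inr (by
    have hmem : χ' ∈ ({a} : Finset (IrrCharacter G)) :=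
      mem_of_count D11 rfl (by norm_num) (by norm_num) hX11 (by norm_num) (by norm_num) {a}
        (fun φ' hφ' => by rw [Finset.mem_singleton.1 hφ', hda]; rfl)
        (by rw [hl, show ((11 - 1) / 5 : ℕ) = 2 from rfl, degsA_eq, six_count]; rfl) hχ'
    rw [Finset.mem_singleton.1 hmem, h27])
  have hY : ∀ θ ∈ D7.S.Y, dg θ = 990 ∧ iv θ u = -18 := by
    intro θ hθ
    obtain ⟨e1, e2⟩ := exc_eq D7 hG (by norm_num) hu hA hθ
    simp only [List.map_cons, List.map_nil, List.sum_cons, List.sum_nil, ha, hb, hb8, hva (by norm_num), h27]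
      at e1 e2
    norm_num at e1 e2
    rcases D7.S.sign with hs | hs <;> rw [hs] at e1 e2
    · exact ⟨by omega, by omega⟩
    · omega
  have h990 : ∀ φ : IrrCharacter G, dg φ = 990 → φ ∈ D7.S.Y := fun φ hφ =>
    mem_of_count D23 rfl (by norm_num) (by norm_num) hX23 (by norm_num) (by norm_num) D7.S.Y
      (fun θ hθ => (hY θ hθ).1) (by rw [D7.S.card_Y, threeSix_count _ h23]) hφ
  have hbound := known_bound h D11 hX11 hl hu hvA hχ hψ h7 h8
  have hYsum : ∑ θ ∈ D7.S.Y, iv θ u * iv θ u = 648 := by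
    rw [Finset.sum_congr rfl fun θ hθ => show iv θ u * iv θ u = 324 by rw [(hY θ hθ).2]; norm_num,
      Finset.sum_const, D7.S.card_Y]
    norm_num
  have hYcond : ∀ φ ∈ D7.S.Y, φ ≠ χ ∧ dg φ ∉ [1, 45, 1035, 230, 896, 2024] := fun φ hφ =>
    ⟨fun e => by have := (hY φ hφ).1; rw [e, hχ] at this; omega, by rw [(hY φ hφ).1]; decide⟩
  have hcent : Nat.card (Subgroup.centralizer ({u} : Set G)) = 2688 := by
    have h1 := hbound D7.S.Y hYcond
    rw [hYsum] at h1
    set C := Nat.card (Subgroup.centralizer ({u} : Set G))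
    have h2 : 1993 ≤ C := by omega
    obtain ⟨k, hk⟩ := hC
    rcases k with _ | _ | k
    · omega
    · omega
    · nlinarith
  refine ⟨hu, hcent, hvA, ⟨hχ, h7⟩, fun φ hφ => (hY φ (h990 φ hφ)).2, fun φ hφ => ?_, fun S hS => ?_⟩
  · rw [only_2024 h D23 D11 hX11 hl hX23 hψ hφ, h8]
  · have hdisj : Disjoint D7.S.Y S := Finset.disjoint_left.2 fun φ ha' hb' => (hS φ hb').2 (by
      rw [(hY φ ha').1]; simp)
    have h1 := hbound (D7.S.Y ∪ S) (fun φ hφ => by
      rcases Finset.mem_union.1 hφ with hφ | hφ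
      · exact hYcond φ hφ
      · obtain ⟨hne, hn⟩ := hS φ hφ
        refine ⟨hne, fun hm => hn ?_⟩
        simp only [List.mem_cons, List.not_mem_nil, or_false] at hm ⊢
        tauto)
    rw [Finset.sum_union hdisj, hYsum, hcent] at h1
    push_cast at h1
    linarith

/-- The exceptional value at 23. -/
theorem Known.exc {D23 : PData G 23 11 1} {D11 : PData G 11 5 1} {χ : IrrCharacter G} {u : G}
    (K : Known D23 D11 χ u) (h : Nat.card G = 10200960) {X23 : List (IrrCharacter G)}
    (hX23 : List.Perm X23 D23.S.X.toList) (hX : χ ∈ D23.S.X) {E : ℤ} (hE : 1 + (X23.map (sd D23.S)).sum = E)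
    (hE' : E.natAbs ∉ [1, 45, 1035, 230, 896, 2024, 990]) :
    (1 + (X23.map (sv D23.S u)).sum) ∈ valsB 18 E ∧
      ∀ θ ∈ D23.S.Y, dg θ = E.natAbs ∧ D23.S.ε * iv θ u = 1 + (X23.map (sv D23.S u)).sum := by
  classical
  have hG := noncomm h
  have hY : ∀ θ ∈ D23.S.Y, dg θ = E.natAbs ∧ D23.S.ε * iv θ u = 1 + (X23.map (sv D23.S u)).sum := by
    intro θ hθ
    obtain ⟨e1, e2⟩ := exc_eq D23 hG (by norm_num) K.order hX23 hθ
    refine ⟨?_, e2⟩
    rw [hE] at e1
    rw [← e1]
    rcases D23.S.sign with hs | hs <;> rw [hs] <;> simp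
  obtain ⟨θ, hθ⟩ := nonempty_Y D23.S (by norm_num : 11 ∣ 23 - 1) (by norm_num)
  refine ⟨hE ▸ exc_mem D23 hG (by norm_num) (by norm_num) (by norm_num) K.order hX23 hθ ?_, hY⟩
  have hS := K.budget D23.S.Y fun φ hφ => ⟨fun e => Finset.disjoint_left.1 D23.S.disjoint hX (e ▸ hφ), by
    rw [(hY φ hφ).1]; exact hE'⟩
  rw [Finset.sum_congr rfl fun φ hφ => show iv φ u * iv φ u = iv θ u * iv θ u by
      rw [iv_Y D23.S hφ hθ (by rw [K.order]; norm_num) fun ρ => val_invol hG ρ K.order],
    Finset.sum_const, D23.S.card_Y] at hS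
  norm_num at hS
  have hb1 : iv θ u ≤ 18 := by nlinarith
  have hb2 : -18 ≤ iv θ u := by nlinarith
  omega

/-- The sieve at 23 with the known values. -/
theorem Known.run {D23 : PData G 23 11 1} {D11 : PData G 11 5 1} {χ : IrrCharacter G} {u : G}
    (K : Known D23 D11 χ u) (h : Nat.card G = 10200960) {X23 : List (IrrCharacter G)}
    (hX23 : List.Perm X23 D23.S.X.toList) (hX : χ ∈ D23.S.X) (hsχ : sd D23.S χ = 231) {fr : List ℤ} {E : ℤ}
    (hperm : List.Perm ([231] ++ ([-45, -45, -896, -896] ++ ([990, 990] ++ fr))) (X23.map (sd D23.S)))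
    (hfr : ∀ s ∈ fr, s.natAbs ∉ [1, 45, 1035, 230, 896, 2024, 990])
    (hE : 1 + ([231] ++ ([-45, -45, -896, -896] ++ ([990, 990] ++ fr))).sum = E) (hE0 : E ≠ 0)
    (hEM : E ∣ 443520) (hdvd : ∀ s ∈ fr, s ∣ (443520 : ℤ)) (g : ℤ → List ℤ)
    (hg : ∀ r ∈ D23.S.X, r ≠ χ → sv D23.S u r ∈ valsB 26 (sd D23.S r) →
      sv D23.S u r ∈ g (sd D23.S r)) :
    sieveRun 443520 E (knownVals ++ [(990, [-18]), (990, [-18])] ++ fr.map fun s => (s, g s))
      (1 + (X23.map (sv D23.S u)).sum) = false := by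
  classical
  have hG := noncomm h
  set g' : ℤ → List ℤ := fun s => if s = -45 then [3] else if s = -896 then [0] else if s = 990 then [-18] else g s
    with hg'
  have hrun := run_false D23 hG (by norm_num) (by norm_num) (by norm_num) (by norm_num) K.order hX23 [χ]
    (by simp) (by simp [hX]) (l₁ := [-45, -45, -896, -896]) (l₂ := [990, 990] ++ fr)
    (by simpa [hsχ] using hperm) g' (fun r hr hrP => by
      simp only [List.mem_singleton] at hrP
      have hm := hperm.mem_iff.2 (List.mem_map_of_mem (f := sd D23.S) ((mem_blk_iff_perm D23 hX23).2 hr))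
      simp only [List.mem_append, List.mem_cons, List.not_mem_nil, or_false] at hm
      have hne : r ≠ oneChar G := fun e => D23.S.one_notMem_X (e ▸ hr)
      simp only [hg']
      split_ifs with e1 e2 e3
      · rw [(of_sd D23 hr u e1).2.2 (by norm_num), K.valEleven r (D11.mem_blk_of rfl hne (by
          rw [(of_sd D23 hr u e1).1]; norm_num)), (of_sd D23 hr u e1).1]
        simp [valA]
      · rw [(of_sd D23 hr u e2).2.2 (by norm_num), K.valEleven r (D11.mem_blk_of rfl hne (by
          rw [(of_sd D23 hr u e2).1]; norm_num)), (of_sd D23 hr u e2).1]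
        simp [valA]
      · rw [(of_sd D23 hr u e3).2.1 (by norm_num), K.val990 r (by rw [(of_sd D23 hr u e3).1]; rfl)]
        simp
      · have hsum := K.budget {r} (fun φ hφ => by
          rw [Finset.mem_singleton.1 hφ]
          refine ⟨hrP, ?_⟩
          rw [← natAbs_sd D23.S hr]
          rcases hm with e | (e | e | e | e) | (e | e) | e <;> first | exact hfr _ e | omega | (rw [e]; decide))
        rw [Finset.sum_singleton] at hsum
        have hb1 : iv r u ≤ 26 := by nlinarith
        have hb2 : -26 ≤ iv r u := by nlinarith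
        obtain ⟨h1, h4⟩ := sv_natAbs D23 hG K.order hr
        have hv : sv D23.S u r ∈ valsB 26 (sd D23.S r) := mem_valsB h1 h4 (by
          simp only [sv]
          rcases D23.S.sign_X r hr with hs | hs <;> rw [hs] <;> omega)
        exact hg r hr hrP hv)
    (M := 443520) (E := E) (by norm_num)
    (by
      simp only [List.map_cons, List.map_nil, hsχ, List.mem_append, List.mem_cons, List.not_mem_nil, or_false]
      rintro s (rfl | (rfl | rfl | rfl | rfl) | (rfl | rfl) | hs) <;> first | exact hdvd _ hs | norm_num)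
    (by simpa [hsχ] using hE) hE0 hEM
  have hdata : ([-45, -45, -896, -896] : List ℤ).map (fun s => (s, g' s)) ++
      [χ].map (fun r => (sd D23.S r, [sv D23.S u r])) ++ ([990, 990] ++ fr).map (fun s => (s, g' s)) =
      knownVals ++ [(990, [-18]), (990, [-18])] ++ fr.map fun s => (s, g s) := by
    rw [List.map_append, show fr.map (fun s => (s, g' s)) = fr.map fun s => (s, g s) from
      List.map_congr_left fun s hs => by
        have := hfr s hs
        simp only [List.mem_cons, List.not_mem_nil, or_false, not_or] at this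
        simp only [hg']
        rw [if_neg (by omega), if_neg (by omega), if_neg (by omega)]]
    simp [knownVals, hg', hsχ, (of_sd D23 hX u hsχ).2.1 (by norm_num), K.val231.2]
  rw [hdata] at hrun
  exact hrun

theorem threeSix_cases : ∀ l ∈ threeSix, l = sixOne ∨ ∃ q ∈ [([-22, -22, -22], (264 : ℤ)), ([-528, 231, 231], 264),
    ([231, -528, -528], -495)], List.Perm ([231] ++ ([-45, -45, -896, -896] ++ ([990, 990] ++ q.1))) l := by
  decide +kernel

theorem none_props : ∀ q ∈ [([-22, -22, -22], (264 : ℤ)), ([-528, 231, 231], 264), ([231, -528, -528], -495)],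
    (∀ s ∈ q.1, s.natAbs ∉ [1, 45, 1035, 230, 896, 2024, 990]) ∧
    1 + ([231] ++ ([-45, -45, -896, -896] ++ ([990, 990] ++ q.1))).sum = q.2 ∧ q.2 ≠ 0 ∧ 443520 % q.2 = 0 ∧
      (∀ s ∈ q.1, (443520 : ℤ) % s = 0) ∧ q.2.natAbs ∉ [1, 45, 1035, 230, 896, 2024, 990, 231] := by decide +kernel

theorem sq_pair {b b' : ℤ} (h1 : b + b' = 14) (h2 : b * b + b' * b' = 98) : b = 7 ∧ b' = 7 := by
  constructor <;> nlinarith [mul_self_nonneg (b - 7), mul_self_nonneg (b' - 7)]

/-- A signed degree at 23 from the degree. -/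
theorem sd_231 {D23 : PData G 23 11 1} {X23 : List (IrrCharacter G)} (hX23 : List.Perm X23 D23.S.X.toList)
    (h23 : X23.map (sd D23.S) ∈ threeSix) {χ : IrrCharacter G} (hχ : dg χ = 231) (hX : χ ∈ D23.S.X) :
    sd D23.S χ = 231 := by
  have hm := List.mem_map_of_mem (f := sd D23.S) ((mem_blk_iff_perm D23 hX23).2 hX)
  have habs := natAbs_sd D23.S hX
  rw [hχ] at habs
  simp only [threeSix, List.mem_cons, List.not_mem_nil, or_false] at h23
  rcases h23 with e | e | e | e <;> rw [e] at hm <;> simp at hm <;> omega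

theorem mem_X23 (h : Nat.card G = 10200960) {D23 : PData G 23 11 1} {X23 : List (IrrCharacter G)}
    (hX23 : List.Perm X23 D23.S.X.toList) (h23 : X23.map (sd D23.S) ∈ threeSix) {φ : IrrCharacter G}
    (hd : dg φ ∈ [231, 22]) : φ ∈ D23.S.X := by
  haveI : Fact (Nat.Prime 2) := ⟨Nat.prime_two⟩
  obtain ⟨u, hu⟩ := exists_order h 2 (by norm_num)
  simp only [List.mem_cons, List.not_mem_nil, or_false] at hd
  refine (D23.mem_blk.1 (D23.mem_blk_of rfl (fun e => by rw [e, dg_one] at hd; omega) (by omega))).resolve_right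
    fun hY => ?_
  obtain ⟨e1, -⟩ := exc_eq D23 (noncomm h) (by norm_num) hu hX23 hY
  simp only [threeSix, List.mem_cons, List.not_mem_nil, or_false] at h23
  rcases h23 with e | e | e | e <;> rw [e] at e1 <;> rcases D23.S.sign with hs | hs <;> rw [hs] at e1 <;>
    norm_num at e1 <;> omega

/-- The degrees and the column of an involution. -/
theorem exists_table (h : Nat.card G = 10200960) [Fintype (IrrCharacter G)] :
    ∃ (c : ℕ) (D7 : PData G 7 3 c), c ∈ [128, 16, 2] ∧
      (∀ f : ℕ → ℤ, ∑ φ : IrrCharacter G, f (dg φ) = (degList.map f).sum) ∧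
      ∀ u : G, orderOf u = 2 →
        (∀ φ : IrrCharacter G, iv φ u = valT (dg φ)) ∧ Nat.card (Subgroup.centralizer ({u} : Set G)) = 2688 := by
  classical
  have hG := noncomm h
  obtain ⟨D23⟩ := exists_twentythree h
  obtain ⟨D11⟩ := exists_eleven h D23
  obtain ⟨D5, X5, X11, hX5, hl5, hX11, hl'⟩ := exists_five h D23 D11
  have hl := eleven_is_A h D23 D11 D5 hX11 hl'
  obtain ⟨χ, ψ, hχ, hψ, hv⟩ := five_vals h D23 D11 D5 hX5 hl5 hX11 hl
  obtain ⟨c, D7, a, b, X23, hc, hA, ha, hb, hX23, h23⟩ := exists_seven h D23 D11 D5 hX11 hl hχ hψ hv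
  have K : ∀ {u : G}, orderOf u = 2 → Known D23 D11 χ u := fun {u} hu =>
    known_column h D23 D11 D5 hX11 hl hχ hψ hu (hv u hu).1 (hv u hu).2.1 (hv u hu).2.2 D7 hA ha hb hX23 h23
  have hX := mem_X23 h hX23 h23 (φ := χ) (by rw [hχ]; simp)
  have hsχ := sd_231 hX23 h23 hχ hX
  haveI : Fact (Nat.Prime 2) := ⟨Nat.prime_two⟩
  obtain ⟨t, ht⟩ := exists_order h 2 (by norm_num)
  have hone : X23.map (sd D23.S) = sixOne := by
    refine (threeSix_cases _ h23).resolve_right ?_
    rintro ⟨q, hq, hperm⟩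
    obtain ⟨hfr, hE, hE0, hEM, hdvd, hE'⟩ := none_props q hq
    have hEsum : 1 + (X23.map (sd D23.S)).sum = q.2 := by rw [← hperm.sum_eq]; exact hE
    obtain ⟨hT, -⟩ := (K ht).exc h hX23 hX hEsum (fun hm => hE' (by
      simp only [List.mem_cons, List.not_mem_nil, or_false] at hm ⊢; tauto))
    have hrun := (K ht).run h hX23 hX hsχ hperm hfr hE hE0 (Int.dvd_of_emod_eq_zero hEM)
      (fun s hs => Int.dvd_of_emod_eq_zero (hdvd s hs)) (fun s => valsB 26 s) (fun r _ _ hv' => hv')
    have := table_none q hq _ hT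
    simp only [dataThree] at this
    rw [this] at hrun
    exact absurd hrun (by simp)
  obtain ⟨ν, hν, hνu, hdeg⟩ := sum_degList h D23 D11 ψ hψ hX11 hl hX23 hone
  refine ⟨c, D7, hc, hdeg, fun u hu => ⟨?_, (K hu).cent⟩⟩
  have Ku := K hu
  -- the three characters of degree 231 and the one of degree 22
  obtain ⟨R₁, R₂, hperm, hR1, hR2⟩ := exists_insert D23 hX23 [χ] (by simp) (by simp [hX]) (l₁ := ([] : List ℤ))
    (l₂ := [231, 231, -22, -45, -45, 990, 990, -896, -896]) (by rw [hone, List.map_singleton, hsχ]; decide)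
  obtain rfl : R₁ = [] := List.map_eq_nil_iff.1 hR1
  rcases R₂ with _ | ⟨r₁, _ | ⟨r₂, _ | ⟨φ, R₂⟩⟩⟩ <;> simp at hR2
  obtain ⟨hr1, hr2, hf, hrest⟩ := hR2
  simp only [List.nil_append, List.cons_append] at hperm
  have hnd := hperm.nodup_iff.2 (Finset.nodup_toList _)
  simp only [List.nodup_cons, List.mem_cons, not_or] at hnd
  have hr1X := D23.mem_X hperm (χ := r₁) (by simp)
  have hr2X := D23.mem_X hperm (χ := r₂) (by simp)
  have hfX := D23.mem_X hperm (χ := φ) (by simp)
  obtain ⟨dr1, vr1, -⟩ := of_sd D23 hr1X u hr1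
  obtain ⟨dr2, vr2, -⟩ := of_sd D23 hr2X u hr2
  obtain ⟨dφ, -, vφ⟩ := of_sd D23 hfX u hf
  have only : ∀ ρ : IrrCharacter G, (dg ρ = 231 → ρ = χ ∨ ρ = r₁ ∨ ρ = r₂) ∧ (dg ρ = 22 → ρ = φ) := by
    intro ρ
    refine ⟨fun hd => ?_, fun hd => ?_⟩ <;>
    · have hρ := mem_X23 h hX23 h23 (φ := ρ) (by rw [hd]; simp)
      have hm := (mem_blk_iff_perm D23 hperm).2 hρ
      simp only [List.mem_cons] at hm
      rcases hm with rfl | rfl | rfl | rfl | hm <;> first
        | (simp; done)
        | omega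
        | (have hs := List.mem_map_of_mem (f := sd D23.S) hm
           rw [hrest] at hs
           have habs := natAbs_sd D23.S hρ
           rw [hd] at habs
           simp at hs
           omega)
  -- the sieve
  have hEsum : 1 + (X23.map (sd D23.S)).sum = 770 := by rw [hone]; rfl
  obtain ⟨hT, hY⟩ := Ku.exc h hX23 hX hEsum (by decide)
  set T := 1 + (X23.map (sv D23.S u)).sum with hTdef
  have hY770 : ∀ θ ∈ D23.S.Y, dg θ = 770 ∧ iv θ u = T := fun θ hθ => by
    obtain ⟨e1, e2⟩ := hY θ hθ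
    obtain ⟨e3, -⟩ := exc_eq D23 hG (by norm_num) hu hX23 hθ
    rw [hEsum, e1] at e3
    rcases D23.S.sign with hs | hs <;> rw [hs] at e2 e3
    · exact ⟨e1, by linarith⟩
    · norm_num at e3
  have hv26 : sv D23.S u φ ∈ valsB 26 (-22) := by
    have hs := Ku.budget {φ} (fun ρ hρ => by
      rw [Finset.mem_singleton.1 hρ, dφ]
      exact ⟨fun e => by rw [e, hχ] at dφ; norm_num at dφ, by decide⟩)
    rw [Finset.sum_singleton] at hs
    obtain ⟨h1, h4⟩ := sv_natAbs D23 hG hu hfX
    rw [hf] at h1 h4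
    have hb1 : iv φ u ≤ 26 := by nlinarith
    have hb2 : -26 ≤ iv φ u := by nlinarith
    exact mem_valsB h1 h4 (by rw [vφ (by norm_num)]; omega)
  have hrun := Ku.run h hX23 hX hsχ (fr := [-22, 231, 231]) (E := 770) (by rw [hone]; decide) (by decide)
    (by decide) (by norm_num) (by norm_num) (by
      intro s hs
      simp only [List.mem_cons, List.not_mem_nil, or_false] at hs
      rcases hs with rfl | rfl | rfl <;> norm_num)
    (fun s => if s = -22 then [sv D23.S u φ] else valsB 26 s) (fun r hr hne hv' => by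
      split_ifs with e
      · rw [(only r).2 (by rw [← natAbs_sd D23.S hr, e]; rfl)]; simp
      · exact hv')
  simp only [List.map_cons, List.map_nil, if_true, show ((231 : ℤ) = -22) = False by simp, if_false] at hrun
  -- the values at the characters of degree 231
  have hsumX : T = 1 + (sv D23.S u χ + (sv D23.S u r₁ + (sv D23.S u r₂ + (sv D23.S u φ + (R₂.map (sv D23.S u)).sum)))) := by
    rw [hTdef, ((hX23.trans hperm.symm).map (sv D23.S u)).sum_eq]
    simp
  have hknown : (R₂.map (sv D23.S u)).sum = -30 := by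
    rcases R₂ with _ | ⟨x1, _ | ⟨x2, _ | ⟨x3, _ | ⟨x4, _ | ⟨x5, _ | ⟨x6, _ | ⟨_, R₃⟩⟩⟩⟩⟩⟩⟩ <;> simp at hrest
    obtain ⟨e1, e2, e3, e4, e5, e6⟩ := hrest
    have m : ∀ x ∈ [x1, x2, x3, x4, x5, x6], x ∈ D23.S.X := fun x hx => D23.mem_X hperm (by simp at hx ⊢; tauto)
    have k45 : ∀ x ∈ D23.S.X, sd D23.S x = -45 → sv D23.S u x = 3 := fun x hx e => by
      rw [(of_sd D23 hx u e).2.2 (by norm_num), Ku.valEleven x (D11.mem_blk_of rfl (D23.X_ne_one hx) (by
        rw [(of_sd D23 hx u e).1]; norm_num)), (of_sd D23 hx u e).1]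
      simp [valA]
    have k896 : ∀ x ∈ D23.S.X, sd D23.S x = -896 → sv D23.S u x = 0 := fun x hx e => by
      rw [(of_sd D23 hx u e).2.2 (by norm_num), Ku.valEleven x (D11.mem_blk_of rfl (D23.X_ne_one hx) (by
        rw [(of_sd D23 hx u e).1]; norm_num)), (of_sd D23 hx u e).1]
      simp [valA]
    have k990 : ∀ x ∈ D23.S.X, sd D23.S x = 990 → sv D23.S u x = -18 := fun x hx e => by
      rw [(of_sd D23 hx u e).2.1 (by norm_num), Ku.val990 x (by rw [(of_sd D23 hx u e).1]; rfl)]
    simp [k45 x1 (m x1 (by simp)) e1, k45 x2 (m x2 (by simp)) e2, k990 x3 (m x3 (by simp)) e3,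
      k990 x4 (m x4 (by simp)) e4, k896 x5 (m x5 (by simp)) e5, k896 x6 (m x6 (by simp)) e6]
  rw [hknown, (of_sd D23 hX u hsχ).2.1 (by norm_num), Ku.val231.2, vr1 (by norm_num), vr2 (by norm_num)] at hsumX
  obtain ⟨hT14, hφ6⟩ : T = -14 ∧ iv φ u = 6 := by
    rcases table_one T hT _ hv26 with ⟨h1, h2⟩ | ⟨h1, h2⟩ | h3
    · exact ⟨h1, by rw [vφ (by norm_num)] at h2; linarith⟩
    · exfalso
      rw [h1, h2] at hsumX
      have h10 : iv φ u = 10 := by rw [vφ (by norm_num)] at h2; linarith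
      obtain ⟨θ, hθ⟩ := nonempty_Y D23.S (by norm_num : 11 ∣ 23 - 1) (by norm_num)
      have hnY : ∀ {x}, x ∈ D23.S.X → x ∉ D23.S.Y := fun hx hy => Finset.disjoint_left.1 D23.S.disjoint hx hy
      have hs := Ku.budget (insert r₁ (insert r₂ (insert φ D23.S.Y))) (fun ρ hρ => by
        simp only [Finset.mem_insert] at hρ
        rcases hρ with rfl | rfl | rfl | hρ
        · exact ⟨Ne.symm hnd.1.1, by rw [dr1]; decide⟩
        · exact ⟨Ne.symm hnd.1.2.1, by rw [dr2]; decide⟩
        · exact ⟨Ne.symm hnd.1.2.2.1, by rw [dφ]; decide⟩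
        · exact ⟨fun e => hnY hX (e ▸ hρ), by rw [(hY770 ρ hρ).1]; decide⟩)
      rw [Finset.sum_insert (by simp [hnY hr1X, hnd.2.1.1, hnd.2.1.2.1]),
        Finset.sum_insert (by simp [hnY hr2X, hnd.2.2.1.1]), Finset.sum_insert (hnY hfX),
        Finset.sum_congr rfl fun ρ hρ => show iv ρ u * iv ρ u = 36 by rw [(hY770 ρ hρ).2, h1]; norm_num,
        Finset.sum_const, D23.S.card_Y, h10] at hs
      norm_num at hs
      nlinarith [mul_self_nonneg (iv r₁ u - iv r₂ u)]
    · simp only [List.append_assoc, List.cons_append, List.nil_append] at hrun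
      rw [h3] at hrun
      exact absurd hrun (by simp)
  have hb : iv r₁ u + iv r₂ u = 14 := by rw [hT14, vφ (by norm_num), hφ6] at hsumX; linarith
  -- corrections to the values
  have hε : ∀ ρ, ρ ≠ r₁ → ρ ≠ r₂ → dg ρ ≠ 253 → iv ρ u = valT (dg ρ) := by
    intro ρ n1 n2 n3
    by_cases h0 : ρ = oneChar G
    · rw [h0, iv_oneChar, dg_one]; rfl
    by_cases h11 : 11 ∣ dg ρ
    · by_cases h23' : 23 ∣ dg ρ
      · obtain ⟨k, hk⟩ := (show Nat.Coprime 11 23 by norm_num).mul_dvd_of_dvd_of_dvd h11 h23'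
        by_cases hd : dg ρ = 2024
        · rw [hd, Ku.val2024 ρ hd]; rfl
        exfalso
        have := hdeg fun d => if d = dg ρ then 1 else 0
        have hpos : 0 < ∑ φ : IrrCharacter G, (if dg φ = dg ρ then (1 : ℤ) else 0) :=
          Finset.sum_pos' (fun φ _ => by positivity) ⟨ρ, Finset.mem_univ _, by simp⟩
        rw [this] at hpos
        simp only [degList, degsA, List.cons_append, List.nil_append, List.map_cons, List.map_nil, List.sum_cons,
          List.sum_nil] at hpos
        repeat' split_ifs at hpos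
        all_goals omega
      · rcases D23.mem_blk.1 (D23.mem_blk_of rfl h0 h23') with hρ | hρ
        · have hd : dg ρ ∈ [231, 22, 990] := by
            have hm := List.mem_map_of_mem (f := sd D23.S) ((mem_blk_iff_perm D23 hX23).2 hρ)
            rw [hone] at hm
            have habs := natAbs_sd D23.S hρ
            simp [sixOne] at hm ⊢
            omega
          simp only [List.mem_cons, List.not_mem_nil, or_false] at hd
          rcases hd with hd | hd | hd
          · rcases (only ρ).1 hd with rfl | rfl | rfl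
            · rw [hd, Ku.val231.2]; rfl
            · exact absurd rfl n1
            · exact absurd rfl n2
          · rw [(only ρ).2 hd, hφ6, dφ]; rfl
          · rw [hd, Ku.val990 ρ hd]; rfl
        · rw [(hY770 ρ hρ).1, (hY770 ρ hρ).2, hT14]; rfl
    · have hmem := D11.mem_blk_of rfl h0 h11
      rw [Ku.valEleven ρ hmem]
      refine valA_eq _ ?_
      have := D11.mem_degs (by norm_num) (by norm_num) hX11 hmem
      rwa [hl, show ((11 - 1) / 5 : ℕ) = 2 from rfl, degsA_eq] at this
  set ε : IrrCharacter G → ℤ := fun ρ => iv ρ u - valT (dg ρ) with hεdef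
  have hval := fun ρ : IrrCharacter G => val_invol hG ρ hu
  have n12 : r₁ ≠ r₂ := hnd.2.1.1
  have hsub : ∀ g' : IrrCharacter G → ℤ, (∀ ρ, ε ρ = 0 → g' ρ = 0) →
      ∑ ρ : IrrCharacter G, g' ρ = g' r₁ + g' r₂ + g' ν := by
    intro g' hg'
    rw [← Finset.sum_subset (Finset.subset_univ {r₁, r₂, ν}) fun ρ _ hρ => hg' ρ (by
      simp only [Finset.mem_insert, Finset.mem_singleton, not_or] at hρ
      simp only [hεdef]
      rw [hε ρ hρ.1 hρ.2.1 fun e => hρ.2.2 (hνu ρ e), sub_self])]
    rw [Finset.sum_insert (by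
      simp only [Finset.mem_insert, Finset.mem_singleton, not_or]
      exact ⟨n12, fun e => by rw [e, hν] at dr1; norm_num at dr1⟩),
      Finset.sum_pair fun e => by rw [e, hν] at dr2; norm_num at dr2]
    ring
  have e1 : ∑ ρ : IrrCharacter G, (dg ρ : ℤ) * ε ρ = 0 := by
    simp only [hεdef, mul_sub, Finset.sum_sub_distrib]
    rw [hdeg fun d : ℕ => (d : ℤ) * valT d, valT_sums.1,
      sum_dg_iv (fun e => by rw [e, orderOf_one] at hu; norm_num at hu) hval]
    norm_num
  rw [hsub _ fun ρ e => by rw [e, mul_zero], dr1, dr2, hν] at e1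
  have hε12 : ε r₁ + ε r₂ = 0 := by simp only [hεdef, dr1, dr2]; norm_num [valT]; linarith
  have hεν : ε ν = 0 := by
    simp only [Int.reduceAbs, Int.natAbs_neg, Int.natAbs_natCast] at e1
    push_cast at e1
    nlinarith
  have e2 : ∑ ρ : IrrCharacter G, (2 * valT (dg ρ) * ε ρ + ε ρ * ε ρ) = 0 := by
    have hpt : ∀ ρ : IrrCharacter G, 2 * valT (dg ρ) * ε ρ + ε ρ * ε ρ =
        iv ρ u * iv ρ u - valT (dg ρ) * valT (dg ρ) := fun ρ => by simp only [hεdef]; ring
    rw [Finset.sum_congr rfl fun ρ _ => hpt ρ, Finset.sum_sub_distrib, hdeg fun d : ℕ => valT d * valT d,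
      valT_sums.2, sum_iv_sq hval, Ku.cent]
    norm_num
  rw [hsub _ fun ρ e => by rw [e]; ring, hεν, dr1, dr2] at e2
  norm_num [valT] at e2
  have z1 : ε r₁ = 0 := by nlinarith [mul_self_nonneg (ε r₁), mul_self_nonneg (ε r₂)]
  have z2 : ε r₂ = 0 := by linarith
  intro ρ
  have hz : ε ρ = 0 := by
    by_cases n1 : ρ = r₁
    · rw [n1, z1]
    by_cases n2 : ρ = r₂
    · rw [n2, z2]
    by_cases n3 : dg ρ = 253
    · rw [hνu ρ n3, hεν]
    simp only [hεdef, hε ρ n1 n2 n3, sub_self]
  simp only [hεdef] at hz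
  linarith

end CfsgLib.Char.MTwentyThreeOrder
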